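import Cfsg.Agent.REC.J3O.Defs

/-! Small lemmas. -/

set_option autoImplicit false
set_option linter.unusedSectionVars false

namespace CL.J3O

open Subgroup Cfsg
open scoped commutatorElement

variable {G : Type*} [Group G] {T E Y A P Q : Subgroup G} {b x s : G}

namespace Bas

theorem mem_nz {g : G} : g ∈ Nz E ↔ ∀ h, h ∈ E ↔ g * h * g⁻¹ ∈ E := by
  rw [Nz, mem_normalizer_iff]

theorem nz_cj {g h : G} (hg : g ∈ Nz E) (hh : h ∈ E) : g * h * g⁻¹ ∈ E := (mem_nz.1 hg h).1 hh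

theorem nz_cj' {g h : G} (hg : g ∈ Nz E) (hh : h ∈ E) : g⁻¹ * h * g ∈ E := by
  have := nz_cj (inv_mem hg) hh
  rwa [inv_inv] at this

theorem nz_of {g : G} (h1 : ∀ h ∈ E, g * h * g⁻¹ ∈ E) (h2 : ∀ h ∈ E, g⁻¹ * h * g ∈ E) : g ∈ Nz E := by
  rw [mem_nz]
  intro h
  refine ⟨h1 h, fun hh => ?_⟩
  have := h2 _ hh
  simpa [mul_assoc] using this

theorem mem_cj {t : G} : t ∈ cj x Y ↔ x⁻¹ * t * x ∈ Y := by
  constructor
  · rintro ⟨y, hy, rfl⟩
    simpa [mul_assoc] using hy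
  · intro h
    exact ⟨_, h, by simp [mul_assoc]⟩

theorem self_le_nz : E ≤ Nz E := Subgroup.le_normalizer

end Bas

open Bas

theorem sq_mem_Fr {e : G} (he : e ∈ E) : e * e ∈ Fr E := subset_closure ⟨e, he, rfl⟩

theorem Fr_le_iff : Fr E ≤ Y ↔ ∀ e ∈ E, e * e ∈ Y := by
  constructor
  · intro h e he
    exact h (sq_mem_Fr he)
  · intro h
    rw [Fr, closure_le]
    rintro _ ⟨e, he, rfl⟩
    exact h e he

theorem Fr_le : Fr E ≤ E := Fr_le_iff.2 fun _ he => mul_mem he he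

theorem Fr_mono (h : Y ≤ E) : Fr Y ≤ Fr E := Fr_le_iff.2 fun _ he => sq_mem_Fr (h he)

/-- `⁅a, b⁆ = a² (a⁻¹ b)² (b⁻¹)²` -/
theorem comm_mem_Fr {a c : G} (ha : a ∈ E) (hc : c ∈ E) : ⁅a, c⁆ ∈ Fr E := by
  have : ⁅a, c⁆ = (a * a) * ((a⁻¹ * c) * (a⁻¹ * c)) * (c⁻¹ * c⁻¹) := by
    rw [commutatorElement_def]; group
  rw [this]
  exact mul_mem (mul_mem (sq_mem_Fr ha) (sq_mem_Fr (mul_mem (inv_mem ha) hc))) (sq_mem_Fr (inv_mem hc))

theorem Bas.cj_Fr {g : G} (hg : g ∈ Nz E) {h : G} (hh : h ∈ Fr E) : g * h * g⁻¹ ∈ Fr E := by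
  have : Fr E ≤ (Fr E).comap (MulAut.conj g).toMonoidHom := by
    rw [Fr_le_iff]
    intro e he
    have : g * (e * e) * g⁻¹ = (g * e * g⁻¹) * (g * e * g⁻¹) := by group
    show g * (e * e) * g⁻¹ ∈ Fr E
    rw [this]
    exact sq_mem_Fr (nz_cj hg he)
  exact this hh

theorem Nz_le_Fr : Nz E ≤ Nz (Fr E) := by
  intro g hg
  refine nz_of (fun h hh => cj_Fr hg hh) (fun h hh => ?_)
  have := cj_Fr (inv_mem hg) hh
  rwa [inv_inv] at this

/-- a subgroup between `Fr E` and `E` is normal in `E` -/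
theorem le_Nz_of_Fr (h1 : Fr E ≤ Y) (h2 : Y ≤ E) : E ≤ Nz Y := by
  have key : ∀ g ∈ E, ∀ h ∈ Y, g * h * g⁻¹ ∈ Y := by
    intro g hg h hh
    have : g * h * g⁻¹ = ⁅g, h⁆ * h := by rw [commutatorElement_def]; group
    rw [this]
    exact mul_mem (h1 (comm_mem_Fr hg (h2 hh))) hh
  intro g hg
  refine nz_of (key g hg) (fun h hh => ?_)
  have := key _ (inv_mem hg) h hh
  rwa [inv_inv] at this

theorem Bas.El.inv (h : El A) {a : G} (ha : a ∈ A) : a⁻¹ = a := inv_eq_of_mul_eq_one_right (h a ha)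

theorem El.comm (h : El A) {a c : G} (ha : a ∈ A) (hc : c ∈ A) : a * c = c * a := by
  have h1 := Bas.El.inv h (mul_mem ha hc)
  rw [mul_inv_rev, Bas.El.inv h ha, Bas.El.inv h hc] at h1
  exact h1.symm

theorem Bas.sq_mem_of_index [Finite G] (h : Y.relIndex E ≤ 2) {e : G} (he : e ∈ E) : e * e ∈ Y := by
  have h0 : (Y.subgroupOf E).index ≠ 0 := Subgroup.index_ne_zero_of_finite
  have h' : (Y.subgroupOf E).index ≤ 2 := h
  rcases (by omega : (Y.subgroupOf E).index = 1 ∨ (Y.subgroupOf E).index = 2) with h1 | h2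
  · rw [Subgroup.index_eq_one] at h1
    have : (⟨e * e, mul_mem he he⟩ : E) ∈ Y.subgroupOf E := h1 ▸ mem_top _
    exact this
  · exact (Subgroup.mul_self_mem_of_index_two h2 (⟨e, he⟩ : E))

theorem Fr_le_of_index (h : Y.relIndex E ≤ 2) [Finite G] : Fr E ≤ Y :=
  Fr_le_iff.2 fun _ he => sq_mem_of_index h he

/-- `T / Z(T)` is generated by commuting elements -/
theorem c2_of_gen {X : Set G} (hX : Subgroup.closure X = T)
    (h : ∀ a ∈ X, ∀ c ∈ X, ∀ t ∈ X, t * ⁅a, c⁆ = ⁅a, c⁆ * t) : C2 T := by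
  subst hX
  -- `Z` : the elements commuting with `X`
  let Z : Subgroup G := centralizer X
  have hZ : ∀ z ∈ Z, ∀ t ∈ Subgroup.closure X, t * z = z * t := by
    intro z hz t ht
    have : Subgroup.closure X ≤ centralizer {z} := by
      rw [closure_le]
      intro u hu
      rw [SetLike.mem_coe, mem_centralizer_singleton_iff]
      exact hz u hu
    exact mem_centralizer_singleton_iff.1 (this ht)
  have h1 : ∀ a ∈ X, ∀ c ∈ Subgroup.closure X, ⁅a, c⁆ ∈ Z := by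
    intro a ha c hc
    induction hc using Subgroup.closure_induction with
    | mem c hc => exact fun t ht => h a ha c hc t ht
    | one => simp
    | mul c d hc hd ic id =>
      have : ⁅a, c * d⁆ = ⁅a, c⁆ * (c * ⁅a, d⁆ * c⁻¹) := by simp only [commutatorElement_def]; group
      rw [this, hZ _ id c hc, mul_inv_cancel_right]
      exact mul_mem ic id
    | inv c hc ic =>
      have : ⁅a, c⁻¹⁆ = c⁻¹ * ⁅a, c⁆⁻¹ * c := by simp only [commutatorElement_def]; group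
      rw [this, hZ _ (inv_mem ic) _ (inv_mem hc), inv_mul_cancel_right]
      exact inv_mem ic
  have h2 : ∀ a ∈ Subgroup.closure X, ∀ c ∈ Subgroup.closure X, ⁅a, c⁆ ∈ Z := by
    intro a ha c hc
    induction ha using Subgroup.closure_induction with
    | mem a ha => exact h1 a ha c hc
    | one => simp
    | mul a d ha hd ia id =>
      have : ⁅a * d, c⁆ = (a * ⁅d, c⁆ * a⁻¹) * ⁅a, c⁆ := by simp only [commutatorElement_def]; group
      rw [this, hZ _ id a ha, mul_inv_cancel_right]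
      exact mul_mem id ia
    | inv a ha ia =>
      have : ⁅a⁻¹, c⁆ = a⁻¹ * ⁅a, c⁆⁻¹ * a := by simp only [commutatorElement_def]; group
      rw [this, hZ _ (inv_mem ia) _ (inv_mem ha), inv_mul_cancel_right]
      exact inv_mem ia
  intro a ha c hc t ht
  exact hZ _ (h2 a ha c hc) t ht

/-- `T = P ⟨s⟩` with `s²` centralizing `P` and the commutators of `T` in an elementary subgroup `Z` centralized by `P`:
`1 = ⁅s², u⁆ = ⁅s, u⁆^s ⁅s, u⁆` gives that `s` centralizes `⁅s, u⁆`. -/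
theorem c2_of_two {Z : Subgroup G} (hT : ∀ t, t ∈ T ↔ t ∈ P ∨ t * s⁻¹ ∈ P) (hZ : El Z)
    (h1 : ∀ u ∈ P, ⁅s, u⁆ ∈ Z) (h2 : ∀ u ∈ P, ∀ z ∈ Z, u * z = z * u) (h3 : ∀ u ∈ P, s * s * u = u * (s * s))
    (h4 : ∀ u ∈ P, ∀ v ∈ P, ⁅u, v⁆ ∈ Z ∧ s * ⁅u, v⁆ = ⁅u, v⁆ * s) : C2 T := by
  have hs : ∀ u ∈ P, s * ⁅s, u⁆ = ⁅s, u⁆ * s := by
    intro u hu
    have e1 : s * ⁅s, u⁆ * s⁻¹ * ⁅s, u⁆ = (s * s * u) * (u * (s * s))⁻¹ := by
      simp only [commutatorElement_def]; group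
    rw [h3 u hu, mul_inv_cancel] at e1
    have e2 : s * ⁅s, u⁆ * s⁻¹ = ⁅s, u⁆ := by
      rw [eq_inv_of_mul_eq_one_left e1, Bas.El.inv hZ (h1 u hu)]
    calc s * ⁅s, u⁆ = s * ⁅s, u⁆ * s⁻¹ * s := by group
      _ = _ := by rw [e2]
  refine c2_of_gen (X := (P : Set G) ∪ {s}) ?_ ?_
  · apply le_antisymm
    · rw [closure_le]
      rintro t (ht | ht)
      · exact (hT t).2 (Or.inl ht)
      · rw [Set.mem_singleton_iff] at ht
        subst ht
        exact (hT t).2 (Or.inr (by simp))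
    · intro t ht
      rcases (hT t).1 ht with h | h
      · exact subset_closure (Or.inl h)
      · have : t = t * s⁻¹ * s := by group
        rw [this]
        exact mul_mem (subset_closure (Or.inl h)) (subset_closure (Or.inr rfl))
  · have key : ∀ a ∈ (P : Set G) ∪ {s}, ∀ c ∈ (P : Set G) ∪ {s}, ⁅a, c⁆ ∈ Z ∧ s * ⁅a, c⁆ = ⁅a, c⁆ * s := by
      rintro a (ha | ha) c (hc | hc)
      · exact h4 a ha c hc
      · rw [Set.mem_singleton_iff] at hc
        subst hc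
        rw [← commutatorElement_inv]
        refine ⟨inv_mem (h1 a ha), ?_⟩
        exact (Commute.inv_right (hs a ha))
      · rw [Set.mem_singleton_iff] at ha
        subst ha
        exact ⟨h1 c hc, hs c hc⟩
      · rw [Set.mem_singleton_iff] at ha hc
        subst ha hc
        simp
    rintro a ha c hc t (ht | ht)
    · exact h2 t ht _ (key a ha c hc).1
    · rw [Set.mem_singleton_iff] at ht
      subst ht
      exact (key a ha c hc).2

variable [Finite G]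

/-- an element of odd order lies in the subgroup generated by its square -/
theorem mem_of_sq_mem (ho : Odd (orderOf x)) (h : x * x ∈ Y) : x ∈ Y := by
  obtain ⟨k, hk⟩ := ho
  have : x = (x * x) ^ (k + 1) := by
    rw [← pow_two, ← pow_mul, show 2 * (k + 1) = orderOf x + 1 by omega, pow_succ, pow_orderOf_eq_one, one_mul]
  rw [this]
  exact pow_mem h _

/-- normalizers grow: `N_T(E) / E` has an involution -/
theorem exists_iv (hT : IsPGroup 2 T) (h : E < T) : ∃ b, Iv T E b := by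
  have : Fact (Nat.Prime 2) := ⟨Nat.prime_two⟩
  have hnil : Group.IsNilpotent T := hT.isNilpotent
  have hnc : NormalizerCondition T := Group.normalizerCondition_of_isNilpotent
  have hlt : E.subgroupOf T < ⊤ := by
    rw [lt_top_iff_ne_top, Ne, subgroupOf_eq_top]
    exact h.2
  obtain ⟨c, hc1, hc2⟩ := SetLike.exists_of_lt (hnc _ hlt)
  have hcn : (c : G) ∈ Nz E := by
    have hc1' := mem_normalizer_iff.1 hc1
    refine nz_of (fun e he => ?_) (fun e he => ?_)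
    · exact (hc1' ⟨e, h.1 he⟩).1 he
    · have := (hc1' (c⁻¹ * ⟨e, h.1 he⟩ * c)).2 (by simpa [mul_assoc, mem_subgroupOf] using he)
      exact this
  obtain ⟨k, hk⟩ := hT c
  have hex : ∃ n, (c : G) ^ (2 ^ n) ∈ E := ⟨k, by
    have : (c : G) ^ (2 ^ k) = 1 := by simpa using congrArg Subtype.val hk
    rw [this]; exact one_mem _⟩
  classical
  have h0 : Nat.find hex ≠ 0 := by
    intro h0
    have := Nat.find_spec hex
    rw [h0] at this
    exact hc2 (by simpa [mem_subgroupOf] using this)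
  obtain ⟨m, hm⟩ := Nat.exists_eq_succ_of_ne_zero h0
  refine ⟨(c : G) ^ (2 ^ m), pow_mem c.2 _, pow_mem hcn _, Nat.find_min hex (by omega), ?_⟩
  have := Nat.find_spec hex
  rw [hm, pow_succ, mul_two, pow_add] at this
  exact this

/-- `E < E Q`; an element `e q` of `N_{EQ}(E) \ E` gives `q` -/
theorem exists_iv_of_el (hT : IsPGroup 2 T) (h : E ≤ T) (hQ : Q ≤ T) (hn : T ≤ Nz Q) (he : El Q) (hE : ¬ Q ≤ E) :
    ∃ b ∈ Q, Iv T E b := by
  have hlt : E < E ⊔ Q := by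
    refine lt_of_le_of_ne le_sup_left (fun h' => hE ?_)
    rw [h']; exact le_sup_right
  have hle : E ⊔ Q ≤ T := sup_le h hQ
  obtain ⟨c, hc⟩ := exists_iv (hT.to_le hle) hlt
  have hdec : ∀ g ∈ E ⊔ Q, ∃ e ∈ E, ∃ q ∈ Q, g = e * q := by
    let W : Subgroup G :=
      { carrier := {g | ∃ e ∈ E, ∃ q ∈ Q, g = e * q}
        one_mem' := ⟨1, one_mem _, 1, one_mem _, by simp⟩
        mul_mem' := by
          rintro _ _ ⟨e, he, q, hq, rfl⟩ ⟨e', he', q', hq', rfl⟩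
          refine ⟨e * e', mul_mem he he', (e'⁻¹ * q * e') * q', mul_mem (nz_cj' (hn (h he')) hq) hq', by group⟩
        inv_mem' := by
          rintro _ ⟨e, he, q, hq, rfl⟩
          exact ⟨e⁻¹, inv_mem he, e * q⁻¹ * e⁻¹, nz_cj (hn (h he)) (inv_mem hq), by group⟩ }
    have : E ⊔ Q ≤ W := sup_le (fun e he => ⟨e, he, 1, one_mem _, by simp⟩) (fun q hq => ⟨1, one_mem _, q, hq, by simp⟩)
    exact fun g hg => this hg
  obtain ⟨e, he', q, hq, rfl⟩ := hdec c hc.mem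
  refine ⟨q, hq, hQ hq, ?_, fun hqE => hc.nm (mul_mem he' hqE), by rw [he q hq]; exact one_mem _⟩
  have := mul_mem (inv_mem (self_le_nz he')) hc.nz
  rwa [inv_mul_cancel_left] at this

/-- If `f : A → A` is the commutator map of `s` on the elementary group `A` (`s` normalizes `A`, `s²` centralizes it), then
`im f ≤ ker f`, so `|A| ≤ |C_A(s)|²`. -/
theorem card_le_sq (hA : El A) (hs : s ∈ Nz A) (h : ∀ a ∈ A, s * s * a = a * (s * s)) :
    Nat.card A ≤ Nat.card ↥(A ⊓ centralizer {s}) ^ 2 := by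
  have hm : ∀ a ∈ A, a * (s * a * s⁻¹) ∈ A ⊓ centralizer {s} := by
    intro a ha
    refine ⟨mul_mem ha (nz_cj hs ha), mem_centralizer_singleton_iff.2 ?_⟩
    have e1 : s * (a * (s * a * s⁻¹)) = (s * a * s⁻¹) * ((s * s * a) * (s * s)⁻¹) * s := by group
    rw [e1, h a ha, mul_inv_cancel_right, hA.comm (nz_cj hs ha) ha]
  let f : A →* ↥(A ⊓ centralizer {s}) :=
    { toFun := fun a => ⟨a * (s * a * s⁻¹), hm a a.2⟩
      map_one' := by ext; simp
      map_mul' := fun a c => by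
        ext
        have e1 := hA.comm c.2 (nz_cj hs a.2)
        show (a : G) * c * (s * (a * c) * s⁻¹) = a * (s * a * s⁻¹) * (c * (s * c * s⁻¹))
        calc (a : G) * c * (s * (a * c) * s⁻¹) = a * (c * (s * a * s⁻¹)) * (s * c * s⁻¹) := by group
          _ = _ := by rw [e1]; group }
  have h1 : Nat.card f.ker ≤ Nat.card ↥(A ⊓ centralizer {s}) := by
    refine Nat.card_le_card_of_injective (fun k => ⟨(k.1 : G), k.1.2, mem_centralizer_singleton_iff.2 ?_⟩) ?_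
    · have hk : (k.1 : G) * (s * k.1 * s⁻¹) = 1 := congrArg Subtype.val k.2
      have e2 : s * (k.1 : G) * s⁻¹ = k.1 := by
        rw [eq_inv_of_mul_eq_one_right hk, Bas.El.inv hA k.1.2]
      calc (k.1 : G) * s = s * k.1 * s⁻¹ * s := by rw [e2]
        _ = _ := by group
    · intro k l hkl
      have : (k.1 : G) = l.1 := congrArg (fun w : ↥(A ⊓ centralizer {s}) => (w : G)) hkl
      exact Subtype.ext (Subtype.ext this)
  have h2 : Nat.card f.range ≤ Nat.card ↥(A ⊓ centralizer {s}) := Subgroup.card_le_card_group _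
  have h3 : Nat.card f.ker * Nat.card f.range = Nat.card A := by
    rw [← Subgroup.index_ker, Subgroup.card_mul_index]
  rw [← h3, pow_two]
  exact Nat.mul_le_mul h1 h2

/-- the map `a ↦ ⁅a, s⁆` is constant on the cosets of `C_A(s)` and separates them -/
theorem relIndex_le_two {z : G} (h : ∀ a ∈ A, ⁅a, s⁆ = 1 ∨ ⁅a, s⁆ = z) : (A ⊓ centralizer {s}).relIndex A ≤ 2 := by
  classical
  have key : ∀ a c : A, ⁅(a : G), s⁆ = ⁅(c : G), s⁆ →
      (QuotientGroup.mk a : A ⧸ (A ⊓ centralizer {s}).subgroupOf A) = QuotientGroup.mk c := by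
    intro a c hac
    rw [QuotientGroup.eq, mem_subgroupOf]
    refine ⟨(a⁻¹ * c).2, mem_centralizer_singleton_iff.2 ?_⟩
    have e : (a : G) * s * (a : G)⁻¹ = c * s * (c : G)⁻¹ := by
      have := congrArg (· * s) hac
      simpa [commutatorElement_def] using this
    show ((a : G)⁻¹ * c) * s = s * ((a : G)⁻¹ * c)
    calc ((a : G)⁻¹ * c) * s = (a : G)⁻¹ * (c * s * (c : G)⁻¹) * c := by group
      _ = _ := by rw [← e]; group
  let f : A ⧸ (A ⊓ centralizer {s}).subgroupOf A → Bool := fun q => decide (⁅(q.out : G), s⁆ = 1)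
  have hf : Function.Injective f := by
    intro q r hqr
    have hqr' : (⁅(q.out : G), s⁆ = 1 ↔ ⁅(r.out : G), s⁆ = 1) := by simpa [f] using hqr
    rw [← q.out_eq', ← r.out_eq']
    apply key
    rcases h _ q.out.2 with h1 | h1
    · rw [h1, hqr'.1 h1]
    · rcases h _ r.out.2 with h2 | h2
      · rw [h2, hqr'.2 h2]
      · rw [h1, h2]
  have := Nat.card_le_card_of_injective f hf
  rw [Nat.card_eq_fintype_card (α := Bool), Fintype.card_bool] at this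
  exact this

theorem Bas.two_dec (le : A ≤ T) (h : A.relIndex T ≤ 2) : ∃ s ∈ T, ∀ t, t ∈ T ↔ t ∈ A ∨ t * s⁻¹ ∈ A := by
  have h0 : (A.subgroupOf T).index ≠ 0 := Subgroup.index_ne_zero_of_finite
  have h' : (A.subgroupOf T).index ≤ 2 := h
  rcases (by omega : (A.subgroupOf T).index = 1 ∨ (A.subgroupOf T).index = 2) with h1 | h2
  · rw [Subgroup.index_eq_one, subgroupOf_eq_top] at h1
    exact ⟨1, one_mem _, fun t => ⟨fun ht => Or.inl (h1 ht), fun ht => le (by simpa using ht)⟩⟩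
  · have hne : ∃ s : T, s ∉ A.subgroupOf T := by
      by_contra hcon
      push Not at hcon
      have : A.subgroupOf T = ⊤ := (eq_top_iff' _).2 hcon
      rw [this, index_top] at h2
      omega
    obtain ⟨s, hs⟩ := hne
    refine ⟨s, s.2, fun t => ⟨fun ht => ?_, ?_⟩⟩
    · by_cases hA : t ∈ A
      · exact Or.inl hA
      · right
        have := (Subgroup.mul_mem_iff_of_index_two h2 (a := ⟨t, ht⟩) (b := s⁻¹)).2
          ⟨fun h => absurd h hA, fun h => absurd (inv_mem_iff.1 h) hs⟩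
        exact this
    · rintro (ht | ht)
      · exact le ht
      · have := mul_mem (le ht) s.2
        rwa [inv_mul_cancel_right] at this

/-- An elementary subgroup of index two gives class two (`c2_of_two` with `P = Z = A`). -/
theorem c2_of_el (hA : El A) (le : A ≤ T) (h : A.relIndex T ≤ 2) : C2 T := by
  obtain ⟨s, hs, hT⟩ := two_dec le h
  have hfr : Fr T ≤ A := Fr_le_of_index h
  refine c2_of_two (Z := A) hT hA (fun u hu => hfr (comm_mem_Fr hs (le hu))) (fun u hu z hz => hA.comm hu hz)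
    (fun u hu => hA.comm (hfr (sq_mem_Fr hs)) hu) (fun u hu v hv => ?_)
  have : ⁅u, v⁆ = 1 := commutatorElement_eq_one_iff_mul_comm.2 (hA.comm hu hv)
  rw [this]
  simp

section col

/-- The data for the three points on a line. -/
structure Col (E Y : Subgroup G) (b x : G) : Prop extends Mv E Y b x where
  le : Y ≤ E
  fr : Fr E ≤ Y
  bn : b ∈ Nz E
  cy : ∀ y ∈ Y, ⁅y, b⁆ ∈ Fr E
  ce : ∀ e ∈ E, ⁅e, b⁆ ∈ Y

namespace Bas

/-- the elements `g` with `g y g⁻¹ ∈ W y`, for a subgroup `W` that they normalize -/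
def St (W : Subgroup G) (y : G) : Subgroup G where
  carrier := {g | g ∈ Nz W ∧ ⁅g, y⁆ ∈ W}
  one_mem' := ⟨one_mem _, by simp⟩
  mul_mem' := by
    rintro g h ⟨g1, g2⟩ ⟨h1, h2⟩
    refine ⟨mul_mem g1 h1, ?_⟩
    have : ⁅g * h, y⁆ = (g * ⁅h, y⁆ * g⁻¹) * ⁅g, y⁆ := by simp only [commutatorElement_def]; group
    rw [this]
    exact mul_mem (nz_cj g1 h2) g2
  inv_mem' := by
    rintro g ⟨g1, g2⟩
    refine ⟨inv_mem g1, ?_⟩
    have : ⁅g⁻¹, y⁆ = g⁻¹ * ⁅g, y⁆⁻¹ * g := by simp only [commutatorElement_def]; group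
    rw [this]
    exact nz_cj' g1 (inv_mem g2)

omit [Finite G] in
theorem comm_swap {W : Subgroup G} {a c : G} (h : ⁅a, c⁆ ∈ W) : ⁅c, a⁆ ∈ W := by
  rw [← commutatorElement_inv]; exact inv_mem h

end Bas

/-- On `V = E / Fr E` the group `E` acts trivially, so `b x b⁻¹` acts as `x⁻¹` and `(x b x⁻¹) b⁻¹` as `x²`.  An element of
`Y ⊓ x Y x⁻¹` is fixed on `V` by `b` and `x b x⁻¹`, so by `x²`, so by `x` (odd order). -/
theorem Col.fix (h : Col E Y b x) {y : G} (hy : y ∈ Y ⊓ cj x Y) : ⁅x, y⁆ ∈ Fr E := by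
  have hb : b ∈ St (Fr E) y := ⟨Nz_le_Fr h.bn, comm_swap (h.cy y hy.1)⟩
  have hx : x ∈ Nz (Fr E) := Nz_le_Fr h.nz
  have hb' : x * b * x⁻¹ ∈ St (Fr E) y := by
    refine ⟨mul_mem (mul_mem hx (Nz_le_Fr h.bn)) (inv_mem hx), ?_⟩
    have : ⁅x * b * x⁻¹, y⁆ = x * ⁅b, x⁻¹ * y * x⁆ * x⁻¹ := by simp only [commutatorElement_def]; group
    rw [this]
    exact nz_cj hx (comm_swap (h.cy _ (mem_cj.1 hy.2)))
  have hE : ∀ e ∈ E, e ∈ St (Fr E) y := fun e he => ⟨Nz_le_Fr (self_le_nz he), comm_mem_Fr he (h.le hy.1)⟩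
  have hxx : x * x ∈ St (Fr E) y := by
    have e : x * x = (x * b * x⁻¹) * b⁻¹ * (b * x * b⁻¹ * x) := by group
    rw [e]
    exact mul_mem (mul_mem hb' (inv_mem hb)) (hE _ h.inv)
  exact (mem_of_sq_mem h.odd hxx).2

theorem Col.fr_le (h : Col E Y b x) : Fr E ≤ Y ⊓ cj x Y :=
  le_inf h.fr fun _ hf => mem_cj.2 (h.fr (nz_cj' (Nz_le_Fr h.nz) hf))

theorem Col.nz0 (h : Col E Y b x) : x ∈ Nz (Y ⊓ cj x Y) := by
  refine nz_of (fun y hy => ?_) (fun y hy => ?_)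
  · have : x * y * x⁻¹ = ⁅x, y⁆ * y := by simp only [commutatorElement_def]; group
    rw [this]
    exact mul_mem (h.fr_le (h.fix hy)) hy
  · have : x⁻¹ * y * x = (x⁻¹ * ⁅x, y⁆⁻¹ * x) * y := by simp only [commutatorElement_def]; group
    rw [this]
    exact mul_mem (h.fr_le (nz_cj' (Nz_le_Fr h.nz) (inv_mem (h.fix hy)))) hy

theorem Col.ne (h : Col E Y b x) : ¬ Y ≤ cj x Y := by
  intro hle
  have := h.nz0
  rw [inf_eq_left.2 hle] at this
  exact h.mv this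

/-- if `x y x⁻¹ ∈ Y`, it lies in `Y₀`, which `x` normalizes -/
theorem Col.out (h : Col E Y b x) {y : G} (hy : y ∈ Y) (h0 : y ∉ cj x Y) : x * y * x⁻¹ ∉ Y := by
  intro hx
  have h1 : x * y * x⁻¹ ∈ Y ⊓ cj x Y := ⟨hx, mem_cj.2 (by simpa [mul_assoc] using hy)⟩
  exact h0 ((mem_nz.1 h.nz0 y).2 h1).2

/-- `b (x y x⁻¹) b⁻¹ ≡ x⁻¹ y x` modulo `Fr E` -/
theorem Bas.col_cong (h : Col E Y b x) {y : G} (hy : y ∈ Y) :
    (x⁻¹ * y * x)⁻¹ * (b * (x * y * x⁻¹) * b⁻¹) ∈ Fr E := by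
  have hxF : x ∈ Nz (Fr E) := Nz_le_Fr h.nz
  have hyE := h.le hy
  have he : x * (b * x * b⁻¹ * x) * x⁻¹ ∈ E := nz_cj h.nz h.inv
  have hyF : ∀ f ∈ Fr E, y⁻¹ * f * y ∈ Fr E := fun f hf => nz_cj' (Nz_le_Fr (self_le_nz hyE)) hf
  set e := x * (b * x * b⁻¹ * x) * x⁻¹ with he_def
  have e1 : (x⁻¹ * y * x)⁻¹ * (b * (x * y * x⁻¹) * b⁻¹) =
      x⁻¹ * (y⁻¹ * (⁅e, b * y * b⁻¹⁆ * ⁅b, y⁆) * y) * x := by
    rw [he_def]; simp only [commutatorElement_def]; group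
  rw [e1]
  exact nz_cj' hxF (hyF _ (mul_mem (comm_mem_Fr he (nz_cj h.bn hyE)) (comm_swap (h.cy y hy))))

/-- Write `t = x y x⁻¹`, `y ∈ Y`; `b t b⁻¹ ≡ x⁻¹ y x` modulo `Fr E`.  If `⁅t, b⁆ ∈ Y₀`, then `x²` fixes the coset `y Y₀`, so does `x`,
and `t ∈ Y`. -/
theorem Col.comm (h : Col E Y b x) {t : G} (ht : t ∈ cj x Y) (h0 : t ∉ Y) : ⁅t, b⁆ ∉ cj x Y := by
  intro hc
  obtain ⟨y, hy, rfl⟩ : ∃ y ∈ Y, t = x * y * x⁻¹ := ⟨_, mem_cj.1 ht, by group⟩
  have hyE := h.le hy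
  have htE : x * y * x⁻¹ ∈ E := nz_cj h.nz hyE
  have hc0 : ⁅x * y * x⁻¹, b⁆ ∈ Y ⊓ cj x Y := ⟨h.ce _ htE, hc⟩
  have hn0 : E ≤ Nz (Y ⊓ cj x Y) := le_Nz_of_Fr h.fr_le (inf_le_left.trans h.le)
  have hf := h.fr_le (col_cong h hy)
  have hxx : x * x ∈ St (Y ⊓ cj x Y) y := by
    refine ⟨mul_mem h.nz0 h.nz0, ?_⟩
    have e1 : ⁅x * x, y⁆ = x * (⁅x * y * x⁻¹, b⁆ * ((x⁻¹ * y * x) *
        ((x⁻¹ * y * x)⁻¹ * (b * (x * y * x⁻¹) * b⁻¹)) * (x⁻¹ * y * x)⁻¹)) * x⁻¹ := by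
      simp only [commutatorElement_def]; group
    rw [e1]
    exact nz_cj h.nz0 (mul_mem hc0 (nz_cj (hn0 (nz_cj' h.nz hyE)) hf))
  have hx := (mem_of_sq_mem h.odd hxx).2
  apply h0
  have : x * y * x⁻¹ = ⁅x, y⁆ * y := by simp only [commutatorElement_def]; group
  rw [this]
  exact mul_mem hx.1 hy

/-- `x⁻¹ y x ≡ b t b⁻¹ ∈ t Y` is not in `t Y₀`; apply `x` to the relation `y + y^x + y^{x⁻¹} = 0` in `E / Y₀` for the second claim. -/
theorem Col.line (h : Col E Y b x) (h2 : (cj x Y).relIndex Y ≤ 2) {y : G} (hy : y ∈ Y) (h0 : y ∉ cj x Y) :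
    (y * (x * y * x⁻¹))⁻¹ * (x⁻¹ * y * x) ∈ Y ⊓ cj x Y ∧
      (y * (x * y * x⁻¹))⁻¹ * (x * x * y * (x * x)⁻¹) ∈ Y ⊓ cj x Y ∧
      (x⁻¹ * y * x)⁻¹ * (b * (x * y * x⁻¹) * b⁻¹) ∈ Fr E := by
  have hyE := h.le hy
  have htE : x * y * x⁻¹ ∈ E := nz_cj h.nz hyE
  have ht : x * y * x⁻¹ ∈ cj x Y := mem_cj.2 (by simpa [mul_assoc] using hy)
  have hn0 : E ≤ Nz (Y ⊓ cj x Y) := le_Nz_of_Fr h.fr_le (inf_le_left.trans h.le)
  have hf := col_cong h hy
  have hc := h.comm ht (h.out hy h0)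
  have hcY := h.ce _ htE
  -- `y⁻¹ ⁅t, b⁆⁻¹ ∈ Y₀`
  have hw : y⁻¹ * ⁅x * y * x⁻¹, b⁆⁻¹ ∈ Y ⊓ cj x Y := by
    refine Subgroup.mem_inf.2 ⟨mul_mem (inv_mem hy) (inv_mem hcY), ?_⟩
    have h0' : ((cj x Y).subgroupOf Y).index ≠ 0 := Subgroup.index_ne_zero_of_finite
    have h1' : ((cj x Y).subgroupOf Y).index ≠ 1 := by
      rw [Ne, Subgroup.index_eq_one, subgroupOf_eq_top]
      exact h.ne
    have h2' : ((cj x Y).subgroupOf Y).index ≤ 2 := h2
    have hi : ((cj x Y).subgroupOf Y).index = 2 := by omega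
    exact (Subgroup.mul_mem_iff_of_index_two hi (a := ⟨y⁻¹, inv_mem hy⟩) (b := ⟨_, inv_mem hcY⟩)).2
      ⟨fun h => absurd ((cj x Y).inv_mem_iff.1 h) h0, fun h => absurd ((cj x Y).inv_mem_iff.1 h) hc⟩
  have c1 : (y * (x * y * x⁻¹))⁻¹ * (x⁻¹ * y * x) ∈ Y ⊓ cj x Y := by
    have e1 : (y * (x * y * x⁻¹))⁻¹ * (x⁻¹ * y * x) =
        ((x * y * x⁻¹)⁻¹ * (y⁻¹ * ⁅x * y * x⁻¹, b⁆⁻¹) * (x * y * x⁻¹)) *
          ((x⁻¹ * y * x)⁻¹ * (b * (x * y * x⁻¹) * b⁻¹))⁻¹ := by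
      simp only [commutatorElement_def]; group
    rw [e1]
    exact mul_mem (nz_cj' (hn0 htE) hw) (inv_mem (h.fr_le hf))
  refine ⟨c1, ?_, hf⟩
  have c2 := nz_cj h.nz0 c1
  have huE : x * x * y * (x * x)⁻¹ ∈ E := nz_cj (mul_mem h.nz h.nz) hyE
  set t := x * y * x⁻¹ with ht_def
  set u := x * x * y * (x * x)⁻¹ with hu_def
  have e2 : x * ((y * t)⁻¹ * (x⁻¹ * y * x)) * x⁻¹ = u⁻¹ * t⁻¹ * y := by
    rw [ht_def, hu_def]; simp only [mul_inv_rev, inv_inv, mul_assoc, inv_mul_cancel_left, mul_inv_cancel, mul_one]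
  rw [e2] at c2
  have e3 : (y * t)⁻¹ * u = (t⁻¹ * ⁅y⁻¹, t⁆ * t) * (y⁻¹ * (t * t)⁻¹ * y) * (u⁻¹ * t⁻¹ * y)⁻¹ := by
    simp only [commutatorElement_def]; group
  rw [e3]
  refine mul_mem (mul_mem (h.fr_le (nz_cj' (Nz_le_Fr (self_le_nz htE)) (comm_mem_Fr (inv_mem hyE) htE))) ?_) (inv_mem c2)
  exact h.fr_le (nz_cj' (Nz_le_Fr (self_le_nz hyE)) (inv_mem (sq_mem_Fr htE)))

end col

end CL.J3O
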