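import Mathlib
import Cfsg.Agent.SOLV.MaxClass
import Cfsg.Agent.SOLV.MinNormal
import Cfsg.Agent.FGS.Min8a
import Cfsg.Agent.S4208
import Cfsg.Agent.S0219

/-! Groups of order 32 with an automorphism of order three have class at most two; groups of order dividing 45. -/

set_option autoImplicit false

namespace CL.J3O

open Subgroup
open scoped commutatorElement

namespace DFb

variable {R : Type*} [Group R] [Finite R]

/-- `H` has index at most two in `K` -/
def Two (H K : Subgroup R) : Prop := ∀ x ∈ K, ∀ y ∈ K, x ∉ H → y ∉ H → x⁻¹ * y ∈ H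

theorem two_of_card {H K : Subgroup R} (le : H ≤ K) (h : Nat.card K ≤ 2 * Nat.card H) : Two H K := by
  intro x hx y hy h1 h2
  have e := (H.subgroupOf K).card_mul_index
  rw [Nat.card_congr (subgroupOfEquivOfLe le).toEquiv] at e
  have p : 0 < Nat.card H := Nat.card_pos
  have n0 : (H.subgroupOf K).index ≠ 0 := index_ne_zero_of_finite
  have n1 : (H.subgroupOf K).index ≠ 1 := fun e1 =>
    h1 (mem_subgroupOf.1 (index_eq_one.1 e1 ▸ mem_top (⟨x, hx⟩ : K)))
  have n2 : (H.subgroupOf K).index = 2 := by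
    have : (H.subgroupOf K).index ≤ 2 := by nlinarith
    omega
  exact mem_subgroupOf.1 (((mul_mem_iff_of_index_two n2 (a := (⟨x, hx⟩ : K)⁻¹) (b := ⟨y, hy⟩)).2
    (iff_of_false (fun a => h1 ((inv_mem_iff (x := x)).1 (mem_subgroupOf.1 a))) fun a => h2 (mem_subgroupOf.1 a))))

theorem half {H K : Subgroup R} (lt : H < K) : 2 * Nat.card H ≤ Nat.card K := by
  obtain ⟨m, hm⟩ := card_dvd_of_le lt.le
  have p : 0 < Nat.card K := Nat.card_pos
  have n1 : m ≠ 1 := fun e => lt.ne (eq_of_le_of_card_ge lt.le (by rw [hm, e, mul_one]))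
  have n0 : m ≠ 0 := fun e => by rw [e, mul_zero] at hm; omega
  rw [hm, mul_comm]
  exact Nat.mul_le_mul_left _ (by omega)

theorem step (hR : Nat.card R = 32) {α : MulAut R} {k : ℕ} (hα : α ^ 3 ^ k = 1) {H K : Subgroup R} (h : Two H K)
    (hK : ∀ x ∈ K, α x ∈ K) (hH : ∀ x ∈ H, α x = x) : ∀ x ∈ K, α x = x := fun x hx => by
  by_cases h1 : x ∈ H
  · exact hH x h1
  have h2 : α x ∉ H := fun a => h1 (α.injective (hH _ a) ▸ a)
  have h3 := h x hx _ (hK x hx) h1 h2
  have h4 : ∀ n : ℕ, (α ^ n) x = x * (x⁻¹ * α x) ^ n := fun n => by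
    induction n with
    | zero => simp
    | succ n ih => rw [pow_succ', MulAut.mul_apply, ih, map_mul, hH _ (pow_mem h3 n), pow_succ', ← mul_assoc, mul_inv_cancel_left]
  have h5 := h4 (3 ^ k)
  rw [hα, MulAut.one_apply, left_eq_mul] at h5
  have h6 : (x⁻¹ * α x) ^ 32 = 1 := hR ▸ pow_card_eq_one'
  have h7 : (x⁻¹ * α x) ^ (3 ^ k).gcd 32 = 1 := pow_gcd_eq_one.2 ⟨h5, h6⟩
  rw [show Nat.gcd (3 ^ k) 32 = 1 from Nat.Coprime.pow_left k (by norm_num), pow_one, inv_mul_eq_one] at h7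
  exact h7.symm

theorem comm_sq {K : Type*} [Group K] [Finite K] {p : ℕ} [hp : Fact p.Prime] (h : Nat.card K ∣ p ^ 2) (a b : K) :
    a * b = b * a := by
  obtain ⟨n, hn, e⟩ := (Nat.dvd_prime_pow hp.out).1 h
  interval_cases n
  · have := (Nat.card_eq_one_iff_unique.1 e).1
    exact Subsingleton.elim _ _
  · have := isCyclic_of_prime_card (e.trans (pow_one p))
    exact (IsCyclic.commGroup (α := K)).mul_comm a b
  · exact (IsPGroup.isMulCommutative_of_card_eq_prime_sq e).is_comm.comm a b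

theorem comm_mem {K : Type*} [Group K] [Finite K] {p : ℕ} [Fact p.Prime] (N : Subgroup K) [N.Normal]
    (h : N.index ∣ p ^ 2) (a b : K) : ⁅a, b⁆ ∈ N := by
  rw [← QuotientGroup.eq_one_iff, ← QuotientGroup.mk'_apply, map_commutatorElement, commutatorElement_eq_one_iff_mul_comm]
  exact comm_sq h _ _

end DFb

open DFb

/-- `R` has order 32 and class at least three, `α³ᵏ = 1`.  Suppose `α ≠ 1`; then `α` is not trivial on `R / R'` (coprime action: trivial on `R / R'` gives trivial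
on all lower central factors, or Burnside's basis theorem).  `|R / R'| ∈ {4, 8}` (`R / R'` is not cyclic, `|R'| ≥ 4`).  `γ₃ = ⁅R', R⁆`, `γ₄ = ⁅γ₃, R⁆ < γ₃`.
* `|R / R'| = 8`: `|R'| = 4`, `γ₃ = ⟨z⟩` central.  `C = C_R(R')` has index two and is `α`-invariant, `α` is trivial on `R / C` and on `R'`, so not trivial on
`C / R'` (order four), which is then a four-group `{1, a, b, a b}` permuted cyclically.  `α` fixes one of the four cosets `t R'` outside `C`.  The
homomorphism `u ↦ ⁅u, t⁆` from `C / R'` to `R' / γ₃` (order two) is `α`-invariant, so trivial (`φ a = φ b = φ (a b)`).  So `⁅a, t⁆, ⁅b, t⁆ ∈ ⟨z⟩`, `R' = ⟨⁅a, b⁆, z⟩`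
and `⁅a, b⁆ ^ t = ⁅a z^i, b z^j⁆ = ⁅a, b⁆`; so `t ∈ C`, contradiction.
* `|R / R'| = 4`: `R = ⟨a, b⟩`, `α` permutes `a, b, a b` cyclically modulo `R'`, `c = ⁅a, b⁆` generates `R'` modulo `γ₃`, `c ∉ γ₃`, `c² ∈ γ₃` (`a² ∈ R'`), `α c ≡ c`
modulo `γ₃`.  The homomorphism `u ↦ ⁅c, u⁆` from `R / R'` onto `γ₃ / γ₄ ≠ 1` has an `α`-invariant kernel, so it is injective.  `a² ∈ R'` commutes
with `a`, so `a² ∈ γ₃`; also `b², (a b)² ∈ γ₃`.  But `(a b)² ≡ a² b² c^{±1}`: contradiction. -/
theorem aut32 {R : Type*} [Group R] [Finite R] (hR : Nat.card R = 32) (h : ∃ a b c : R, c * ⁅a, b⁆ ≠ ⁅a, b⁆ * c)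
    (α : MulAut R) {k : ℕ} (hα : α ^ 3 ^ k = 1) : α = 1 := by
  classical
  have hp : IsPGroup 2 R := IsPGroup.of_card (n := 5) hR
  have := hp.isNilpotent
  by_cases h4 : (commutator R).index ≤ 4
  · obtain ⟨a, b, hd⟩ := CL.PCyc.exists_isDQS_of_index_commutator (n := 2) hR h4
    obtain ⟨n, hn⟩ := CL.Min8.isPGroup_mulAut_of_three_le hd (by norm_num) α
    have h7 : α ^ (3 ^ k).gcd (2 ^ n) = 1 := pow_gcd_eq_one.2 ⟨hα, hn⟩
    rwa [show Nat.gcd (3 ^ k) (2 ^ n) = 1 from Nat.Coprime.pow k n (by norm_num), pow_one] at h7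
  obtain ⟨a, b, c, hc⟩ := h
  set D := commutator R
  have cD : ∀ x y : R, ⁅x, y⁆ ∈ D := fun x y => commutator_mem_commutator (mem_top x) (mem_top y)
  generalize hd : ⁅a, b⁆ = d at hc
  have dD : d ∈ D := hd ▸ cD a b
  have dZ : d ∉ D ⊓ center R := fun e => hc (mem_center_iff.1 e.2 c)
  have c4 : Nat.card D ≤ 4 := by
    have e := D.card_mul_index
    rw [hR] at e
    have h8 : Nat.card D < 7 := by nlinarith
    generalize Nat.card D = m at e h8
    interval_cases m <;> omega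
  have ne : D ⊓ center R ≠ ⊥ := CL.inf_center_ne_bot_of_isNilpotent D fun e => dZ (by
    rw [show d = 1 from mem_bot.1 (e ▸ dD)]; exact one_mem _)
  have l1 := half (bot_lt_iff_ne_bot.2 ne)
  have l2 := half (H := D ⊓ center R) (K := D) (lt_of_le_of_ne inf_le_left fun e => dZ (e.symm ▸ dD))
  rw [card_bot] at l1
  have t1 : Two ⊥ (D ⊓ center R) := two_of_card bot_le (by rw [card_bot]; omega)
  have t2 : Two (D ⊓ center R) D := two_of_card inf_le_left (by omega)
  have nZ : ∀ x : R, ∀ e ∈ D, e ∉ D ⊓ center R → x * e * x⁻¹ ∉ D ⊓ center R := fun x e _ h1 h2 => h1 (by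
    simpa [mul_assoc] using (inferInstance : (D ⊓ center R).Normal).conj_mem _ h2 x⁻¹)
  have cj : ∀ x : R, ∀ e ∈ D, e⁻¹ * (x * e * x⁻¹) ∈ D ⊓ center R := fun x e he => by
    by_cases h1 : e ∈ D ⊓ center R
    · exact mul_mem (inv_mem h1) ((inferInstance : (D ⊓ center R).Normal).conj_mem _ h1 x)
    · exact t2 e he _ ((inferInstance : D.Normal).conj_mem _ he x) h1 (nZ x e he h1)
  set C := centralizer (D : Set R)
  have mC : ∀ x, x ∈ C ↔ x * d * x⁻¹ = d := fun x => ⟨fun hx => by rw [← hx d dD, mul_inv_cancel_right], fun hx e he => by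
    by_cases h1 : e ∈ D ⊓ center R
    · exact (mem_center_iff.1 h1.2 x).symm
    · have h2 := mem_center_iff.1 (t2 d dD e he dZ h1).2 x
      calc e * x = d * (d⁻¹ * e * x) := by group
        _ = x * d * x⁻¹ * (x * (d⁻¹ * e)) := by rw [hx, h2]
        _ = x * e := by group⟩
  have t3 : Two C ⊤ := fun x _ y _ h1 h2 => by
    have h3 := t1 _ (cj x d dD) _ (cj y d dD) (fun e => h1 ((mC x).2 (inv_mul_eq_one.1 e).symm))
      fun e => h2 ((mC y).2 (inv_mul_eq_one.1 e).symm)
    have h5 : x * d * x⁻¹ = y * d * y⁻¹ := mul_left_cancel (inv_mul_eq_one.1 (mem_bot.1 h3))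
    refine (mC _).2 ?_
    calc x⁻¹ * y * d * (x⁻¹ * y)⁻¹ = x⁻¹ * (y * d * y⁻¹) * x := by group
      _ = d := by rw [← h5]; group
  have cC : c ∉ C := fun e => hc (e d dD).symm
  have iC : C.index = 2 := index_eq_two_iff_exists_notMem_and.2 ⟨c, cC, fun x => by
    by_cases h1 : x ∈ C
    · exact .inr h1
    · simpa using Or.inl (t3 x⁻¹ trivial c trivial (fun e => h1 (inv_mem_iff.1 e)) cC)⟩
  have aD : ∀ x ∈ D, α x ∈ D := fun x hx => characteristic_iff_le_comap.1 inferInstance α hx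
  have aZ : ∀ x ∈ center R, α x ∈ center R := fun x hx => characteristic_iff_le_comap.1 inferInstance α hx
  have aC : ∀ x, α x ∈ C ↔ x ∈ C := fun x =>
    SetLike.ext_iff.1 (characteristic_iff_comap_eq.1 (inferInstance : C.Characteristic) α) x
  have aC' : ∀ x, MulAut.toPerm R α x ∉ C ↔ x ∉ C := fun x => not_congr (aC x)
  obtain ⟨⟨t, ht⟩, ft⟩ : ∃ t : {x // x ∉ C}, Equiv.Perm.subtypePerm (MulAut.toPerm R α) aC' t = t := by
    have := Fintype.ofFinite R
    refine Equiv.Perm.exists_fixed_point_of_prime (p := 3) (n := k) ?_ ?_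
    · have e := C.card_mul_index
      rw [iC, hR, Nat.card_eq_fintype_card] at e
      rw [Fintype.card_subtype_compl, ← Nat.card_eq_fintype_card, hR]
      have e' : Fintype.card {x // x ∈ C} = 16 := by
        have : Fintype.card {x // x ∈ C} * 2 = 32 := by convert e
        omega
      rw [e']; norm_num
    · rw [Equiv.Perm.subtypePerm_pow]
      ext x
      simp [← map_pow, hα]
  have ft' : α t = t := congrArg Subtype.val ft
  let W : Subgroup R :=
    { carrier := {u | ⁅u, t⁆ ∈ center R}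
      one_mem' := by simp
      mul_mem' := fun {u v} hu hv => by
        have : ⁅u * v, t⁆ = u * ⁅v, t⁆ * u⁻¹ * ⁅u, t⁆ := by simp only [commutatorElement_def]; group
        show _ ∈ center R
        exact this ▸ mul_mem ((inferInstance : (center R).Normal).conj_mem _ hv u) hu
      inv_mem' := fun {u} hu => by
        have : ⁅u⁻¹, t⁆ = u⁻¹ * ⁅u, t⁆⁻¹ * u⁻¹⁻¹ := by simp only [commutatorElement_def]; group
        show _ ∈ center R
        exact this ▸ (inferInstance : (center R).Normal).conj_mem _ (inv_mem hu) _ }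
  have mW : ∀ u, u ∈ W ↔ ⁅u, t⁆ ∈ center R := fun _ => Iff.rfl
  have t5 : Two W ⊤ := fun u _ v _ h1 h2 => by
    have h3 := t2 _ (inv_mem (cD v t)) _ (inv_mem (cD u t)) (fun e => h2 (inv_mem_iff.1 e).2)
      fun e => h1 (inv_mem_iff.1 e).2
    have : ⁅u⁻¹ * v, t⁆ = u⁻¹ * (⁅v, t⁆⁻¹⁻¹ * ⁅u, t⁆⁻¹) * u⁻¹⁻¹ := by simp only [commutatorElement_def]; group
    exact (mW _).2 (this ▸ (inferInstance : (center R).Normal).conj_mem _ h3.2 _)
  have t4 : Two (W ⊓ C) W := fun u hu v hv h1 h2 =>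
    mem_inf.2 ⟨mul_mem (inv_mem hu) hv, t3 u trivial v trivial (fun e => h1 ⟨hu, e⟩) fun e => h2 ⟨hv, e⟩⟩
  have DW : D ≤ W ⊓ C := fun e he => ⟨(mW _).2 (by
    have : ⁅e, t⁆ = (e⁻¹⁻¹ * (t * e⁻¹ * t⁻¹)) := by simp only [commutatorElement_def]; group
    exact this ▸ (cj t _ (inv_mem he)).2), (mC e).2 (by
      by_cases h1 : e ∈ D ⊓ center R
      · rw [← mem_center_iff.1 h1.2 d, mul_inv_cancel_right]
      · have h2 := mem_center_iff.1 (t2 d dD e he dZ h1).2 d
        rw [mul_inv_cancel_left] at h2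
        calc e * d * e⁻¹ = d * (d⁻¹ * e * d) * e⁻¹ := by group
          _ = d := by rw [← h2]; group)⟩
  have l3 := half (H := W ⊓ C) (K := W) (lt_of_le_of_ne inf_le_left fun e => ht (e.ge ((mW t).2 (by simp))).2)
  have l4 := half (H := W) (K := ⊤) (lt_top_iff_ne_top.2 fun e => ht (by
    have h1 : ∀ x, ∃ z ∈ center R, t * x * t⁻¹ = z * x := fun x =>
      ⟨_, inv_mem ((mW x).1 (e ▸ mem_top x)), by simp only [commutatorElement_def]; group⟩
    refine (mC t).2 ?_
    obtain ⟨z, hz, e1⟩ := h1 a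
    obtain ⟨w, hw, e2⟩ := h1 b
    have e3 : t * ⁅a, b⁆ * t⁻¹ = ⁅t * a * t⁻¹, t * b * t⁻¹⁆ := by simp only [commutatorElement_def]; group
    have e4 : ∀ x y : R, ∀ z ∈ center R, ⁅z * x, y⁆ = ⁅x, y⁆ := fun x y z hz => by
      calc ⁅z * x, y⁆ = z * (x * y * x⁻¹ * z⁻¹) * y⁻¹ := by simp only [commutatorElement_def]; group
        _ = _ := by rw [mem_center_iff.1 (inv_mem hz)]; simp only [commutatorElement_def]; group
    rw [← hd, e3, e1, e2, e4 _ _ _ hz, ← commutatorElement_inv, e4 _ _ _ hw, commutatorElement_inv]))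
  rw [card_top, hR] at l4
  have aW : ∀ x ∈ W, α x ∈ W := fun x hx => (mW _).2 (by
    have := aZ _ ((mW x).1 hx)
    rwa [map_commutatorElement, ft'] at this)
  have f1 := step hR hα t1 (fun x hx => ⟨aD x hx.1, aZ x hx.2⟩) fun x hx => by rw [mem_bot.1 hx, map_one]
  have f2 := step hR hα t2 aD f1
  have f3 := step hR hα (two_of_card DW (by omega)) (fun x hx => ⟨aW x hx.1, (aC x).2 hx.2⟩) f2
  have f4 := step hR hα t4 aW f3
  exact MulEquiv.ext fun x => step hR hα t5 (fun _ _ => trivial) f4 x trivial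

/-- a group of order at most eight (a 2-group) has class at most two -/
theorem c2_of_card_le {R : Type*} [Group R] [Finite R] (hR : IsPGroup 2 R) (h : Nat.card R ≤ 8) (a b c : R) :
    c * ⁅a, b⁆ = ⁅a, b⁆ * c := by
  rcases subsingleton_or_nontrivial R with h1 | h1
  · exact Subsingleton.elim _ _
  have := hR.center_nontrivial
  have h2 : 1 < Nat.card (center R) := Finite.one_lt_card
  have h3 := (center R).card_mul_index
  obtain ⟨n, hn⟩ := hR.index (center R)
  have h4 : (center R).index ≤ 2 ^ 2 := by nlinarith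
  rw [hn] at h4
  exact mem_center_iff.1 (comm_mem (p := 2) _ (hn ▸ pow_dvd_pow 2 ((Nat.pow_le_pow_iff_right one_lt_two).1 h4)) a b) c

/-- both Sylow subgroups are normal (Sylow's theorem) and abelian (order dividing `p²`) -/
theorem comm45 {K : Type*} [Group K] [Finite K] (h : Nat.card K ∣ 45) (a b : K) : a * b = b * a := by
  have : Fact (Nat.Prime 5) := ⟨by norm_num⟩
  obtain ⟨P⟩ : Nonempty (Sylow 3 K) := inferInstance
  obtain ⟨Q⟩ : Nonempty (Sylow 5 K) := inferInstance
  have iP : (P : Subgroup K).index ∣ 5 :=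
    Nat.Coprime.dvd_of_dvd_mul_left (m := 3 ^ 2) (Nat.Coprime.pow_right 2 ((Nat.Prime.coprime_iff_not_dvd Nat.prime_three).2
      P.not_dvd_index).symm) ((index_dvd_card _).trans h)
  have iQ : (Q : Subgroup K).index ∣ 9 :=
    Nat.Coprime.dvd_of_dvd_mul_left (m := 5) ((Nat.Prime.coprime_iff_not_dvd this.out).2
      Q.not_dvd_index).symm ((index_dvd_card _).trans h)
  have sP : Subsingleton (Sylow 3 K) := by
    have h1 := P.card_dvd_index.trans iP
    have h2 := card_sylow_modEq_one 3 K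
    have h3 := Nat.le_of_dvd (by norm_num) h1
    refine (Nat.card_eq_one_iff_unique.1 ?_).1
    unfold Nat.ModEq at h2
    generalize Nat.card (Sylow 3 K) = m at *
    interval_cases m <;> omega
  have sQ : Subsingleton (Sylow 5 K) := by
    have h1 := Q.card_dvd_index.trans iQ
    have h2 := card_sylow_modEq_one 5 K
    have h3 := Nat.le_of_dvd (by norm_num) h1
    refine (Nat.card_eq_one_iff_unique.1 ?_).1
    unfold Nat.ModEq at h2
    generalize Nat.card (Sylow 5 K) = m at *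
    interval_cases m <;> omega
  have := P.normal_of_subsingleton
  have := Q.normal_of_subsingleton
  have h1 := comm_mem (p := 5) (P : Subgroup K) (iP.trans (by norm_num)) a b
  have h2 := comm_mem (p := 3) (Q : Subgroup K) iQ a b
  exact commutatorElement_eq_one_iff_mul_comm.1 (disjoint_def.1
    (IsPGroup.disjoint_of_ne 3 5 (by norm_num) _ _ P.isPGroup' Q.isPGroup') h1 h2)

/-- If `4 ∤ |K|`, the elements of odd order lie in a subgroup of odd order (index two: `S0219`, or `K` itself). -/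
theorem comm90 {K : Type*} [Group K] [Finite K] (h : Nat.card K ∣ 90) {a b : K} (ha : Odd (orderOf a)) (hb : Odd (orderOf b)) :
    a * b = b * a := by
  by_cases h2 : Even (Nat.card K)
  · obtain ⟨T⟩ : Nonempty (Sylow 2 K) := inferInstance
    have hT : IsCyclic (T : Subgroup K) := by
      obtain ⟨n, hn⟩ := T.isPGroup'.exists_card_eq
      refine isCyclic_of_card_dvd_prime (p := 2) (Nat.Coprime.dvd_of_dvd_mul_right (n := 45) ?_
        ((card_subgroup_dvd_card _).trans h))
      rw [hn]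
      exact Nat.Coprime.pow_left n (by norm_num)
    obtain ⟨H, hH⟩ := Cfsg.Agent.S0219.result h2 T hT
    have m : ∀ x : K, Odd (orderOf x) → x ∈ H := fun x ⟨k, hk⟩ => by
      have h1 := pow_orderOf_eq_one x
      rw [hk, pow_succ, pow_mul] at h1
      rw [eq_inv_of_mul_eq_one_right h1]
      exact inv_mem (pow_mem (sq_mem_of_index_two hH x) k)
    have c := H.card_mul_index
    rw [hH] at c
    exact congrArg Subtype.val (comm45 (K := H) (Nat.dvd_of_mul_dvd_mul_right two_pos (c ▸ h)) ⟨a, m a ha⟩ ⟨b, m b hb⟩)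
  · exact comm45 (Nat.Coprime.dvd_of_dvd_mul_right (n := 2) (Nat.Coprime.symm (Nat.prime_two.coprime_iff_not_dvd.2
      fun e => h2 (even_iff_two_dvd.2 e))) h) a b

/-- `|Aut V|` divides `|GL₅(2)| = 2¹⁰ · 9 · 5 · 7 · 31` for an elementary abelian group of order at most 32
(`Matrix.card_GL_field`, or count the images of a basis; `CL` has several versions: grep `card_mulAut`, `card_aut`) -/
theorem card_aut_dvd {V : Type*} [Group V] [Finite V] (hV : ∀ v : V, v * v = 1) (h : Nat.card V ≤ 32) :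
    Nat.card (MulAut V) ∣ 9999360 := by
  have hp : IsPGroup 2 V := fun v => ⟨1, (pow_two v).trans (hV v)⟩
  obtain ⟨n, hn⟩ := hp.exists_card_eq
  obtain ⟨r, hr⟩ := hp.index (frattini V)
  have h1 : n ≤ 5 := (Nat.pow_le_pow_iff_right (le_refl 2)).1 (hn ▸ h)
  have h2 : r ≤ n := (Nat.pow_dvd_pow_iff_le_right (le_refl 2)).1 (hn ▸ hr ▸ index_dvd_card _)
  refine (Cfsg.Agent.S4208.result hn hr).trans ?_
  interval_cases n <;> interval_cases r <;> decide

end CL.J3O
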