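import Cfsg.Agent.REC.J3O.Defs

/-! Seven does not divide the orders of the normalizers that occur. -/

set_option autoImplicit false

namespace CL.J3O

open Subgroup Cfsg
open scoped commutatorElement

variable {G : Type*} [Group G] [Finite G] {T : Sylow 2 G} {E R : Subgroup G} {b : G}

/-- an element `y` of prime order `p` normalizing `E` and centralizing no nontrivial element of `E` -/
theorem card_mod_of_fpf {p : ℕ} [Fact p.Prime] {y : G} (oy : orderOf y = p) (hy : y ∈ Nz E)
    (f : ∀ e ∈ E, y * e = e * y → e = 1) : Nat.card E % p = 1 % p := by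
  have le : zpowers y ≤ Nz E := (zpowers_le).2 hy
  let ρ : zpowers y →* MulAut E := (normalizerMonoidHom E).comp (inclusion le)
  let _ : MulAction (zpowers y) E := MulAction.compHom E ρ
  have hp : IsPGroup p (zpowers y) := IsPGroup.of_card (n := 1) (by rw [Nat.card_zpowers, oy, pow_one])
  have h := hp.card_modEq_card_fixedPoints E
  have h1 : Nat.card (MulAction.fixedPoints (zpowers y) E) = 1 := by
    rw [Nat.card_eq_one_iff_exists]
    refine ⟨⟨1, fun g => map_one (ρ g)⟩, fun ⟨e, he⟩ => Subtype.ext (Subtype.ext (f e e.2 ?_))⟩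
    have := congrArg Subtype.val (he ⟨y, mem_zpowers y⟩)
    change y * e * y⁻¹ = e at this
    exact mul_inv_eq_iff_eq_mul.1 this
  rw [h1] at h
  exact h

/-- without elements of order `p q`, an element of order `p` centralizes no nontrivial `q`-element -/
theorem eq_one_of_no_order {p q : ℕ} [Fact p.Prime] [hq : Fact q.Prime] (ne : p ≠ q) (n : ∀ g : G, orderOf g ≠ p * q)
    {y e : G} (oy : orderOf y = p) {k : ℕ} (he : e ^ q ^ k = 1) (c : y * e = e * y) : e = 1 := by
  by_contra e1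
  obtain ⟨j, -, hj⟩ := (Nat.dvd_prime_pow hq.out).1 (orderOf_dvd_of_pow_eq_one he)
  have j0 : j ≠ 0 := by rintro rfl; exact e1 (orderOf_eq_one_iff.1 hj)
  have dv : q ∣ orderOf e := hj ▸ dvd_pow_self q j0
  have o2 : orderOf (e ^ (orderOf e / q)) = q := orderOf_pow_orderOf_div (orderOf_pos e).ne' dv
  have cm : Commute y (e ^ (orderOf e / q)) := (show Commute y e from c).pow_right _
  refine n (y * e ^ (orderOf e / q)) ?_
  rw [cm.orderOf_mul_eq_mul_orderOf_of_coprime (by rw [oy, o2]; exact (Nat.coprime_primes Fact.out hq.out).2 ne), oy, o2]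

theorem card_mod {p q : ℕ} [Fact p.Prime] [Fact q.Prime] (ne : p ≠ q) (n : ∀ g : G, orderOf g ≠ p * q) (hE : IsPGroup q E)
    {y : G} (oy : orderOf y = p) (hy : y ∈ Nz E) : Nat.card E % p = 1 % p :=
  card_mod_of_fpf oy hy fun e he c => by
    obtain ⟨k, hk⟩ := hE ⟨e, he⟩
    exact eq_one_of_no_order ne n oy (k := k) (congrArg Subtype.val hk) c

theorem exists_seven {N : Subgroup G} (h : 7 ∣ Nat.card N) : ∃ y ∈ N, orderOf y = 7 := by
  haveI : Fact (Nat.Prime 7) := ⟨by norm_num⟩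
  obtain ⟨y, hy⟩ := exists_prime_orderOf_dvd_card' 7 h
  exact ⟨y, y.2, by rw [← hy, Subgroup.orderOf_coe]⟩

theorem Hyp.mod7 (h : Hyp T) (le : E ≤ T) {y : G} (oy : orderOf y = 7) (hy : y ∈ Nz E) : Nat.card E % 7 = 1 :=
  haveI : Fact (Nat.Prime 7) := ⟨by norm_num⟩
  card_mod (p := 7) (q := 2) (by norm_num) h.n14 (T.isPGroup'.to_le le) oy hy

theorem Hyp.no7_top (h : Hyp T) : ¬ 7 ∣ Nat.card (Nz (T : Subgroup G)) := fun d => by
  obtain ⟨y, hy, oy⟩ := exists_seven d
  have := h.mod7 le_rfl oy hy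
  rw [show Nat.card (T : Subgroup G) = 128 from h.card] at this
  omega

omit [Finite G] in
theorem fr_le' : Fr E ≤ E := (closure_le _).2 (by rintro _ ⟨e, he, rfl⟩; exact E.mul_mem he he)

theorem nz_fr' {y : G} (hy : y ∈ Nz E) : y ∈ Nz (Fr E) := by
  refine mem_normalizer_fintype fun x hx => ?_
  refine closure_induction (p := fun x _ => y * x * y⁻¹ ∈ Fr E) ?_ (by simpa using one_mem _) (fun a c _ _ ha hc => ?_) (fun a _ ha => ?_) hx
  · rintro _ ⟨e, he, rfl⟩
    exact subset_closure ⟨y * e * y⁻¹, (mem_normalizer_iff.1 hy e).1 he, by group⟩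
  · simpa [mul_assoc] using mul_mem ha hc
  · simpa [mul_assoc] using inv_mem ha

/-- `|E|` and `|Fr E|` are `1` modulo seven, so is the index -/
theorem Hyp.no7_bad (h : Hyp T) (le : E ≤ T) (h16 : 16 ≤ (Fr E).relIndex E) (h32 : (Fr E).relIndex E ≤ 32) :
    ¬ 7 ∣ Nat.card (Nz E) := fun d => by
  obtain ⟨y, hy, oy⟩ := exists_seven d
  have h1 := h.mod7 le oy hy
  have h2 := h.mod7 (fr_le'.trans le) oy (nz_fr' hy)
  have h3 : Nat.card (Fr E) * (Fr E).relIndex E = Nat.card E := by
    rw [← (Fr E).subgroupOf E |>.card_mul_index, relIndex, Nat.card_congr (subgroupOfEquivOfLe fr_le').toEquiv]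
  obtain ⟨n, hn⟩ := (T.isPGroup'.to_le le).exists_card_eq
  obtain ⟨k, -, hk⟩ := (Nat.dvd_prime_pow Nat.prime_two).1 (hn ▸ Dvd.intro_left _ h3)
  rw [← h3, Nat.mul_mod, h2] at h1
  rw [hk] at h1 h16 h32
  have : k ≤ 5 := (Nat.pow_le_pow_iff_right (by norm_num : 1 < 2)).1 (by simpa using h32)
  interval_cases k <;> omega

end CL.J3O
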