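import Cfsg.Agent.REC.J3O.Key
import Cfsg.Agent.REC.J3O.DFb
import Cfsg.Agent.REC.J3O.No7
import Cfsg.Agent.TECH.ExtTransfer
import Cfsg.Agent.CHEV.PSElem
import Cfsg.Agent.SOLV.Fitting
import Cfsg.Agent.ODD.BG4.Aut

/-! A central involution outside the Frattini subgroup gives a direct factor `D` of order four. -/

set_option autoImplicit false
set_option maxHeartbeats 400000

namespace CL.J3O

open Subgroup Cfsg
open scoped commutatorElement

variable {G : Type*} [Group G] [Finite G] {T : Sylow 2 G}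

/-- `T = D × C_T(γ)` -/
structure Spl (T D : Subgroup G) (γ : G) : Prop where
  nz : γ ∈ Nz T
  odd : Odd (orderOf γ)
  le : D ≤ T
  el : El D
  card : Nat.card D = 4
  cen : ∀ d ∈ D, ∀ t ∈ T, t * d = d * t
  fpf : ∀ d ∈ D, γ * d = d * γ → d = 1
  cm : ∀ t ∈ T, ⁅t, γ⁆ ∈ D
  dec : ∀ t ∈ T, ∃ d ∈ D, γ * (d * t) = d * t * γ

theorem DFa.trans {T H : Subgroup G} (TH : T ≤ H) (nz : H ≤ Nz T) (odd : Odd (T.relIndex H)) {e : G} (he : e ∈ T)
    (eF : e ∉ Fr T) (h1 : ∀ g ∈ H, ⁅g, e⁆ ∈ Fr T) : ∃ V : H →* Multiplicative (ZMod 2), V ⟨e, TH he⟩ ≠ 1 := by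
  classical
  have nS : (T.subgroupOf H).Normal := ⟨fun _ hx g => Bas.nz_cj (E := T) (nz g.2) hx⟩
  let N : Subgroup (T.subgroupOf H) := (Fr T).comap (H.subtype.comp (T.subgroupOf H).subtype)
  have mN : ∀ x : T.subgroupOf H, x ∈ N ↔ ((x : H) : G) ∈ Fr T := fun _ => Iff.rfl
  have : N.Normal := ⟨fun x hx g => (mN _).2 (Bas.cj_Fr (nz g.1.2) ((mN x).1 hx))⟩
  have he' : (⟨e, TH he⟩ : H) ∈ T.subgroupOf H := he
  obtain ⟨ψ, ψ1, ψ2⟩ := CL.PS.exists_hom_ne_one (W := ZMod 2) (by decide) 1 N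
    (fun x => (mN _).2 (sq_mem_Fr (E := T) x.2)) (x₀ := ⟨_, he'⟩) fun a => eF ((mN _).1 a)
  have := Fintype.ofFinite (H ⧸ T.subgroupOf H)
  obtain ⟨V, hV⟩ := CL.MSS.exists_transfer_hom _ ψ
  refine ⟨V, ?_⟩
  have h4 : ∀ q : H ⧸ T.subgroupOf H, ψ ⟨_, CL.MSS.out_smul_mem _ ⟨e, TH he⟩ q⟩ = Multiplicative.ofAdd 1 := fun q => by
    have h5 : (⟨e, TH he⟩ : H) • q = q := by
      obtain ⟨g, rfl⟩ := QuotientGroup.mk_surjective q
      rw [MulAction.Quotient.smul_mk, eq_comm, QuotientGroup.eq, smul_eq_mul, ← mul_assoc]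
      exact nS.conj_mem' _ he' g
    rw [← ψ2, ← mul_inv_eq_one, ← map_inv, ← map_mul]
    refine ψ1 _ ((mN _).2 ?_)
    have := h1 _ (inv_mem q.out.2)
    simpa [h5, commutatorElement_def, mul_assoc] using this
  rw [hV, Finset.prod_congr rfl fun q _ => h4 q, Finset.prod_const, Finset.card_univ, ← Nat.card_eq_fintype_card,
    ← index_eq_card]
  obtain ⟨m, hm⟩ := odd
  rw [show (T.subgroupOf H).index = 2 * m + 1 from hm, pow_succ, pow_mul,
    show (Multiplicative.ofAdd (1 : ZMod 2)) ^ 2 = 1 from rfl, one_pow, one_mul]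
  decide

/-- Let `e` be a central involution of `T` outside `Fr T`.  Suppose every element of odd order of `H = N(T)` fixes `e` modulo `Fr T`; then so does `H` (`H = T K`, or: `H / T` has odd
order and `T` is trivial on `T / Fr T`).  Take `ψ : T →* ±1` with `ψ e ≠ 1` and `φ t = ∏ ψ (h t h⁻¹)` over a transversal of `T` in `H` (odd number of
factors): `φ` is `H`-invariant and `φ e ≠ 1`.  `CL.MSS.extremal_transfer` with `R = T` gives `g ∈ N(T)` with `φ (g e g⁻¹) = 1`: contradiction.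
So some element of odd order, and then some element of odd prime power order, moves `e` modulo `Fr T`. -/
theorem exists_mover (h : Hyp T) {e : G} (he : e ∈ (T : Subgroup G)) (ee : e * e = 1) (ec : ∀ t ∈ (T : Subgroup G), t * e = e * t)
    (eF : e ∉ Fr T) : ∃ γ ∈ Nz (T : Subgroup G), (∃ r k : ℕ, r.Prime ∧ r ≠ 2 ∧ γ ^ r ^ k = 1) ∧ ⁅γ, e⁆ ∉ Fr T := by
  by_contra hn
  push Not at hn
  have TH : (T : Subgroup G) ≤ Nz (T : Subgroup G) := Bas.self_le_nz
  have h1 : ∀ g ∈ Nz (T : Subgroup G), ⁅g, e⁆ ∈ Fr (T : Subgroup G) := fun g hg => by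
    have : (Bas.St (Fr (T : Subgroup G)) e).subgroupOf (Nz (T : Subgroup G)) = ⊤ :=
      CL.eq_top_of_forall_sylow_le fun p hp => by
        by_cases h2 : p = 2
        · subst h2
          refine ⟨T.subtype TH, ?_⟩
          rw [Sylow.coe_subtype]
          exact fun x hx => mem_subgroupOf.2 ⟨Nz_le_Fr x.2, comm_mem_Fr (mem_subgroupOf.1 hx) he⟩
        · obtain ⟨P⟩ : Nonempty (Sylow p (Nz (T : Subgroup G))) := inferInstance
          refine ⟨P, fun x hx => mem_subgroupOf.2 ⟨Nz_le_Fr x.2, hn x x.2 ?_⟩⟩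
          obtain ⟨k, hk⟩ := CL.MSS.isPGroup_iff_forall_mem.1 P.isPGroup' x hx
          exact ⟨p, k, hp.out, h2, by rw [← coe_pow, hk, coe_one]⟩
    exact (subgroupOf_eq_top.1 this hg).2
  have o1 : Odd ((T : Subgroup G).relIndex (Nz (T : Subgroup G))) := by
    have := (T.subtype TH).not_dvd_index
    rw [Sylow.coe_subtype] at this
    exact Nat.odd_iff.2 (Nat.two_dvd_ne_zero.1 this)
  obtain ⟨V, h3⟩ := DFa.trans TH le_rfl o1 he eF h1
  have h2 : ∀ a b : Multiplicative (ZMod 2), b ≠ 1 → a = 1 ∨ a = b := by decide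
  have o2 : Odd (T : Subgroup G).index := Nat.odd_iff.2 (Nat.two_dvd_ne_zero.1 T.not_dvd_index)
  have p2 : IsPGroup 2 (Multiplicative (ZMod 2)) := IsPGroup.of_card (n := 1) (by simp)
  have h3' : V.comp (inclusion TH) ⟨e, he⟩ ≠ 1 := h3
  obtain ⟨g, hg, h4, h5⟩ := CL.MSS.extremal_transfer o2 p2 (V.comp (inclusion TH)) (by rw [h.ni]; trivial) ee he h3'
    (fun _ _ => h2 _ _ h3') T.isPGroup' fun t ht => mem_centralizer_singleton_iff.2 (ec t ht)
  have gH : g ∈ Nz (T : Subgroup G) := CL.MSS.mem_normalizer_of_cj_le h5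
  refine h3 ?_
  have h6 : V (⟨g, gH⟩ * ⟨e, TH he⟩ * ⟨g, gH⟩⁻¹) = 1 := h4
  rwa [map_mul, map_mul, map_inv, mul_inv_cancel_comm] at h6

omit [Finite G] in
theorem DFa.pow_cj {γ : G} (n : ℕ) (x : G) : ((MulAut.toPerm G (MulAut.conj γ)) ^ n) x = γ ^ n * x * (γ ^ n)⁻¹ := by
  rw [← map_pow, ← map_pow]; rfl

theorem DFa.fix {γ : G} {r k : ℕ} (hr : r.Prime) (hγ : γ ^ r ^ k = 1) (p : G → Prop)
    (hp : ∀ x, p (γ * x * γ⁻¹) ↔ p x) (hc : ¬ r ∣ Nat.card {x // p x}) : ∃ x, p x ∧ γ * x = x * γ := by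
  classical
  have := Fact.mk hr
  have := Fintype.ofFinite G
  have hp' : ∀ x, p (MulAut.toPerm G (MulAut.conj γ) x) ↔ p x := hp
  obtain ⟨⟨x, hx⟩, e⟩ := Equiv.Perm.exists_fixed_point_of_prime (p := r) (n := k) (α := {x // p x})
    (by rwa [← Nat.card_eq_fintype_card])
    (σ := Equiv.Perm.subtypePerm _ hp') (by
      rw [Equiv.Perm.subtypePerm_pow]
      ext x
      simp [DFa.pow_cj, hγ])
  exact ⟨x, hx, mul_inv_eq_iff_eq_mul.1 (congrArg Subtype.val e)⟩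

/-- `W = Ω₁ Z(T)`, `W₀ = W ⊓ Fr T`, `D₁` a `γ`-invariant complement of `W₀` in `W` (Maschke); `γ` does not centralize `D₁`.  `T` embeds in
`T / D₁ × T / Fr T`, so `T / D₁` does not have class two and `|D₁| ≤ 8` (`c2_of_card_le`).  So `r ∈ {3, 7}`; `r = 7` is excluded by `n7` (`128 ≡ 2 mod 7`, so a 7-element of `N(T)` centralizes an involution of `T`), and `D = ⁅D₁, γ⁆` has
order four without fixed points.  `T / D` has order 32 and class at least three, so `γ` is trivial on it (`aut32`).  For `t ∈ T`, the coset `D t` has four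
elements and is permuted by the 3-element `γ`, so it has a fixed point. -/
theorem exists_spl (h : Hyp T) (hD : ¬ DF (T : Subgroup G)) : ∃ D γ, Spl (T : Subgroup G) D γ := by
  classical
  simp only [DF, not_forall] at hD
  obtain ⟨e, he, ee, ec, eF⟩ := hD
  obtain ⟨γ, γn, ⟨r, k, hr, r2, hγ⟩, hm⟩ := exists_mover h he ee ec eF
  have odd : Odd (orderOf γ) := ((hr.odd_of_ne_two r2).pow).of_dvd_nat (orderOf_dvd_of_pow_eq_one hγ)
  let W : Subgroup G :=
    { carrier := {z | z ∈ (T : Subgroup G) ∧ z * z = 1 ∧ ∀ t ∈ (T : Subgroup G), t * z = z * t}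
      one_mem' := ⟨one_mem _, one_mul _, by simp⟩
      mul_mem' := fun {a b} ha hb => ⟨mul_mem ha.1 hb.1, by
        rw [mul_assoc, ← mul_assoc b, ha.2.2 b hb.1, mul_assoc, hb.2.1, mul_one, ha.2.1], fun t ht => by
          rw [← mul_assoc, ha.2.2 t ht, mul_assoc, hb.2.2 t ht, mul_assoc]⟩
      inv_mem' := fun {a} ha => by rwa [inv_eq_of_mul_eq_one_right ha.2.1] }
  have cW : ∀ g ∈ Nz (T : Subgroup G), ∀ z ∈ W, g * z * g⁻¹ ∈ W := fun g hg z hz =>
    ⟨Bas.nz_cj hg hz.1, by rw [conj_mul, hz.2.1, mul_one, mul_inv_cancel], fun t ht => by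
      have := hz.2.2 _ (Bas.nz_cj' hg ht)
      calc t * (g * z * g⁻¹) = g * (g⁻¹ * t * g * z) * g⁻¹ := by group
        _ = _ := by rw [this]; group⟩
  have nW : γ ∈ Nz W := Bas.nz_of (cW γ γn) fun z hz => by simpa using cW _ (inv_mem γn) z hz
  have cm : ∀ a ∈ W, ∀ b ∈ W, Commute a b := fun a ha b hb => hb.2.2 a ha.1
  have nU : zpowers γ ≤ Nz (W ⊓ Fr T ⊔ W ⊓ centralizer {γ}) := CL.MSS.le_normalizer_sup
    (CL.MSS.le_normalizer_inf (zpowers_le.2 nW) (zpowers_le.2 (Nz_le_Fr γn)))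
    (CL.MSS.le_normalizer_inf (zpowers_le.2 nW) (zpowers_le.2 (le_normalizer (mem_centralizer_singleton_iff.2 rfl))))
  obtain ⟨D, DW, nD, d0, d1⟩ := CL.BG.Sec4.Maschke_abelem (p := 2) (A := zpowers γ) (E := W)
    (by rw [Nat.card_zpowers]; exact odd.not_two_dvd_nat)
    ⟨⟨⟨fun a b => Subtype.ext (cm _ a.2 _ b.2)⟩⟩, fun a ha => (pow_two a).trans ha.2.1⟩
    (sup_le inf_le_left inf_le_left) nU (zpowers_le.2 nW)
  replace nD : γ ∈ Nz D := nD (mem_zpowers γ)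
  have dF : ∀ d ∈ D, d ∈ Fr T → d = 1 := fun d hd hF => mem_bot.1 (d0 ▸ ⟨mem_sup_left ⟨DW hd, hF⟩, hd⟩)
  have dC : ∀ d ∈ D, γ * d = d * γ → d = 1 := fun d hd hF =>
    mem_bot.1 (d0 ▸ ⟨mem_sup_right ⟨DW hd, mem_centralizer_singleton_iff.2 hF.symm⟩, hd⟩)
  have D0 : D ≠ ⊥ := fun e0 => hm (by
    rw [e0, sup_bot_eq] at d1
    have : W ⊓ Fr T ⊔ W ⊓ centralizer {γ} ≤ W ⊓ (Bas.St (Fr T) γ) := sup_le
      (fun x hx => ⟨hx.1, le_normalizer hx.2, by
        rw [commutatorElement_def, mul_assoc, mul_assoc, ← mul_assoc γ]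
        exact mul_mem hx.2 (Bas.cj_Fr γn (inv_mem hx.2))⟩)
      fun x hx => ⟨hx.1, Nz_le_Fr (le_normalizer hx.1.1), by
        rw [commutatorElement_eq_one_iff_mul_comm.2 (mem_centralizer_singleton_iff.1 hx.2)]
        exact one_mem _⟩
    exact Bas.comm_swap (this (d1.ge ⟨he, ee, ec⟩)).2.2)
  have DT : D ≤ T := fun d hd => (DW hd).1
  have nN : (D.subgroupOf (T : Subgroup G)).Normal := ⟨fun d hd t => by
    rw [mem_subgroupOf] at hd ⊢
    rwa [coe_mul, coe_mul, (DW hd).2.2 t t.2, coe_inv, mul_inv_cancel_right]⟩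
  have cQ := (D.subgroupOf (T : Subgroup G)).card_eq_card_quotient_mul_card_subgroup
  rw [Nat.card_congr (subgroupOfEquivOfLe DT).toEquiv, show Nat.card (T : Subgroup G) = 128 from h.card] at cQ
  have n2 : ∃ a b c : (T : Subgroup G) ⧸ D.subgroupOf (T : Subgroup G), c * ⁅a, b⁆ ≠ ⁅a, b⁆ * c := by
    by_contra hc
    push Not at hc
    refine h.nc2 fun a ha b hb c hc' => commutatorElement_eq_one_iff_mul_comm.1
      (dF _ ?_ (comm_mem_Fr hc' (Fr_le (comm_mem_Fr ha hb))))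
    have := commutatorElement_eq_one_iff_mul_comm.2 (hc (QuotientGroup.mk' _ ⟨a, ha⟩) (QuotientGroup.mk' _ ⟨b, hb⟩)
      (QuotientGroup.mk' _ ⟨c, hc'⟩))
    rw [← map_commutatorElement, ← map_commutatorElement, QuotientGroup.mk'_apply, QuotientGroup.eq_one_iff] at this
    exact this
  have c8 : 8 < Nat.card ((T : Subgroup G) ⧸ D.subgroupOf (T : Subgroup G)) := lt_of_not_ge fun hc =>
    let ⟨a, b, c, e⟩ := n2
    e (c2_of_card_le (T.isPGroup'.to_quotient _) hc a b c)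
  have dv : r ∣ Nat.card D - 1 := by
    by_contra hc
    obtain ⟨x, ⟨h1, h2⟩, h3⟩ := DFa.fix hr hγ (fun x => x ∈ D ∧ x ≠ 1)
      (fun x => and_congr (Bas.mem_nz.1 nD x).symm (by simp)) (by
        have := Fintype.ofFinite D
        rwa [← Nat.card_congr (Equiv.subtypeSubtypeEquivSubtypeInter (· ∈ D) (· ≠ 1)),
          Nat.card_congr (Equiv.subtypeEquivRight (q := fun x : D => ¬ x = 1) fun x => by simp),
          Nat.card_eq_fintype_card, Fintype.card_subtype_compl, Fintype.card_subtype_eq, ← Nat.card_eq_fintype_card])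
    exact h2 (dC x h1 h3)
  have c1 : 1 < Nat.card D := (one_lt_card_iff_ne_bot D).2 D0
  have n7 : r ≠ 7 := fun e7 => h.no7_top (by
    subst e7
    have : γ ≠ 1 := fun e1 => hm (by rw [e1]; simp)
    obtain ⟨j, -, hj⟩ := (Nat.dvd_prime_pow hr).1 (orderOf_dvd_of_pow_eq_one hγ)
    have j0 : j ≠ 0 := fun e0 => this (orderOf_eq_one_iff.1 (by rw [hj, e0, pow_zero]))
    exact ((dvd_pow_self 7 j0).trans hj.symm.dvd).trans (orderOf_dvd_natCard _ γn))
  obtain ⟨c4, rfl⟩ : Nat.card D = 4 ∧ r = 3 := by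
    have h15 : Nat.card D < 15 := by nlinarith
    have hd : Nat.card D ∣ 128 := Dvd.intro_left _ cQ.symm
    generalize Nat.card D = m at dv h15 hd c1
    interval_cases m <;> try omega
    · exact absurd (Nat.dvd_one.1 dv) hr.one_lt.ne'
    · exact ⟨rfl, (Nat.prime_dvd_prime_iff_eq hr Nat.prime_three).1 dv⟩
    · exact absurd ((Nat.prime_dvd_prime_iff_eq hr (by norm_num)).1 dv) n7
  let β : MulAut (T : Subgroup G) := (T : Subgroup G).normalizerMonoidHom ⟨γ, γn⟩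
  have hβ : β ^ 3 ^ k = 1 := by rw [← map_pow, show (⟨γ, γn⟩ : Nz (T : Subgroup G)) ^ 3 ^ k = 1 from Subtype.ext hγ, map_one]
  let α : MulAut ((T : Subgroup G) ⧸ D.subgroupOf (T : Subgroup G)) := QuotientGroup.congr _ _ β (Subgroup.ext fun x => by
    refine mem_map_equiv.trans ?_
    rw [mem_subgroupOf, mem_subgroupOf, Bas.mem_nz.1 nD]
    exact Iff.of_eq (congrArg (· ∈ D) (congrArg Subtype.val (β.apply_symm_apply x))))
  have hα : ∀ (n : ℕ) (x : (T : Subgroup G)), (α ^ n) x = (β ^ n) x := fun n x => by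
    induction n with
    | zero => rfl
    | succ n ih => rw [pow_succ', pow_succ', MulAut.mul_apply, MulAut.mul_apply, ih]; rfl
  have α1 : α = 1 := aut32 (by rw [c4] at cQ; omega) n2 α (k := k) (MulEquiv.ext fun x => by
    obtain ⟨x, rfl⟩ := QuotientGroup.mk_surjective x
    rw [hα, hβ]; rfl)
  have cm' : ∀ t ∈ (T : Subgroup G), ⁅t, γ⁆ ∈ D := fun t ht => by
    have := hα 1 ⟨t⁻¹, inv_mem ht⟩
    rw [α1, one_pow, MulAut.one_apply, pow_one, QuotientGroup.eq, mem_subgroupOf] at this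
    change t⁻¹⁻¹ * (γ * t⁻¹ * γ⁻¹) ∈ D at this
    simpa [commutatorElement_def, mul_assoc] using this
  refine ⟨D, γ, γn, odd, DT, fun d hd => (DW hd).2.1, c4, fun d hd => (DW hd).2.2, dC, cm', fun t ht => ?_⟩
  obtain ⟨x, h1, h2⟩ := DFa.fix hr hγ (fun x => x * t⁻¹ ∈ D) (fun x => by
    have : γ * x * γ⁻¹ * t⁻¹ = γ * (x * t⁻¹) * γ⁻¹ * ⁅t, γ⁆⁻¹ := by simp only [commutatorElement_def]; group
    rw [this, mul_mem_cancel_right (inv_mem (cm' t ht))]
    exact (Bas.mem_nz.1 nD _).symm) (by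
      rw [show Nat.card {x // x * t⁻¹ ∈ D} = Nat.card D from
        Nat.card_congr (Equiv.subtypeEquiv (Equiv.mulRight t⁻¹) fun _ => Iff.rfl), c4]
      decide)
  exact ⟨_, h1, by rwa [inv_mul_cancel_right]⟩

end CL.J3O
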