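import Cfsg.Agent.REC.J3O.DFa
import Cfsg.Agent.REC.J3O.No7
import Cfsg.Agent.SOLV.SectionAut

/-! The central involutions of `T` lie in the Frattini subgroup. -/

set_option autoImplicit false
set_option maxHeartbeats 400000
set_option linter.unusedSectionVars false

namespace CL.J3O

open Subgroup Cfsg
open scoped commutatorElement

variable {G : Type*} [Group G] [Finite G] {T : Sylow 2 G} {D E R : Subgroup G} {γ b : G}

namespace DFc

theorem two_lt {X Y : Subgroup G} :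
    2 < Y.relIndex X ↔ ∃ p ∈ X, ∃ q ∈ X, p ∉ Y ∧ q ∉ Y ∧ p⁻¹ * q ∉ Y := by
  have := Fintype.ofFinite (X ⧸ Y.subgroupOf X)
  rw [relIndex, index, Nat.card_eq_fintype_card, Fintype.two_lt_card_iff]
  constructor
  · rintro ⟨⟨a⟩, ⟨b⟩, ⟨c⟩, h1, h2, h3⟩
    exact ⟨_, (a⁻¹ * b).2, _, (a⁻¹ * c).2, fun k => h1 (QuotientGroup.eq.2 k), fun k => h2 (QuotientGroup.eq.2 k),
      fun k => h3 (QuotientGroup.eq.2 (by simpa [mem_subgroupOf] using k))⟩
  · rintro ⟨p, hp, q, hq, h1, h2, h3⟩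
    exact ⟨(1 : X), (⟨p, hp⟩ : X), (⟨q, hq⟩ : X), fun k => h1 (by simpa [mem_subgroupOf] using QuotientGroup.eq.1 k),
      fun k => h2 (by simpa [mem_subgroupOf] using QuotientGroup.eq.1 k), fun k => h3 (by simpa [mem_subgroupOf] using QuotientGroup.eq.1 k)⟩

theorem cj_mem {Y : Subgroup G} {g y : G} (h : g ∈ Nz Y) (hy : y ∈ Y) : g * y * g⁻¹ ∈ Y :=
  (mem_normalizer_iff.1 h y).1 hy

theorem nz_of {Y : Subgroup G} {g : G} (h : ∀ y ∈ Y, g * y * g⁻¹ ∈ Y) : g ∈ Nz Y :=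
  mem_normalizer_fintype h

theorem parts (g : G) : ∃ k m : ℕ, Odd m ∧ Odd (orderOf (g ^ 2 ^ k)) ∧ (g ^ m) ^ 2 ^ k = 1 := by
  obtain ⟨k, m, hm, e⟩ := Nat.exists_eq_two_pow_mul_odd (orderOf_pos g).ne'
  exact ⟨k, m, hm, hm.of_dvd_nat (orderOf_dvd_of_pow_eq_one (by rw [← pow_mul, ← e, pow_orderOf_eq_one])),
    by rw [← pow_mul, mul_comm, ← e, pow_orderOf_eq_one]⟩

theorem dvd90 {n k : ℕ} (h : n ∣ 2 ^ k * 9999360) (h4 : ¬ 4 ∣ n) (h7 : ¬ 7 ∣ n) (h31 : ¬ 31 ∣ n) : n ∣ 90 := by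
  obtain ⟨i, m, hm, rfl⟩ := Nat.exists_eq_two_pow_mul_odd (n := n) (by rintro rfl; simp at h4)
  have h1 : m ∣ 45 * 7 * 31 * 2 ^ (k + 10) := (Dvd.intro_left _ rfl).trans (h.trans (by rw [pow_add]; ring_nf; rfl))
  have h2 : m ∣ 45 := by
    refine Nat.Coprime.dvd_of_dvd_mul_right ?_ (Nat.Coprime.dvd_of_dvd_mul_right ?_
      (Nat.Coprime.dvd_of_dvd_mul_right ((Nat.coprime_two_right.2 hm).pow_right _) h1))
    · exact ((Nat.Prime.coprime_iff_not_dvd (by norm_num)).2 fun c => h7 (c.mul_left _)).symm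
    · exact ((Nat.Prime.coprime_iff_not_dvd (by norm_num)).2 fun c => h31 (c.mul_left _)).symm
  have h3 : 2 ^ i ∣ 2 ^ 1 := pow_dvd_pow 2 (by
    by_contra c
    exact h4 ((pow_dvd_pow 2 (show 2 ≤ i by omega)).mul_right m))
  exact mul_dvd_mul h3 h2

theorem comm_gen (h : Hyp T) (hE : IsPGroup 2 E) (h4 : ¬ 4 ∣ E.relIndex (Nz E)) (h7 : ¬ 7 ∣ Nat.card (Nz E)) (h32 : (Fr E).relIndex E ≤ 32)
    {x y : G} (hx : x ∈ Nz E) (hy : y ∈ Nz E) (ox : Odd (orderOf x)) (oy : Odd (orderOf y)) :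
    ∃ e ∈ E, ⁅x, y⁆ * e ∈ centralizer (E : Set G) := by
  have n1 : ((Fr E).subgroupOf E).Normal := normal_subgroupOf_of_le_normalizer (le_normalizer.trans Nz_le_Fr)
  let ρ := sectionAut (Nz E) E (Fr E) le_rfl Nz_le_Fr
  let K : Subgroup (Nz E) := (centralizer (E : Set G)).subgroupOf (Nz E) ⊔ E.subgroupOf (Nz E)
  have n2 : K.Normal := inferInstance
  have p : IsPGroup 2 (ρ.ker.map (QuotientGroup.mk' K)) := by
    rintro ⟨_, g, hg, rfl⟩
    obtain ⟨k, m, -, o, -⟩ := parts (g : G)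
    refine ⟨k, Subtype.ext ?_⟩
    show QuotientGroup.mk' K g ^ 2 ^ k = 1
    rw [← map_pow]
    exact (QuotientGroup.eq_one_iff _).2 (mem_sup_left (cen_of_odd hE (pow_mem g.2 _) o
      ((mem_ker_sectionAut _ _ _ _ _ (g ^ 2 ^ k)).1 (pow_mem hg _))))
  obtain ⟨k, hk⟩ := IsPGroup.iff_card.1 p
  have d1 : ρ.ker.index ∣ 9999360 := by
    rw [index_ker]
    refine (card_subgroup_dvd_card _).trans (card_aut_dvd ?_ h32)
    rintro ⟨v⟩
    exact (QuotientGroup.eq_one_iff (v * v)).2 (sq_mem_Fr v.2)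
  have d2 : K.index ∣ 2 ^ k * 9999360 := by
    rw [index, ← card_mul_index (ρ.ker.map (QuotientGroup.mk' K)), hk]
    exact mul_dvd_mul_left _ ((index_map_dvd _ (QuotientGroup.mk'_surjective K)).trans d1)
  have d4 := dvd90 d2 (fun c => h4 (c.trans (index_dvd_of_le le_sup_right))) (fun c => h7 (c.trans (index_dvd_card K)))
    fun c => h.n31 (c.trans ((index_dvd_card K).trans (card_subgroup_dvd_card _)))
  have o {x : G} (hx : x ∈ Nz E) (ox : Odd (orderOf x)) : Odd (orderOf (QuotientGroup.mk' K ⟨x, hx⟩)) :=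
    ox.of_dvd_nat ((orderOf_map_dvd _ _).trans (orderOf_mk x hx).dvd)
  have c : ⁅(⟨x, hx⟩ : Nz E), (⟨y, hy⟩ : Nz E)⁆ ∈ K := (QuotientGroup.eq_one_iff _).1 (by
    rw [← QuotientGroup.mk'_apply, map_commutatorElement, commutatorElement_eq_one_iff_mul_comm]
    exact comm90 d4 (o hx ox) (o hy oy))
  obtain ⟨u, hu, e, he, q⟩ := mem_sup_of_normal_left.1 c
  refine ⟨(e : G)⁻¹, inv_mem he, ?_⟩
  rw [show ⁅x, y⁆ = u * e from (congrArg Subtype.val q).symm, mul_inv_cancel_right]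
  exact hu

theorem Fr_cen (s : Spl (T : Subgroup G) D γ) : Fr (T : Subgroup G) ≤ centralizer {γ} := Fr_le_iff.2 fun t ht => by
  have hd := s.cm t⁻¹ (inv_mem ht)
  have e : γ * t * γ⁻¹ = t * ⁅t⁻¹, γ⁆ := by simp [commutatorElement_def, mul_assoc]
  rw [mem_centralizer_singleton_iff, eq_comm, ← mul_inv_eq_iff_eq_mul, ← conj_mul, e, mul_assoc,
    ← mul_assoc _ t, ← s.cen _ hd t ht, mul_assoc, s.el _ hd, mul_one]

theorem γ_nz (s : Spl (T : Subgroup G) D γ) (h1 : D ≤ E) (h2 : E ≤ T) : γ ∈ Nz E := nz_of fun u hu => by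
  have := mul_mem hu (h1 (s.cm u⁻¹ (inv_mem (h2 hu))))
  simpa [commutatorElement_def, mul_assoc] using this

end DFc
open DFc

/-- `N(E) / E C(E)` has order dividing 90. -/
theorem comm_mod (h : Hyp T) (hE : Bad T R E) (hb : Iv T E b) (h2 : ∀ c ∈ (T : Subgroup G), c ∈ Nz E → c ∈ E ∨ c * b⁻¹ ∈ E)
    (h16 : 16 ≤ (Fr E).relIndex E) (h32 : (Fr E).relIndex E ≤ 32) {x y : G} (hx : x ∈ Nz E) (hy : y ∈ Nz E)
    (ox : Odd (orderOf x)) (oy : Odd (orderOf y)) : ∃ e ∈ E, ⁅x, y⁆ * e ∈ centralizer (E : Set G) := by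
  refine comm_gen h (T.isPGroup'.to_le hE.lt.le) (fun c => ?_) (h.no7_bad hE.lt.le h16 h32) h32 hx hy ox oy
  rw [← relIndex_mul_relIndex E ((T : Subgroup G) ⊓ Nz E) (Nz E) (le_inf hE.lt.le le_normalizer) inf_le_right] at c
  have k := Nat.le_of_dvd (Nat.pos_of_ne_zero index_ne_zero_of_finite) (Nat.Coprime.dvd_of_dvd_mul_right
    (((Nat.Prime.coprime_iff_not_dvd Nat.prime_two).2 hE.syl).pow_left 2) c)
  obtain ⟨p, hp, q, hq, h3, h4, h5⟩ := two_lt.1 (lt_of_lt_of_le (by norm_num) k)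
  have := cj_mem (inv_mem hb.nz) (mul_mem (inv_mem ((h2 p hp.1 hp.2).resolve_left h3))
    ((h2 q hq.1 hq.2).resolve_left h4))
  exact h5 (by simpa [mul_assoc] using this)

theorem comm_mod_top' (h : Hyp T) (h32 : (Fr T).relIndex (T : Subgroup G) ≤ 32) {x y : G} (hx : x ∈ Nz (T : Subgroup G))
    (hy : y ∈ Nz (T : Subgroup G)) (ox : Odd (orderOf x)) (oy : Odd (orderOf y)) :
    ∃ e ∈ (T : Subgroup G), ⁅x, y⁆ * e ∈ centralizer ((T : Subgroup G) : Set G) :=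
  comm_gen h T.isPGroup' (fun c => T.not_dvd_index (((show 2 ∣ 4 by norm_num).trans c).trans
    (Dvd.intro _ (relIndex_mul_index le_normalizer)))) h.no7_top h32 hx hy ox oy

set_option linter.unusedVariables false in
theorem comm_mod_top (h : Hyp T) (h16 : 16 ≤ (Fr T).relIndex (T : Subgroup G))
    (h32 : (Fr T).relIndex (T : Subgroup G) ≤ 32) {x y : G} (hx : x ∈ Nz (T : Subgroup G))
    (hy : y ∈ Nz (T : Subgroup G)) (ox : Odd (orderOf x)) (oy : Odd (orderOf y)) :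
    ∃ e ∈ (T : Subgroup G), ⁅x, y⁆ * e ∈ centralizer ((T : Subgroup G) : Set G) :=
  comm_mod_top' h h32 hx hy ox oy

/-- `x γ x⁻¹` and `γ` agree on `E`, and `D = ⁅E, γ⁆`. -/
theorem Spl.nz_of_comm (h : Spl (T : Subgroup G) D γ) (h1 : D ≤ E) (h2 : E ≤ T) {x : G} (hx : x ∈ Nz E)
    (c : ∃ e ∈ E, ⁅x, γ⁆ * e ∈ centralizer (E : Set G)) : x ∈ Nz D := by
  obtain ⟨e, he, c⟩ := c
  let φ := E.normalizerMonoidHom
  have ker {g : Nz E} : φ g = 1 ↔ (g : G) ∈ centralizer (E : Set G) := by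
    rw [← MonoidHom.mem_ker, normalizerMonoidHom_ker, mem_subgroupOf]
  let g : Nz E := ⟨γ, γ_nz h h1 h2⟩
  let y : Nz E := ⟨x, hx⟩
  let u : Nz E := ⟨e, le_normalizer he⟩
  have e1 : φ (⁅y, g⁆ * u) = 1 := ker.2 c
  have e2 : Commute (φ u) (φ g) := by
    rw [← commutatorElement_eq_one_iff_commute, ← map_commutatorElement]
    exact ker.2 fun v hv => h.cen _ (h.cm e (h2 he)) v (h2 hv)
  have e3 : φ y * φ g * (φ y)⁻¹ = (φ u)⁻¹ * φ g := by
    rw [map_mul, map_commutatorElement, commutatorElement_def] at e1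
    rw [← eq_inv_of_mul_eq_one_left e1, inv_mul_cancel_right]
  have g1 : φ g ^ orderOf γ = 1 := by
    rw [← map_pow, show g ^ orderOf γ = 1 from Subtype.ext (pow_orderOf_eq_one γ), map_one]
  have e4 : φ u ^ orderOf γ = 1 := by
    have := congrArg (· ^ orderOf γ) e3
    simp only [conj_pow, e2.inv_left.mul_pow, g1] at this
    simpa using this.symm
  have e5 : φ u = 1 := by
    obtain ⟨k, hk⟩ := T.isPGroup' ⟨e, h2 he⟩
    have hk' : e ^ 2 ^ k = 1 := congrArg Subtype.val hk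
    have : φ u ^ 2 ^ k = 1 := by
      rw [← map_pow, show u ^ 2 ^ k = 1 from Subtype.ext hk', map_one]
    exact orderOf_eq_one_iff.1 (Nat.eq_one_of_dvd_coprimes ((Nat.coprime_two_right.2 h.odd).pow_right k)
      (orderOf_dvd_of_pow_eq_one e4) (orderOf_dvd_of_pow_eq_one this))
  have e6 : ⁅x, γ⁆ ∈ centralizer (E : Set G) := (mul_mem_cancel_right (ker.1 e5)).1 c
  let f : D → D := fun d => ⟨⁅d.1, γ⁆, h.cm _ (h.le d.2)⟩
  have inj : Function.Injective f := fun d d' k => by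
    have k1 : (d : G) * γ * (d : G)⁻¹ = d' * γ * (d' : G)⁻¹ := mul_right_cancel (congrArg Subtype.val k)
    refine Subtype.ext (inv_mul_eq_one.1 (h.fpf _ (mul_mem (inv_mem d'.2) d.2) ?_)).symm
    calc γ * ((d' : G)⁻¹ * d) = (d' : G)⁻¹ * (d' * γ * (d' : G)⁻¹) * d := by group
      _ = _ := by rw [← k1]; group
  refine nz_of fun d hd => ?_
  obtain ⟨v, hv⟩ := Finite.surjective_of_injective inj ⟨d, hd⟩
  have m := cj_mem hx (h1 v.2)
  have m' := h.cm _ (h2 m)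
  have : x * d * x⁻¹ = ⁅x * v * x⁻¹, γ⁆ := by
    calc x * d * x⁻¹ = (x * v * x⁻¹ * ⁅x, γ⁆) * γ * (x * v * x⁻¹)⁻¹ * γ⁻¹ * ⁅x, γ⁆⁻¹ := by
          rw [← show ⁅v.1, γ⁆ = d from congrArg Subtype.val hv]; simp only [commutatorElement_def]; group
      _ = ⁅x, γ⁆ * ⁅x * v * x⁻¹, γ⁆ * ⁅x, γ⁆⁻¹ := by rw [e6 _ m, commutatorElement_def (x * v * x⁻¹)]; group
      _ = _ := by rw [← e6 _ (h1 m'), mul_inv_cancel_right]
  exact this ▸ m'

/-- `|Fr T| ≥ 4`; the elements of odd order of `N(T)` together with `T` generate `N(T)`. -/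
theorem Spl.nz_top (h : Hyp T) (s : Spl (T : Subgroup G) D γ) : Nz (T : Subgroup G) ≤ Nz D := by
  have h32 : (Fr T).relIndex (T : Subgroup G) ≤ 32 := by
    have e := relIndex_mul_relIndex ⊥ (Fr (T : Subgroup G)) T bot_le Fr_le
    rw [relIndex_bot_left (T : Subgroup G), show Nat.card (T : Subgroup G) = 2 ^ 7 from h.card] at e
    have k : 2 < (⊥ : Subgroup G).relIndex (Fr (T : Subgroup G)) := by
      by_contra k
      refine h.nc2 fun a ha b hb c hc => ?_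
      by_contra ne
      have m := comm_mem_Fr ha hb
      refine k (two_lt.2 ⟨_, m, _, cj_mem (Nz_le_Fr (le_normalizer hc)) m, fun q => ne ?_, fun q => ne ?_,
        fun q => ne ?_⟩)
      · rw [mem_bot.1 q]; simp
      · rw [show ⁅a, b⁆ = 1 by simpa using mem_bot.1 q]; simp
      · exact mul_inv_eq_iff_eq_mul.1 (inv_mul_eq_one.1 (mem_bot.1 q)).symm
    obtain ⟨i, hi, q⟩ := (Nat.dvd_prime_pow Nat.prime_two).1 (Dvd.intro_left _ e)
    rw [q] at e ⊢
    interval_cases i <;> omega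
  intro g hg
  obtain ⟨k, m, hm, o, e⟩ := parts g
  have h1 : g ^ 2 ^ k ∈ Nz D := s.nz_of_comm s.le le_rfl (pow_mem hg _)
    (comm_mod_top' h h32 (pow_mem hg _) s.nz o s.odd)
  have p : IsPGroup 2 (zpowers (g ^ m)) := by
    rintro ⟨_, j, rfl⟩
    exact ⟨k, Subtype.ext (by
      show ((g ^ m) ^ j) ^ 2 ^ k = 1
      rw [← zpow_natCast, ← zpow_mul, mul_comm, zpow_mul, zpow_natCast, e, one_zpow])⟩
  have h2 : g ^ m ∈ (T : Subgroup G) := by
    rw [← T.is_maximal' (IsPGroup.to_sup_of_normal_left' T.isPGroup' p (zpowers_le.2 (pow_mem hg m))) le_sup_left]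
    exact mem_sup_right (mem_zpowers _)
  have h3 : g ^ m ∈ Nz D := nz_of fun d hd => by rw [s.cen d hd _ h2, mul_inv_cancel_right]; exact hd
  have := mul_mem (zpow_mem h1 (Nat.gcdA (2 ^ k) m)) (zpow_mem h3 (Nat.gcdB (2 ^ k) m))
  rwa [← zpow_natCast, ← zpow_natCast g, ← zpow_mul, ← zpow_mul, ← zpow_add, ← Nat.gcd_eq_gcd_ab,
    ((Nat.coprime_two_left.2 hm).pow_left k).gcd_eq_one, Nat.cast_one, zpow_one] at this

/-- `Hyp.bad` with `R = D` gives `E`; `H = {u ∈ E | ⁅u, b⁆ ∈ Fr E}` has index at most two. -/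
theorem Hyp.df (h : Hyp T) : DF (T : Subgroup G) := by
  by_contra hD
  obtain ⟨D, γ, s⟩ := exists_spl h hD
  obtain ⟨E, hE⟩ := h.bad s.le (s.nz_top h) (fun e => by have := s.card; simp [e] at this)
    fun a ha b hb c hc => by rw [commutatorElement_eq_one_iff_mul_comm.2 (s.el.comm ha hb)]; simp
  have DE : D ≤ E := fun d hd => hE.cen d (s.le hd) fun e he => (s.cen d hd e (hE.lt.le he)).symm
  obtain ⟨b, hb⟩ := exists_iv T.isPGroup' hE.lt
  obtain ⟨x, hx⟩ := hE.odd b hb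
  have h32 : (Fr E).relIndex E ≤ 32 := by
    by_contra k
    have e := relIndex_mul_relIndex ⊥ E T bot_le hE.lt.le
    rw [relIndex_bot_left (T : Subgroup G), show Nat.card (T : Subgroup G) = 2 ^ 7 from h.card,
      ← relIndex_mul_relIndex ⊥ (Fr E) E bot_le Fr_le] at e
    have n1 : E.relIndex T ≠ 1 := fun q => hE.lt.not_ge (relIndex_eq_one.1 q)
    obtain ⟨i, hi, q⟩ := (Nat.dvd_prime_pow Nat.prime_two).1 ((Dvd.intro_left _ rfl).trans (Dvd.intro _ e))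
    rw [q] at e k
    have n2 : (⊥ : Subgroup G).relIndex (Fr E) * E.relIndex T ≤ 2 := by
      rw [mul_right_comm] at e
      interval_cases i <;> omega
    have n3 : E.relIndex T ≠ 0 := index_ne_zero_of_finite
    have n4 : (⊥ : Subgroup G).relIndex (Fr E) ≠ 0 := index_ne_zero_of_finite
    have n5 : (⊥ : Subgroup G).relIndex (Fr E) = 1 := by
      have := Nat.mul_le_mul_left ((⊥ : Subgroup G).relIndex (Fr E)) (show 2 ≤ E.relIndex T by omega)
      omega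
    exact h.nc2 (c2_of_el (fun a ha => mem_bot.1 (relIndex_eq_one.1 n5 (sq_mem_Fr ha))) hE.lt.le (by
      rwa [n5, one_mul] at n2))
  have nF {u f : G} (hu : u ∈ E) (hf : f ∈ Fr E) : u * f * u⁻¹ ∈ Fr E := cj_mem (Nz_le_Fr (le_normalizer hu)) hf
  let H : Subgroup G :=
    { carrier := {u | u ∈ E ∧ ⁅u, b⁆ ∈ Fr E}
      one_mem' := ⟨one_mem _, by simp⟩
      mul_mem' := fun {u v} hu hv => ⟨mul_mem hu.1 hv.1, by
        simpa [commutatorElement_def, mul_assoc] using mul_mem (nF hu.1 hv.2) hu.2⟩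
      inv_mem' := fun {u} hu => ⟨inv_mem hu.1, by
        simpa [commutatorElement_def, mul_assoc] using nF (inv_mem hu.1) (inv_mem hu.2)⟩ }
  have HE : H ≤ E := fun _ k => k.1
  have cE {u : G} (hu : u ∈ E) : ⁅u, b⁆ ∈ E := by
    simpa [commutatorElement_def, mul_assoc] using mul_mem hu (cj_mem hb.nz (inv_mem hu))
  have cW {u : G} (hu : u ∈ E) : ⁅u, b⁆ ∈ H ⊓ centralizer {γ} := ⟨⟨cE hu, by
    simpa [commutatorElement_def, mul_assoc] using mul_mem (nF (cE hu) (comm_mem_Fr hb.sq hu)) (sq_mem_Fr (cE hu))⟩,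
    Fr_cen s (comm_mem_Fr (hE.lt.le hu) hb.mem)⟩
  have FW : Fr E ≤ H ⊓ centralizer {γ} := fun f hf => ⟨⟨Fr_le hf, by
    simpa [commutatorElement_def, mul_assoc] using mul_mem hf (cj_mem (Nz_le_Fr hb.nz) (inv_mem hf))⟩,
    Fr_cen s (Fr_mono hE.lt.le hf)⟩
  have DH : D ≤ H := fun d hd => ⟨DE hd, by
    rw [commutatorElement_eq_one_iff_mul_comm.2 (s.cen d hd b hb.mem).symm]; exact one_mem _⟩
  have k2 : 4 ≤ (H ⊓ centralizer {γ}).relIndex H := by
    refine le_trans ?_ (relIndex_le_of_le_right DH index_ne_zero_of_finite)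
    rw [← inf_relIndex_right, show H ⊓ centralizer {γ} ⊓ D = ⊥ from eq_bot_iff.2 fun d hd =>
      s.fpf d hd.2 (mem_centralizer_singleton_iff.1 hd.1.2).symm, relIndex_bot_left, s.card]
  have fac : (Fr E).relIndex (H ⊓ centralizer {γ}) * (H ⊓ centralizer {γ}).relIndex H * H.relIndex E =
      (Fr E).relIndex E := by
    rw [relIndex_mul_relIndex _ _ _ FW inf_le_left, relIndex_mul_relIndex _ _ _ (FW.trans inf_le_left) HE]
  have h2 : H.relIndex E ≤ 2 := by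
    by_contra! k
    obtain ⟨u, hu, v, hv, h3, h4, h5⟩ := two_lt.1 k
    have k1 : 2 < (Fr E).relIndex (H ⊓ centralizer {γ}) := two_lt.2 ⟨_, cW hu, _, cW hv, fun q => h3 ⟨hu, q⟩,
      fun q => h4 ⟨hv, q⟩, fun q => h5 ⟨mul_mem (inv_mem hu) hv, by
        simpa [commutatorElement_def, mul_assoc] using nF (mul_mem (inv_mem hu) (cE hu)) q⟩⟩
    have := Nat.mul_le_mul (Nat.mul_le_mul k1 k2) k
    omega
  have h16 : 16 ≤ (Fr E).relIndex E := by
    obtain ⟨u, hu, q⟩ := hE.nt b hb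
    have two {X Y : Subgroup G} (n : ¬ X ≤ Y) : 2 ≤ Y.relIndex X := by
      have : Y.relIndex X ≠ 0 := index_ne_zero_of_finite
      have := mt relIndex_eq_one.1 n
      omega
    have := Nat.mul_le_mul (Nat.mul_le_mul (two fun k : H ⊓ centralizer {γ} ≤ Fr E => q (k (cW hu))) k2)
      (two fun k : E ≤ H => q (k hu).2)
    omega
  exact hx.mv ((inf_eq_right.2 DE).symm ▸ s.nz_of_comm DE hE.lt.le hx.nz (comm_mod h hE hb
    (hE.tv b hb H HE h2 fun _ k => k.2) h16 h32 hx.nz (γ_nz s DE hE.lt.le) hx.odd s.odd))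

end CL.J3O
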