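import Mathlib
import Cfsg.Statements.S3228
import Cfsg.Statements.S1169
import Cfsg.Prelude.Def_Transfer

/-! Simple groups of order `|J₃|`: the definitions for the case of sectional 2-rank at least five. -/

set_option autoImplicit false

namespace CL.J3O

open Subgroup Cfsg
open scoped commutatorElement

variable {G : Type*} [Group G]

/-- class at most two -/
def C2 (R : Subgroup G) : Prop := ∀ a ∈ R, ∀ b ∈ R, ∀ c ∈ R, c * ⁅a, b⁆ = ⁅a, b⁆ * c

/-- elementary abelian -/
def El (A : Subgroup G) : Prop := ∀ a ∈ A, a * a = 1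

/-- the subgroup generated by the squares (the Frattini subgroup of a 2-group) -/
def Fr (E : Subgroup G) : Subgroup G := Subgroup.closure {x | ∃ e ∈ E, x = e * e}

/-- the normalizer -/
abbrev Nz (E : Subgroup G) : Subgroup G := normalizer (E : Set G)

/-- the conjugate `x Y x⁻¹` -/
abbrev cj (x : G) (Y : Subgroup G) : Subgroup G := Y.map (MulAut.conj x).toMonoidHom

/-- the global hypotheses -/
structure Hyp (T : Sylow 2 G) : Prop where
  card : Nat.card T = 128
  n14 : ∀ g : G, orderOf g ≠ 14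
  n31 : ¬ 31 ∣ Nat.card G
  ni : pResidual 2 G = ⊤
  sc : ∀ R : Subgroup G, R ≠ ⊥ → C2 R → ¬ IsStronglyClosed R (T : Subgroup G)

/-- `b` is an involution of `N_T(E) / E` -/
structure Iv (T E : Subgroup G) (b : G) : Prop where
  mem : b ∈ T
  nz : b ∈ Nz E
  nm : b ∉ E
  sq : b * b ∈ E

/-- `x` has odd order, is inverted by `b` modulo `E` and moves `Y` -/
structure Mv (E Y : Subgroup G) (b x : G) : Prop where
  nz : x ∈ Nz E
  odd : Odd (orderOf x)
  inv : b * x * b⁻¹ * x ∈ E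
  mv : x ∉ Nz Y

/-- an essential subgroup `E` at which the strong closure of `R` fails -/
structure Bad (T R E : Subgroup G) : Prop where
  lt : E < T
  cen : ∀ t ∈ T, (∀ e ∈ E, t * e = e * t) → t ∈ E
  syl : ¬ 2 ∣ (T ⊓ Nz E).relIndex (Nz E)
  odd : ∀ b, Iv T E b → ∃ x, Mv E (E ⊓ R) b x
  nt : ∀ b, Iv T E b → ∃ e ∈ E, ⁅e, b⁆ ∉ Fr E
  tv : ∀ b, Iv T E b → ∀ H ≤ E, H.relIndex E ≤ 2 → (∀ h ∈ H, ⁅h, b⁆ ∈ Fr E) →
    ∀ c ∈ T, c ∈ Nz E → c ∈ E ∨ c * b⁻¹ ∈ E

/-- the central involutions of `T` lie in the Frattini subgroup -/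
def DF (T : Subgroup G) : Prop := ∀ z ∈ T, z * z = 1 → (∀ t ∈ T, t * z = z * t) → z ∈ Fr T

/-- a normal elementary abelian subgroup of order 32 -/
structure NE32 (T Q : Subgroup G) : Prop where
  le : Q ≤ T
  nm : T ≤ Nz Q
  el : El Q
  card : Nat.card Q = 32

end CL.J3O
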