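import Cfsg.Agent.S0243
import Cfsg.Agent.S0280
import Cfsg.Agent.S0245
import Cfsg.Agent.S0246
import Cfsg.Statements.S1170
import Cfsg.Statements.S0506

/-! No classical group has order `50232960 = 2⁷ · 3⁵ · 5 · 17 · 19`. -/

set_option autoImplicit false

namespace CL.J3O

open Cfsg

theorem Ord.gcd_le {n m a : ℕ} (h2 : 2 ≤ n) (h5 : n ≤ 5) : Nat.gcd n m * (a * 50232960) ≤ 251164800 * a := by
  have := Nat.gcd_le_left m (show 0 < n by omega)
  nlinarith [Nat.mul_le_mul_right (a * 50232960) (this.trans h5)]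

/-- `S0243`.  `n = 2`: `q³ - q ∈ {N, 2 N}` lies between consecutive values (`q = 368, 369`; `464, 465`).  `n ≥ 3`: `q ^ (n (n - 1) / 2)` divides `gcd · N`, and the order is
increasing in `q`; bound `q` and `interval_cases`. -/
theorem ne_psl {F : Type*} [Field F] [Fintype F] {n : ℕ} (h2 : 2 ≤ n) (h5 : n ≤ 5) :
    Nat.card (Matrix.ProjectiveSpecialLinearGroup (Fin n) F) ≠ 50232960 := fun e => by
  have H := Cfsg.Agent.S0243.result (F := F) rfl n h2
  have q2 : 2 ≤ Fintype.card F := Fintype.one_lt_card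
  rw [e] at H
  generalize Fintype.card F = q at H q2
  rcases lt_or_ge q 700 with b | b
  · exact (by decide +kernel : ∀ n < 6, 2 ≤ n → ∀ q < 700, 2 ≤ q →
      Nat.gcd n (q - 1) * ((q - 1) * 50232960) ≠ ∏ i : Fin n, (q ^ n - q ^ (i : ℕ))) n (by omega) h2 q b q2 H
  have h1 : (q * (q - 1)) ^ n ≤ ∏ i : Fin n, (q ^ n - q ^ (i : ℕ)) := by
    have := Finset.pow_card_le_prod Finset.univ (fun i : Fin n => q ^ n - q ^ (i : ℕ)) (q * (q - 1)) fun i _ => by
      obtain ⟨k, hk⟩ : ∃ k, n = k + 2 := ⟨n - 2, by omega⟩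
      have e1 : q ^ (i : ℕ) ≤ q ^ (k + 1) := Nat.pow_le_pow_right (by omega) (by omega)
      have e2 : q ≤ q ^ (k + 1) := Nat.le_self_pow (by omega) q
      have e3 : q ^ n = q ^ (k + 1) * (q - 1) + q ^ (k + 1) := by
        rw [← Nat.mul_succ, Nat.succ_eq_add_one, Nat.sub_add_cancel (by omega), ← pow_succ, hk]
      have := Nat.mul_le_mul_right (q - 1) e2
      omega
    simpa using this
  obtain ⟨k, rfl⟩ : ∃ k, q = k + 1 := ⟨q - 1, by omega⟩
  rw [Nat.add_sub_cancel] at h1 H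
  have h3 := (Nat.pow_le_pow_right (Nat.mul_pos (by omega : 0 < k + 1) (by omega)) h2).trans (h1.trans (H.ge.trans (Ord.gcd_le h2 h5)))
  have h4 : 699 ≤ k := by omega
  have h6 : 699 * 699 * 699 * k ≤ ((k + 1) * k) ^ 2 := by
    rw [show ((k + 1) * k) ^ 2 = (k + 1) * (k + 1) * k * k by ring]
    gcongr <;> omega
  omega

/-- `S0280` -/
theorem ne_psu {F : Type*} [Field F] [Fintype F] {n q : ℕ} (hF : Fintype.card F = q ^ 2) (h3 : 3 ≤ n) (h5 : n ≤ 5) :
    Nat.card (PSU n F q) ≠ 50232960 := fun e => by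
  have H := Cfsg.Agent.S0280.result hF n (by omega)
  have q2 : 2 ≤ q := by
    have : 1 < q ^ 2 := hF ▸ Fintype.one_lt_card
    by_contra! c
    interval_cases q <;> simp at this
  rw [e] at H
  rcases lt_or_ge q 700 with b | b
  · exact (by decide +kernel : ∀ n < 6, 3 ≤ n → ∀ q < 700,
      Nat.gcd n (q + 1) * ((q + 1) * 50232960) ≠ q ^ (n * (n - 1) / 2) *
        ∏ i ∈ Finset.range n, (if Even i then q ^ (i + 1) + 1 else q ^ (i + 1) - 1)) n (by omega) h3 q b H
  have h1 : q + 1 ≤ ∏ i ∈ Finset.range n, (if Even i then q ^ (i + 1) + 1 else q ^ (i + 1) - 1) := by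
    have := Finset.single_le_prod' (s := Finset.range n)
      (f := fun i => if Even i then q ^ (i + 1) + 1 else q ^ (i + 1) - 1) (fun i _ => by
        have : q ≤ q ^ (i + 1) := Nat.le_self_pow (by omega) q
        split_ifs <;> omega) (Finset.mem_range.2 (show 0 < n by omega))
    simpa using this
  have h2 : 700 ^ 3 ≤ q ^ (n * (n - 1) / 2) :=
    (Nat.pow_le_pow_left b 3).trans (Nat.pow_le_pow_right (by omega) (by interval_cases n <;> simp))
  have := (Nat.mul_le_mul h2 h1).trans (H.ge.trans (Ord.gcd_le (by omega) h5))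
  omega

/-- the order `q⁴ (q² - 1) (q⁴ - 1) / gcd(2, q - 1)` (grep `card_PSp`, S02xx) -/
theorem ne_psp {F : Type*} [Field F] [Fintype F] : Nat.card (PSp 2 F) ≠ 50232960 := fun e => by
  have H := Subgroup.card_eq_card_quotient_mul_card_subgroup (Subgroup.center (Matrix.symplecticGroup (Fin 2) F))
  rw [Cfsg.Agent.S0245.result rfl, Cfsg.Agent.S0246.result rfl 2 one_le_two, e] at H
  have q2 : 2 ≤ Fintype.card F := Fintype.one_lt_card
  generalize Fintype.card F = q at H q2
  rcases lt_or_ge q 700 with b | b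
  · exact (by decide +kernel : ∀ q < 700, q ^ 2 ^ 2 * ∏ i ∈ Finset.range 2, (q ^ (2 * (i + 1)) - 1) ≠
      50232960 * Nat.gcd 2 (q - 1)) q b H
  have h1 : 1 ≤ ∏ i ∈ Finset.range 2, (q ^ (2 * (i + 1)) - 1) := Finset.one_le_prod' fun i _ => by
    have : q ≤ q ^ (2 * (i + 1)) := Nat.le_self_pow (by omega) q
    omega
  have := (Nat.mul_le_mul (Nat.pow_le_pow_left b (2 ^ 2)) h1).trans H.le
  have := Nat.gcd_le_left (q - 1) two_pos
  omega

theorem ne_alt (n : ℕ) : Nat.card (alternatingGroup (Fin n)) ≠ 50232960 := fun e => by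
  have H := Subgroup.card_subgroup_dvd_card (alternatingGroup (Fin n))
  rw [e, Nat.card_perm, Nat.card_fin] at H
  rcases lt_or_ge n 12 with b | b
  · interval_cases n <;> revert H <;> decide +kernel
  have : Nontrivial (Fin n) := Fin.nontrivial_iff_two_le.2 (by omega)
  have h1 := two_mul_nat_card_alternatingGroup (α := Fin n)
  rw [e, Nat.card_perm, Nat.card_fin] at h1
  have h2 : (12 : ℕ).factorial ≤ n.factorial := Nat.factorial_le b
  rw [← h1] at h2
  revert h2
  decide +kernel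

theorem ne_sz {G : Type*} [Group G] (h : IsSuzuki G) : Nat.card G ≠ 50232960 := fun e => by
  obtain ⟨-, m, h1, h⟩ := h
  rw [e] at h
  rcases h1.eq_or_lt with rfl | h1
  · revert h; decide +kernel
  have : (2 ^ 5) ^ 2 ∣ 50232960 := h ▸ ((pow_dvd_pow_of_dvd (pow_dvd_pow 2 (by omega)) 2).mul_right _).mul_right _
  revert this; decide +kernel

theorem ne_ree {G : Type*} [Group G] (h : IsRee G) : Nat.card G ≠ 50232960 := fun e => by
  obtain ⟨-, m, h1, h⟩ := h
  rw [e] at h
  have : (3 ^ 3) ^ 3 ∣ 50232960 := h ▸ ((pow_dvd_pow_of_dvd (pow_dvd_pow 3 (by omega)) 3).mul_right _).mul_right _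
  revert this; decide +kernel

end CL.J3O
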