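import Cfsg.Agent.REC.J3O.Glob
import Cfsg.Agent.SYL.SR4.Top
import Cfsg.Agent.S2135
import Cfsg.Agent.FUS.EssSmall
import Cfsg.Agent.FGS.CITStruct

/-! A simple group of order `|J₃|` is `J₃`. -/

set_option autoImplicit false

namespace CL.J3O

open Subgroup Cfsg
open scoped commutatorElement

universe u

variable {G : Type u} [Group G] [Finite G] [IsSimpleGroup G]

namespace IsoX

theorem six {q m : ℕ} (ho : Odd q) (h1 : 1 < q) (h : q ^ 6 * m = 50232960) : False := by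
  have h2 : q ^ 6 ≤ 50232960 := Nat.le_of_dvd (by norm_num) ⟨m, h.symm⟩
  have h3 : q < 20 := by
    by_contra h3
    have := Nat.pow_le_pow_left (not_lt.1 h3) 6
    omega
  obtain ⟨k, rfl⟩ := ho
  have h4 : k < 10 := by omega
  interval_cases k <;> omega

theorem ne_g2 {E : Type} [Field E] [Fintype E] (hE : Odd (Fintype.card E)) :
    Nat.card (Lie.chevG2.group E) ≠ 50232960 := fun h => by
  rw [Agent.S1059.result rfl, mul_assoc] at h
  exact six hE Fintype.one_lt_card h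

theorem ne_d4 {K : Type} [Field K] [Fintype K] {r : ℕ} (ho : Odd r) (hK : Fintype.card K = r ^ 3) :
    Nat.card (Lie.twistedD4 K r) ≠ 50232960 := fun h => by
  have hr : IsPrimePow r := (isPrimePow_pow_iff (by norm_num : 3 ≠ 0)).1 (hK ▸ FiniteField.isPrimePow_card K)
  rw [Agent.S1067.result hr hK] at h
  exact six (m := r ^ 6 * (r ^ 2 - 1) * (r ^ 6 - 1) * (r ^ 8 + r ^ 4 + 1)) ho hr.one_lt (by rw [← h]; ring)

/-- the isomorphism of the centralizers -/
def ce {X Y : Type*} [Group X] [Group Y] (e : X ≃* Y) {x : X} {y : Y} (h : e x = y) :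
    centralizer ({x} : Set X) ≃* centralizer ({y} : Set Y) where
  toFun a := ⟨e a, mem_centralizer_singleton_iff.2 (by
    rw [← h, ← map_mul, mem_centralizer_singleton_iff.1 a.2, map_mul])⟩
  invFun a := ⟨e.symm a, mem_centralizer_singleton_iff.2 (e.injective (by
    simpa [h] using mem_centralizer_singleton_iff.1 a.2))⟩
  left_inv a := by simp
  right_inv a := by simp
  map_mul' a b := by simp

theorem cm {C : Type*} [Group C] {k e k' e' : C} (c1 : Commute k e) (c2 : Commute k e') (c3 : Commute k' e)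
    (c4 : Commute k' e') : ⁅k * e, k' * e'⁆ = ⁅k, k'⁆ * ⁅e, e'⁆ := by
  simp only [commutatorElement_def]
  rw [c1.mul_inv, c4.mul_inv, c3.symm.mul_mul_mul_comm, (c1.mul_right c2).inv_left.symm.mul_mul_mul_comm,
    ((c3.mul_right c4).mul_right c3.inv_right).inv_left.symm.mul_mul_mul_comm]

theorem core {C : Type*} [Group C] [Finite C] {E P : Subgroup C} [E.Normal] (hE : IsExtraspecial 2 E)
    (f : C ⧸ E ≃* alternatingGroup (Fin 5)) (pP : IsPGroup 2 P) (hP : E ≤ P) :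
    centralizer (E : Set C) ≤ E ∨ C2 P := by
  obtain ⟨⟨-, -, cE⟩, h2⟩ := hE
  let π : C →* alternatingGroup (Fin 5) := f.toMonoidHom.comp (QuotientGroup.mk' E)
  have hπ : Function.Surjective π := f.surjective.comp (QuotientGroup.mk'_surjective E)
  have kπ : ∀ x, π x = 1 ↔ x ∈ E := fun x => by
    rw [← QuotientGroup.eq_one_iff, ← f.map_eq_one_iff]; rfl
  refine (((inferInstance : (centralizer (E : Set C)).Normal)).map π hπ).eq_bot_or_eq_top.imp
    (fun hK x hx => (kπ _).1 (mem_bot.1 (hK.le ⟨_, hx, rfl⟩))) fun hK a ha b hb c _ => ?_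
  have dec : ∀ x : C, ∃ k ∈ centralizer (E : Set C), ∃ e ∈ E, x = k * e := fun x => by
    obtain ⟨k, hk, e⟩ := hK.ge (mem_top (π x))
    exact ⟨k, hk, k⁻¹ * x, (kπ _).1 (by rw [map_mul, map_inv, e, inv_mul_cancel]), by simp⟩
  obtain ⟨k, hk, e, he, rfl⟩ := dec a
  obtain ⟨k', hk', e', he', rfl⟩ := dec b
  obtain ⟨k'', hk'', e'', he'', rfl⟩ := dec c
  have ab : IsMulCommutative (P.map π) := by
    refine BG.Sec4.isMulCommutative_of_card_le (pP.map π) ?_
    obtain ⟨n, hn⟩ := (pP.map π).exists_card_eq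
    have d := card_subgroup_dvd_card (P.map π)
    rw [hn, nat_card_alternatingGroup, Nat.card_eq_fintype_card, Fintype.card_fin] at d
    rw [hn]
    refine Nat.pow_le_pow_right (by norm_num) (not_lt.1 fun l => ?_)
    exact absurd ((pow_dvd_pow 2 l).trans d) (by decide)
  have e1 : ⁅k, k'⁆ ∈ E := (kπ _).1 (by
    rw [map_commutatorElement, commutatorElement_eq_one_iff_mul_comm]
    exact congrArg Subtype.val (ab.is_comm.comm ⟨_, k, (mul_mem_cancel_right (hP he)).1 ha, rfl⟩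
      ⟨_, k', (mul_mem_cancel_right (hP he')).1 hb, rfl⟩))
  have e2 : ⁅k, k'⁆ ∈ centralizer (E : Set C) :=
    mul_mem (mul_mem (mul_mem hk hk') (inv_mem hk)) (inv_mem hk')
  have e3 : ⁅(⟨e, he⟩ : E), ⟨e', he'⟩⁆ ∈ center E := cE ▸ commutator_mem_commutator (mem_top _) (mem_top _)
  have e4 := mul_mem (mem_center_iff.2 fun g => Subtype.ext (mem_centralizer_iff.1 e2 g g.2) :
    (⟨_, e1⟩ : E) ∈ center E) e3
  rw [cm (mem_centralizer_iff.1 hk e he).symm (mem_centralizer_iff.1 hk e' he').symm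
    (mem_centralizer_iff.1 hk' e he).symm (mem_centralizer_iff.1 hk' e' he').symm]
  have d1 : Commute k'' (⁅k, k'⁆ * ⁅e, e'⁆) :=
    (mem_centralizer_iff.1 hk'' _ (mul_mem e1 (mul_mem (mul_mem (mul_mem he he') (inv_mem he))
      (inv_mem he')))).symm
  have d2 : Commute e'' (⁅k, k'⁆ * ⁅e, e'⁆) := congrArg Subtype.val (mem_center_iff.1 e4 ⟨e'', he''⟩)
  exact (d1.mul_left d2).eq

end IsoX

open IsoX

/-- Every leaf other than `J₃` has the wrong order. -/
theorem iso_of_ty (hG : ¬ IsMulCommutative G) (hc : Nat.card G = 50232960) (h4 : SR4.SR 4 G) (h : SR4.Ty G) : Spor.IsoJ3 G := by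
  have k : ∀ {X : Type} [Group X], Nat.card X ≠ 50232960 → G ≃* X → False := fun hX e =>
    hX ((Nat.card_congr e.toEquiv).symm.trans hc)
  have k' : ∀ {n : ℕ}, IsSimpleGroup G ∧ Nat.card G = n → n = 50232960 := fun h => h.2.symm.trans hc
  have j2 : Spor.IsoJ2 G → False := fun ⟨e⟩ => by
    obtain ⟨φ, M, hc⟩ := CL.Syl.J7.exists_J2
    exact k (by rw [hc]; norm_num) e
  have ly : Spor.IsoLy G → False := fun ⟨e⟩ => k (by rw [Ly.card]; norm_num) e
  rcases h with (h | ⟨S, h⟩ | ⟨H, h⟩) | h | h | ⟨n, φ, h⟩ | ⟨φ, h⟩ | h | ⟨F, _, _, hF, S, P, ⟨e⟩⟩ | ⟨S, P, e⟩ |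
    ⟨S, P, e⟩ | h | h | h | ⟨⟨e⟩⟩ | ⟨⟨e⟩⟩ | h
  · rcases Agent.S0482.result hG h with ⟨F, _, _, -, -, ⟨e⟩⟩ | ⟨F, _, _, -, ⟨e⟩⟩ | ⟨F, _, _, q, hF, -, ⟨e⟩⟩ |
      ⟨F, _, _, hF, ⟨e⟩⟩ | ⟨⟨e⟩⟩ | h
    exacts [(k (ne_psl le_rfl (by norm_num)) e).elim, (k (ne_psl (by norm_num) (by norm_num)) e).elim,
      (k (ne_psu hF le_rfl (by norm_num)) e).elim, (k (ne_psu (q := 4) hF le_rfl (by norm_num)) e).elim,
      (k (ne_alt 7) e).elim, absurd (k' h) (by norm_num)]
  · exact absurd h (not_ab hG hc S)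
  · exact absurd h (not_se hG hc H)
  · rcases SR4.tyG_out h with ⟨E, _, _, hE, ⟨e⟩⟩ | ⟨K, _, _, r, ho, hK, ⟨e⟩⟩ | ⟨⟨e⟩⟩
    exacts [(k (ne_g2 hE) e).elim, (k (ne_d4 ho hK) e).elim,
      (k (by rw [MathMdl.card_M12]; norm_num) e).elim]
  · obtain ⟨F, _, _, -, ⟨e⟩⟩ | ⟨⟨e⟩⟩ | ⟨⟨e⟩⟩ := SR4.tyP_out h
    exacts [(k ne_psp e).elim, (k (ne_alt 8) e).elim, (k (ne_alt 9) e).elim]
  · obtain ⟨⟨e⟩⟩ | ⟨⟨e⟩⟩ | ⟨F, _, _, q, -, -, ⟨e⟩⟩ | ⟨F, _, _, q, hF, -, ⟨e⟩⟩ := O6.typeII h (P4S.cz_zmod n)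
    exacts [(k (ne_alt 10) e).elim, (k (ne_alt 11) e).elim, (k (ne_psl (by norm_num) (by norm_num)) e).elim,
      (k (ne_psu hF (by norm_num) (by norm_num)) e).elim]
  · rcases (O6.out0_of_sy h).out (O6.not_comm_I h) with ⟨F, _, _, -, ⟨e⟩⟩ | ⟨F, _, _, r, hF, -, ⟨e⟩⟩ | e | e | e
    exacts [(k (ne_psl (by norm_num) (by norm_num)) e).elim, (k (ne_psu hF (by norm_num) (by norm_num)) e).elim,
      absurd (k' e) (by norm_num), absurd (k' e) (by norm_num), absurd (k' e) (by norm_num)]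
  · rcases SR4.tyL_out h4 h with ⟨F, _, _, -, ⟨e⟩⟩ | ⟨F, _, _, q, hF, -, ⟨e⟩⟩
    exacts [(k (ne_psl (by norm_num) le_rfl) e).elim, (k (ne_psu hF (by norm_num) le_rfl) e).elim]
  · have h1 := SR4.KS.syl_card S (k := 7) (m := 392445) hc rfl
    have h2 := SR4.KS.syl_card P (k := 6) (m := 315) (CITC.card_psl3_four hF) rfl
    exact absurd (h1.symm.trans ((Nat.card_congr e.toEquiv).trans h2)) (by norm_num)
  · exact (Agent.S1776.result S P e).resolve_left j2
  · exact (ly (Agent.S3100.result hG S ⟨P, e⟩)).elim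
  · obtain ⟨F, _, _, hF, ⟨⟨e⟩⟩ | ⟨⟨e⟩⟩ | ⟨⟨e⟩⟩⟩ | ⟨F, _, _, hF, ⟨e⟩⟩ | ⟨F, _, _, hF, ⟨e⟩⟩ | ⟨n, -, -, ⟨e⟩⟩ |
      ⟨⟨e⟩⟩ := h
    exacts [(k (ne_psl (by norm_num) (by norm_num)) e).elim, (k ne_psp e).elim,
      (k (ne_g2 (by rw [hF]; decide)) e).elim, (k (ne_psu (q := 3) hF (by norm_num) (by norm_num)) e).elim,
      (k (ne_psl (by norm_num) (by norm_num)) e).elim, (k (ne_alt n) e).elim,
      (k (by rw [MathMdl.card_M22]; norm_num) e).elim]
  · exact (j2 h).elim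
  · exact h
  · exact (k (by rw [MathMdl.card_M23]; norm_num) e).elim
  · exact (k (by rw [Leech.card_McL]; norm_num) e).elim
  · exact (ly h).elim

theorem iso (hG : ¬ IsMulCommutative G) (hc : Nat.card G = 50232960) : Spor.IsoJ3 G := by
  obtain ⟨T⟩ : Nonempty (Sylow 2 G) := inferInstance
  have h4 := (hyp hG hc T).sr4
  exact iso_of_ty hG hc h4 (SR4.ty hG h4 fun K _ _ _ hK k4 _ => SR4.cls hK k4 (SR4.kn hK k4))

omit [IsSimpleGroup G] in
/-- `S2135`, transported along the isomorphism and the conjugation -/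
theorem cen_of_iso (h : Spor.IsoJ3 G) {z : G} (hz : orderOf z = 2) :
    ∃ (E : Subgroup ↥(centralizer ({z} : Set G))) (_ : E.Normal), IsExtraspecial 2 E ∧ Nat.card E = 32 ∧
      Nonempty ((↥(centralizer ({z} : Set G)) ⧸ E) ≃* ↥(alternatingGroup (Fin 5))) := by
  obtain ⟨F, _, _, ω, hF, hω, ⟨e⟩⟩ := h
  obtain ⟨h1, t, ht, Q, hQ, h2, h3, -, -, ⟨f⟩⟩ := Agent.S2135.result hF ω hω
  obtain ⟨c, hc⟩ := isConj_iff.1 (h1 (e z) t ((e.orderOf_eq z).trans hz) ht)
  let φ := ce (e.trans (MulAut.conj c)) (x := z) (y := t) hc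
  have : Finite Q := Nat.finite_of_card_ne_zero (by rw [h3]; norm_num)
  have hN : (Q.map φ.symm.toMonoidHom).Normal := hQ.map _ φ.symm.surjective
  exact ⟨Q.map φ.symm.toMonoidHom, hN, EssSm.isExtraspecial_congr (φ.symm.subgroupMap Q) h2,
    (card_map_of_injective φ.symm.injective).trans h3,
    ⟨(QuotientGroup.congr Q (Q.map φ.symm.toMonoidHom) φ.symm rfl).symm.trans f⟩⟩

omit [IsSimpleGroup G] in
/-- Let `z` be an involution of `Z(S)`, `C = C(z) ≥ S`, `E` as above, `K = C_C(E)`. -/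
theorem cyc_of_iso (h : Spor.IsoJ3 G) (S : Sylow 2 G) (nc : ¬ C2 (S : Subgroup G)) : IsCyclic (center (S : Subgroup G)) := by
  rcases subsingleton_or_nontrivial (center (S : Subgroup G)) with h0 | h0
  · infer_instance
  obtain ⟨k, hk0, hk⟩ := (S.isPGroup'.to_subgroup (center (S : Subgroup G))).nontrivial_iff_card.1 h0
  obtain ⟨z0, hz0⟩ := exists_prime_orderOf_dvd_card' (G := center (S : Subgroup G)) 2
    (hk ▸ dvd_pow_self 2 hk0.ne')
  let z : G := z0.1.1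
  have hz : orderOf z = 2 := by rw [orderOf_coe, orderOf_coe, hz0]
  obtain ⟨E, hE, hx, -, ⟨f⟩⟩ := cen_of_iso h hz
  have hS : (S : Subgroup G) ≤ centralizer {z} := fun s hs =>
    mem_centralizer_singleton_iff.2 (congrArg Subtype.val (mem_center_iff.1 z0.2 ⟨s, hs⟩))
  have pS : IsPGroup 2 ((S : Subgroup G).subgroupOf (centralizer {z})) := S.isPGroup'.comap_subtype
  have hES : E ≤ (S : Subgroup G).subgroupOf (centralizer {z}) := fun x h =>
    (S.is_maximal' ((hx.1.1.to_sup_of_normal_left pS).map (Subgroup.subtype _)) fun s hs =>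
      ⟨⟨s, hS hs⟩, mem_sup_right (by exact hs), rfl⟩).le ⟨x, mem_sup_left h, rfl⟩
  rcases core hx f pS hES with hK | hK
  · have : IsCyclic (center E) := isCyclic_of_prime_card hx.2
    have m1 : ∀ x : center (S : Subgroup G), (⟨x.1.1, hS x.1.2⟩ : centralizer {z}) ∈
        centralizer (E : Set (centralizer ({z} : Set G))) := fun x =>
      mem_centralizer_iff.2 fun g hg => Subtype.ext (by
        have := congrArg Subtype.val (mem_center_iff.1 x.2 ⟨g.1, hES hg⟩)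
        exact this)
    exact isCyclic_of_injective (MonoidHom.mk' (fun x => (⟨⟨_, hK (m1 x)⟩, mem_center_iff.2 fun g =>
      Subtype.ext (mem_centralizer_iff.1 (m1 x) g g.2)⟩ : center E)) fun _ _ => rfl)
      fun x y e => Subtype.ext (Subtype.ext (congrArg (fun w : center E => (w.1.1.1 : G)) e))
  · exact absurd (fun a ha b hb c hc => congrArg Subtype.val
      (hK ⟨a, hS ha⟩ ha ⟨b, hS hb⟩ hb ⟨c, hS hc⟩ hc)) nc

end CL.J3O
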