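import Cfsg.Agent.REC.J3O.Bas
import Cfsg.Agent.PLOC.AlperinGoldschmidt
import Cfsg.Agent.SYL.EssKey
import Cfsg.Agent.PLOC.Critical
import Cfsg.Agent.PLOC.PFrattini
import Cfsg.Agent.INV.InvCalc
import Cfsg.Agent.INV.SylowAux
import Cfsg.Agent.SOLV.CoprimeSylow
import Cfsg.Agent.REC.L7.U

/-! Alperin's fusion theorem in the form used here. -/

set_option autoImplicit false

namespace CL.J3O

open Subgroup Cfsg
open scoped commutatorElement

namespace Kx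

open CL.MSS CL.L7

variable {W : Type*} [Group W] {V S M H K : Subgroup W} {b b' c d g p q x : W}

theorem odd_lift [Finite W] {W' : Type*} [Group W'] (f : W →* W') (x : W) (h : Odd (orderOf (f x))) :
    ∃ y, Odd (orderOf y) ∧ f y = f x := by
  obtain ⟨k, m, hm, e⟩ := Nat.exists_eq_two_pow_mul_odd (orderOf_pos x).ne'
  have hc : (2 ^ k).Coprime (orderOf (f x)) := (Nat.coprime_two_left.2 h).pow_left k
  obtain ⟨n, hn⟩ := exists_pow_eq_self_of_coprime (x := f x) hc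
  refine ⟨(x ^ 2 ^ k) ^ n, hm.of_dvd_nat (orderOf_dvd_of_pow_eq_one ?_), by rw [map_pow, map_pow, hn]⟩
  rw [← pow_mul, mul_comm n, pow_mul, ← pow_mul x, ← e, pow_orderOf_eq_one, one_pow]

/-- `M` contains the elements which do not separate `S` from its conjugate modulo `V` -/
structure Iso (V S M : Subgroup W) : Prop where
  nm : V.Normal
  le : V ≤ S
  syl : SylIn 2 S ⊤
  iso : ∀ x, (∃ t ∈ S, t ∉ V ∧ x * t * x⁻¹ ∈ S) → x ∈ M

theorem Iso.SM (h : Iso V S M) (hb : b ∈ S) (bV : b ∉ V) : S ≤ M := fun s hs =>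
  h.iso s ⟨b, hb, bV, mul_mem (mul_mem hs hb) (inv_mem hs)⟩

theorem mem_img {W' : Type*} [Group W'] {f : W →* W'} (hk : f.ker ≤ H) : f x ∈ H.map f ↔ x ∈ H := by
  rw [← mem_comap, comap_map_eq, sup_of_le_left hk]

theorem Iso.map [Finite W] {W' : Type*} [Group W'] (h : Iso V S M) {f : W →* W'}
    (hf : Function.Surjective f) (hk : f.ker ≤ V) : Iso (V.map f) (S.map f) (M.map f) where
  nm := h.nm.map f hf
  le := map_mono h.le
  syl := by have := h.syl.map f; rwa [map_top_of_surjective f hf] at this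
  iso y := by
    obtain ⟨y, rfl⟩ := hf y
    rintro ⟨_, ⟨t, ht, rfl⟩, t1, t2⟩
    rw [L7.map_conj, mem_img (hk.trans h.le)] at t2
    exact mem_map_of_mem f (h.iso y ⟨t, ht, fun k => t1 (mem_map_of_mem f k), t2⟩)

theorem pair0 [Finite W] (h : Iso ⊥ S M) (hb : b ∈ S) (b1 : b ≠ 1) (bb : b * b = 1) (hb' : b' ∈ S) (b1' : b' ≠ 1)
    (bb' : b' * b' = 1) (gM : g ∉ M) : ∃ x, Odd (orderOf x) ∧ b * x * b⁻¹ * x = 1 ∧ x ∉ M ∧ x * b * x⁻¹ = g * b' * g⁻¹ := by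
  have iso : ∀ x t, t ∈ S → t ≠ 1 → x * t * x⁻¹ ∈ S → x ∈ M := fun x t a1 a2 a3 => h.iso x ⟨t, a1, a2, a3⟩
  set d := g * b' * g⁻¹ with hd
  have dd : d * d = 1 := by rw [hd, conj_mul, bb']; group
  have bi := inv_eq_of_mul_eq_one_right bb
  have di := inv_eq_of_mul_eq_one_right dd
  have inv : b * (d * b) * b⁻¹ = (d * b)⁻¹ := by rw [mul_inv_rev, di, bi, mul_assoc, mul_assoc, bb, mul_one]
  rcases Nat.even_or_odd' (orderOf (d * b)) with ⟨m, hm | hm⟩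
  · exfalso
    obtain ⟨w2, c1, c2⟩ := CL.Inv.central_involution_of_even dd bb hm (fun k => (orderOf_pos (d * b)).ne' (by rw [hm, k]))
    set w := (d * b) ^ m
    obtain ⟨u, u1, u2⟩ := SylowAux.exists_conj_mem_sylow_two_of_commute h.syl.toSylowTop bb (sq_of_order w2) c2
    obtain ⟨u', u1', u2'⟩ := SylowAux.exists_conj_mem_sylow_two_of_commute h.syl.toSylowTop dd (sq_of_order w2) c1
    have k1 := iso u b hb b1 u1
    have k2 := iso (u' * u⁻¹) _ u2 (by simpa using ne_of_order (n := 0) w2) (by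
      rw [show u' * u⁻¹ * (u * w * u⁻¹) * (u' * u⁻¹)⁻¹ = u' * w * u'⁻¹ by group]; exact u2')
    have k3 := iso (u' * g) b' hb' b1' (by
      rw [show u' * g * b' * (u' * g)⁻¹ = u' * (g * b' * g⁻¹) * u'⁻¹ by group]; exact u1')
    exact gM (by simpa using mul_mem (inv_mem (mul_mem k2 k1)) k3)
  · have e1 : ∀ n : ℕ, b * (d * b) ^ n * b⁻¹ = ((d * b) ^ n)⁻¹ := fun n => by rw [← conj_pow, inv, inv_pow]
    have e2 : (d * b) ^ (m + 1) * b * ((d * b) ^ (m + 1))⁻¹ = d := by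
      calc _ = (d * b) ^ (m + 1) * b * (b * (d * b) ^ (m + 1) * b⁻¹) := by rw [e1]
        _ = (d * b) ^ (m + 1) * (b * b) * (d * b) ^ (m + 1) * b⁻¹ := by group
        _ = (d * b) ^ (2 * m + 1) * (d * b) * b⁻¹ := by
          rw [bb, mul_one, ← pow_add, ← pow_succ]; congr 2; omega
        _ = d := by rw [← hm, pow_orderOf_eq_one]; group
    refine ⟨(d * b) ^ (m + 1), (show Odd (orderOf (d * b)) from ⟨m, hm⟩).of_dvd_nat (orderOf_pow_dvd _),
      by rw [e1, inv_mul_cancel], fun k => gM ?_, e2⟩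
    have := iso (((d * b) ^ (m + 1))⁻¹ * g) b' hb' b1' (by
      rw [show ((d * b) ^ (m + 1))⁻¹ * g * b' * (((d * b) ^ (m + 1))⁻¹ * g)⁻¹ =
        ((d * b) ^ (m + 1))⁻¹ * (g * b' * g⁻¹) * (d * b) ^ (m + 1) by group, ← hd]
      nth_rewrite 2 [← e2]
      simpa [mul_assoc] using hb)
    simpa using mul_mem k this

theorem Iso.pair [Finite W] (h : Iso V S M) (hb : b ∈ S) (b1 : b ∉ V) (bb : b * b ∈ V) (hb' : b' ∈ S) (b1' : b' ∉ V)
    (bb' : b' * b' ∈ V) (gM : g ∉ M) :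
    ∃ x, Odd (orderOf x) ∧ b * x * b⁻¹ * x ∈ V ∧ x ∉ M ∧ (x * b * x⁻¹)⁻¹ * (g * b' * g⁻¹) ∈ V := by
  have := h.nm
  set f := QuotientGroup.mk' V
  have kf : f.ker = V := QuotientGroup.ker_mk' V
  have f1 : ∀ y, f y = 1 ↔ y ∈ V := fun y => by rw [← MonoidHom.mem_ker, kf]
  have h2 := h.map (QuotientGroup.mk'_surjective V) kf.le
  rw [(map_eq_bot_iff V).2 kf.ge] at h2
  have kM : f.ker ≤ M := kf.le.trans (h.le.trans (h.SM hb b1))
  obtain ⟨y, y1, y2, y3, y4⟩ := pair0 (g := f g) h2 (mem_map_of_mem f hb) (mt (f1 _).1 b1) (by rw [← map_mul, f1]; exact bb)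
    (mem_map_of_mem f hb') (mt (f1 _).1 b1') (by rw [← map_mul, f1]; exact bb') (mt (mem_img kM).1 gM)
  obtain ⟨y, rfl⟩ := QuotientGroup.mk'_surjective V y
  obtain ⟨x, x1, x2⟩ := odd_lift f y y1
  change f y ∉ _ at y3
  refine ⟨x, x1, (f1 _).1 ?_, fun k => y3 (x2 ▸ mem_map_of_mem f k), (f1 _).1 ?_⟩
  · simp only [map_mul, map_inv, x2]; exact y2
  · simp only [map_mul, map_inv, x2]; rw [inv_mul_eq_one]; exact y4

/-- transvections of the elementary normal subgroup `V` -/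
structure Tq (V H : Subgroup W) (b p : W) : Prop where
  le : H ≤ V
  pV : p ∈ V
  mul : ∀ u ∈ V, ∀ v ∈ V, u ∉ H → v ∉ H → u * v ∈ H
  ax : ∀ u ∈ H, b * u * b⁻¹ = u
  ct : ∀ u ∈ V, u ∉ H → b * u * b⁻¹ = u * p

theorem triv (he : El V) {v u : W} (hv : v ∈ V) (hu : u ∈ V) : v * u * v⁻¹ = u := by
  rw [he.comm hv hu, mul_inv_cancel_right]

theorem act_eq (_hn : V.Normal) (he : El V) (h : b⁻¹ * d ∈ V) {u : W} (hu : u ∈ V) : d * u * d⁻¹ = b * u * b⁻¹ := by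
  calc _ = b * (b⁻¹ * d * u * (b⁻¹ * d)⁻¹) * b⁻¹ := by group
    _ = _ := by rw [triv he h hu]

theorem act_eq' (hn : V.Normal) (he : El V) (h : d * b⁻¹ ∈ V) {u : W} (hu : u ∈ V) : d * u * d⁻¹ = b * u * b⁻¹ :=
  act_eq hn he (by simpa [mul_assoc] using hn.conj_mem _ h b⁻¹) hu

theorem Tq.congr (h : Tq V H b p) (hn : V.Normal) (he : El V) (e : b⁻¹ * d ∈ V) : Tq V H d p :=
  ⟨h.le, h.pV, h.mul, fun u hu => (act_eq hn he e (h.le hu)).trans (h.ax u hu),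
    fun u hu k => (act_eq hn he e hu).trans (h.ct u hu k)⟩

theorem Tq.cj (h : Tq V H b p) (hn : V.Normal) (g : W) : Tq V (g •ᶜ H) (g * b * g⁻¹) (g * p * g⁻¹) where
  le := by rintro _ ⟨u, hu, rfl⟩; exact hn.conj_mem _ (h.le hu) g
  pV := hn.conj_mem _ h.pV g
  mul u hu v hv a1 a2 := by
    rw [mem_cj] at a1 a2 ⊢
    have := h.mul _ (hn.conj_mem' _ hu g) _ (hn.conj_mem' _ hv g) a1 a2
    rwa [show g⁻¹ * u * g * (g⁻¹ * v * g) = g⁻¹ * (u * v) * g by group] at this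
  ax u hu := by
    rw [mem_cj] at hu
    calc _ = g * (b * (g⁻¹ * u * g) * b⁻¹) * g⁻¹ := by group
      _ = _ := by rw [h.ax _ hu]; group
  ct u hu k := by
    rw [mem_cj] at k
    calc _ = g * (b * (g⁻¹ * u * g) * b⁻¹) * g⁻¹ := by group
      _ = _ := by rw [h.ct _ (hn.conj_mem' _ hu g) k]; group

theorem Tq.cases (h : Tq V H b p) {u : W} (hu : u ∈ V) : b * u * b⁻¹ = u ∨ b * u * b⁻¹ = u * p := by
  by_cases k : u ∈ H
  exacts [.inl (h.ax u k), .inr (h.ct u hu k)]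

theorem Tq.pH (h : Tq V H b p) (_hn : V.Normal) (he : El V) (bb : b * b ∈ V) {u : W} (hu : u ∈ V) (k : u ∉ H) : p ∈ H := by
  by_contra hp
  have e := triv he bb hu
  rw [show b * b * u * (b * b)⁻¹ = b * (b * u * b⁻¹) * b⁻¹ by group, h.ct u hu k, ← conj_mul, h.ct u hu k, h.ct p h.pV hp,
    he p h.pV, mul_one, mul_eq_left] at e
  exact hp (e ▸ one_mem H)

theorem fix_odd {y v : W} (ho : Odd (orderOf y)) (h : y * (v⁻¹ * (y * v * y⁻¹)) * y⁻¹ = v⁻¹ * (y * v * y⁻¹))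
    (h2 : (v⁻¹ * (y * v * y⁻¹)) * (v⁻¹ * (y * v * y⁻¹)) = 1) : y * v * y⁻¹ = v :=
  PG.aut_apply_eq_of_fix (p := 2) (MulAut.conj y) (Nat.coprime_two_right.2 (ho.of_dvd_nat (orderOf_map_dvd MulAut.conj y)))
    (k := 1) h (by rw [pow_one, sq]; exact h2)

theorem opp [Finite W] (hn : V.Normal) (he : El V) (hb : Tq V H b p) (hd : Tq V K d q) (bb : b * b ∈ V) (ho : Odd (orderOf x))
    (inv : b * x * b⁻¹ * x ∈ V) (e : (x * b * x⁻¹)⁻¹ * d ∈ V) (nc : ¬ ∀ v ∈ V, x * v * x⁻¹ = v) : q ∉ H ∧ p ∉ K := by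
  set y := x * x with hy
  have yo : Odd (orderOf y) := ho.of_dvd_nat (by rw [hy, ← sq]; exact orderOf_pow_dvd 2)
  have act : ∀ v ∈ V, y * v * y⁻¹ = d * (b * v * b⁻¹) * d⁻¹ := fun v hv => by
    rw [act_eq hn he e (hn.conj_mem _ hv b)]
    have k : (x * b * x⁻¹ * b)⁻¹ * y ∈ V := by
      rw [hy, show (x * b * x⁻¹ * b)⁻¹ * (x * x) = b⁻¹ * x * b⁻¹ * x by group, show b⁻¹ * x * b⁻¹ * x =
        (b * b)⁻¹ * (b * x * b⁻¹ * x) by group]
      exact mul_mem (inv_mem bb) inv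
    rw [act_eq hn he k hv]; group
  have fin : ¬ ∀ v ∈ V, y * v * y⁻¹ = v := fun k => nc fun v hv => by
    have : x ∈ centralizer {v} := mem_of_sq_mem ho (mem_cz.2 (comm_iff_conj.2 (k v hv)).symm)
    exact comm_iff_conj.1 (mem_cz.1 this).symm
  have dd : d * d ∈ V := by
    have := mul_mem (mul_mem (hn.conj_mem _ bb x) (hn.conj_mem' _ e (x * b * x⁻¹))) e
    rwa [show x * (b * b) * x⁻¹ * ((x * b * x⁻¹)⁻¹ * ((x * b * x⁻¹)⁻¹ * d) * (x * b * x⁻¹)) * ((x * b * x⁻¹)⁻¹ * d) = d * d by group] at this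
  have pH : p ∈ H := by
    by_contra k
    exact k (hb.pH hn he bb hb.pV k)
  have qK : q ∈ K := by
    by_contra k
    exact k (hd.pH hn he dd hd.pV k)
  have all : y * p * y⁻¹ = p → y * q * y⁻¹ = q → False := fun yp yq => fin fun v hv => by
    have sq : (v⁻¹ * (y * v * y⁻¹)) * (v⁻¹ * (y * v * y⁻¹)) = 1 := he _ (mul_mem (inv_mem hv) (hn.conj_mem _ hv y))
    refine fix_odd yo ?_ sq
    rw [act v hv]
    rcases hb.cases hv with k | k <;> rw [k]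
    · rcases hd.cases hv with k' | k' <;> rw [k']
      · simp
      · simpa using yq
    · rcases hd.cases (mul_mem hv hb.pV) with k' | k' <;> rw [k']
      · simpa using yp
      · rw [show v⁻¹ * (v * p * q) = p * q by group, ← conj_mul, yp, yq]
  refine ⟨fun qH => ?_, fun pK => ?_⟩
  · have yq : y * q * y⁻¹ = q := by rw [act q hd.pV, hb.ax q qH, hd.ax q qK]
    refine all (fix_odd yo ?_ (he _ (mul_mem (inv_mem hb.pV) (hn.conj_mem _ hb.pV y)))) yq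
    rw [act p hb.pV, hb.ax p pH]
    rcases hd.cases hb.pV with k' | k' <;> rw [k']
    · simp
    · simpa using yq
  · have yp : y * p * y⁻¹ = p := by rw [act p hb.pV, hb.ax p pH, hd.ax p pK]
    refine all yp (fix_odd yo ?_ (he _ (mul_mem (inv_mem hd.pV) (hn.conj_mem _ hd.pV y))))
    rw [act q hd.pV]
    rcases hb.cases hd.pV with k' | k' <;> rw [k']
    · rw [hd.ax q qK]; simp
    · rw [hd.ax _ (mul_mem qK pK)]; simpa using yp

theorem Tq.fixp (h : Tq V H b p) (hn : V.Normal) (he : El V) {u : W} (hu : u ∈ V) (k : u ∉ H) (p1 : p ≠ 1)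
    (e : c * b * c⁻¹ * b⁻¹ ∈ V) : c * p * c⁻¹ = p := by
  have e1 : c * p * c⁻¹ = (c * u * c⁻¹)⁻¹ * (b * (c * u * c⁻¹) * b⁻¹) := by
    rw [← act_eq' hn he e (hn.conj_mem _ hu c), show p = u⁻¹ * (b * u * b⁻¹) by rw [h.ct u hu k]; group]; group
  rcases h.cases (hn.conj_mem _ hu c) with k' | k' <;> rw [k'] at e1
  · exact absurd (conj_eq_one_iff.1 (e1.trans (inv_mul_cancel _))) p1
  · rw [e1]; group

/-- the configuration modulo `Fr E` -/
structure Ew (V S M : Subgroup W) : Prop extends Iso V S M where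
  el : El V
  cen : ∀ x, Odd (orderOf x) → (∀ v ∈ V, x * v * x⁻¹ = v) → x ∈ M

namespace Ew

variable [Finite W] (h : Ew V S M)
include h

theorem nt (hb : b ∈ S) (b1 : b ∉ V) (bb : b * b ∈ V) (gM : g ∉ M) : ¬ ∀ v ∈ V, b * v * b⁻¹ = v := fun k => by
  obtain ⟨x, x1, x2, x3, -⟩ := h.pair hb b1 bb hb b1 bb gM
  refine x3 (h.cen x x1 fun v hv => ?_)
  have : x ∈ centralizer {v} := mem_of_sq_mem x1 (mem_cz.2 (comm_iff_conj.2 (by
    have e := triv h.el x2 hv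
    rw [show b * x * b⁻¹ * x * v * (b * x * b⁻¹ * x)⁻¹ = b * (x * (b⁻¹ * (x * v * x⁻¹) * b) * x⁻¹) * b⁻¹ by group] at e
    have k' : ∀ v ∈ V, b⁻¹ * v * b = v := fun v hv => by nth_rewrite 1 [← k v hv]; group
    rw [k' _ (h.nm.conj_mem _ hv x), k _ (h.nm.conj_mem _ (h.nm.conj_mem _ hv x) x)] at e
    rw [show x * x * v * (x * x)⁻¹ = x * (x * v * x⁻¹) * x⁻¹ by group, e])).symm)
  exact comm_iff_conj.1 (mem_cz.1 this).symm

theorem opp (hb : b ∈ S) (b1 : b ∉ V) (bb : b * b ∈ V) (hb' : b' ∈ S) (b1' : b' ∉ V) (bb' : b' * b' ∈ V) (gM : g ∉ M)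
    (t : Tq V H b p) (t' : Tq V K (g * b' * g⁻¹) q) : q ∉ H ∧ p ∉ K := by
  obtain ⟨x, x1, x2, x3, x4⟩ := h.pair hb b1 bb hb' b1' bb' gM
  exact Kx.opp h.nm h.el t t' bb x1 x2 x4 fun k => x3 (h.cen x x1 k)

theorem exT (hb : b ∈ S) (b1 : b ∉ V) (bb : b * b ∈ V) (hb' : b' ∈ S) (b1' : b' ∉ V) (bb' : b' * b' ∈ V) (gM : g ∉ M)
    (t' : Tq V K (g * b' * g⁻¹) q) : ∃ H p, Tq V H b p ∧ q ∉ H ∧ p ∉ K := by
  obtain ⟨x, -, -, -, x4⟩ := h.pair hb b1 bb hb' b1' bb' gM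
  have t := (t'.cj h.nm x⁻¹).congr (d := b) h.nm h.el (by
    have := h.nm.conj_mem' _ (inv_mem x4) x
    convert this using 1; group)
  exact ⟨_, _, t, h.opp hb b1 bb hb' b1' bb' gM t t'⟩

theorem tv (hb : b ∈ S) (b1 : b ∉ V) (bb : b * b ∈ V) (gM : g ∉ M) (le : H ≤ V)
    (mul : ∀ u ∈ V, ∀ v ∈ V, u ∉ H → v ∉ H → u * v ∈ H) (ax : ∀ u ∈ H, b * u * b⁻¹ = u) (hc : c ∈ S) : c ∈ V ∨ c * b⁻¹ ∈ V := by
  have hn := h.nm
  obtain ⟨u, hu, nu⟩ : ∃ u ∈ V, b * u * b⁻¹ ≠ u := by simpa using h.nt hb b1 bb gM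
  have uH : u ∉ H := fun k => nu (ax u k)
  obtain ⟨p, t⟩ : ∃ p, Tq V H b p := ⟨u⁻¹ * (b * u * b⁻¹), le, mul_mem (inv_mem hu) (hn.conj_mem _ hu b), mul, ax, fun v hv k => by
    have e := ax _ (mul v hv u hu k uH)
    rw [← conj_mul, ← eq_mul_inv_iff_mul_eq, inv_eq_of_mul_eq_one_right (h.el _ (hn.conj_mem _ hu b))] at e
    rw [e, inv_eq_of_mul_eq_one_right (h.el _ hu), mul_assoc]⟩
  let B : Subgroup W :=
    { carrier := {y | y ∈ V ∨ y * b⁻¹ ∈ V}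
      one_mem' := .inl (one_mem _)
      mul_mem' := fun {y z} a1 a2 => by
        rcases a1 with a1 | a1 <;> rcases a2 with a2 | a2
        · exact .inl (mul_mem a1 a2)
        · exact .inr (by rw [mul_assoc]; exact mul_mem a1 a2)
        · exact .inr (by convert mul_mem a1 (hn.conj_mem _ a2 b) using 1; group)
        · exact .inl (by convert mul_mem (mul_mem a1 (hn.conj_mem _ a2 b)) bb using 1; group)
      inv_mem' := fun {y} a => by
        rcases a with a | a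
        · exact .inl (inv_mem a)
        · exact .inr (by convert mul_mem (hn.conj_mem' _ (inv_mem a) b) (inv_mem bb) using 1; group) }
  have BS : B ≤ S := fun y a => by
    rcases a with a | a
    · exact h.le a
    · simpa using mul_mem (h.le a) hb
  by_contra hcB
  obtain ⟨c, cS, cn, cB, cc⟩ := exists_iv h.syl.pgroup (lt_of_le_of_ne BS fun k => hcB (show c ∈ B from k ▸ hc))
  have cV : c ∉ V := fun k => cB (.inl k)
  have cb : c * b * c⁻¹ * b⁻¹ ∈ V := (nconj cn (show b ∈ B from .inr (by simp))).resolve_left fun k =>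
    b1 (by simpa [mul_assoc] using hn.conj_mem' _ k c)
  have td := t.cj hn g
  set q := g * p * g⁻¹ with hq
  rcases cc with cc | cc
  · have bc : b * c * (b * c) ∈ V := by
      convert mul_mem (mul_mem (hn.conj_mem _ cb b) bb) cc using 1; group
    have bcV : b * c ∉ V := fun k => cB (.inr (by convert mul_mem (hn.conj_mem' _ k b) (inv_mem bb) using 1; group))
    obtain ⟨H1, p1, t1, q1, k1⟩ := h.exT hb b1 bb hb b1 bb gM td
    obtain ⟨H2, p2, t2, q2, k2⟩ := h.exT cS cV cc hb b1 bb gM td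
    obtain ⟨H3, p3, t3, q3, k3⟩ := h.exT (mul_mem hb cS) bcV bc hb b1 bb gM td
    have f2 : b * p2 * b⁻¹ = p2 := t2.fixp hn h.el td.pV q2 (fun k => k2 (k ▸ one_mem _)) (by
      convert inv_mem cb using 1; group)
    have e := t3.ct q td.pV q3
    rw [show b * c * q * (b * c)⁻¹ = b * (c * q * c⁻¹) * b⁻¹ by group, t2.ct q td.pV q2, ← conj_mul, t1.ct q td.pV q1, f2,
      mul_assoc, mul_right_inj] at e
    exact k3 (e ▸ td.mul _ t1.pV _ t2.pV k1 k2)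
  · obtain ⟨q1, k1⟩ := h.opp hb b1 bb hb b1 bb gM t td
    have f1 : c * p * c⁻¹ = p := t.fixp hn h.el hu uH (fun k => k1 (k ▸ one_mem _)) cb
    have gM' : g⁻¹ * c * g ∉ M := fun k => by
      obtain ⟨n, e⟩ := h.syl.pgroup ⟨c, cS⟩
      have e' : (g⁻¹ * c * g⁻¹⁻¹) ^ 2 ^ n = 1 := by
        rw [conj_pow, show c ^ 2 ^ n = 1 from congrArg Subtype.val e]; group
      rw [inv_inv] at e'
      obtain ⟨m, hm, k'⟩ := (h.syl.of_le (h.SM hb b1) le_top).exists_conj_le (SylowAux.isPGroup_zpowers_of_pow e')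
        (zpowers_le.2 k)
      have := h.iso (m * g⁻¹) ⟨c, cS, cV, by
        convert k' (conj_mem_cj (mem_zpowers _)) using 1; group⟩
      exact gM (by simpa using mul_mem (inv_mem this) hm)
    obtain ⟨q2, k2⟩ := h.opp hb b1 bb hb b1 bb gM' t (t.cj hn _)
    have a1 : c * q * c⁻¹ ∉ g •ᶜ H := fun k => q2 (by rw [mem_cj, hq] at k; convert k using 1; group)
    refine k2 (mem_cj.2 ?_)
    have a2 := td.mul _ (hn.conj_mem _ td.pV c) _ t.pV a1 k1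
    have a3 : c * q * c⁻¹ * p = c⁻¹ * q * c := by
      rw [← f1, conj_mul, ← t.ct q td.pV q1, ← act_eq' hn h.el cc td.pV]
      have c4 : c * c * (c * c) ∈ V := (show c * c * (c * c) ∈ V by
        convert mul_mem (mul_mem cc (hn.conj_mem _ cc b)) bb using 1; group)
      calc _ = c⁻¹ * (c * c * (c * c) * q * (c * c * (c * c))⁻¹) * c := by group
        _ = _ := by rw [triv h.el c4 td.pV]
    rw [a3, mem_cj, hq] at a2
    convert a2 using 1; group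

end Ew

end Kx

variable {G : Type*} [Group G] [Finite G] {T : Sylow 2 G} {R E M : Subgroup G} {b d g : G}

/-- the subgroup `M` of an essential subgroup -/
structure Ess (T : Sylow 2 G) (E M : Subgroup G) : Prop where
  lt : E < T
  syl : ¬ 2 ∣ ((T : Subgroup G) ⊓ Nz E).relIndex (Nz E)
  cM : centralizer (E : Set G) ≤ M
  iso : ∀ x ∈ Nz E, (∃ t ∈ (T : Subgroup G), t ∉ E ∧ x * t * x⁻¹ ∈ (T : Subgroup G)) → x ∈ M
  ne : ¬ Nz E ≤ M

/-- `b` acts on `V = E / Fr E` as the transvection `v ↦ v + φ(v) p` with axis `H` -/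
structure Tv (E H : Subgroup G) (b p : G) : Prop where
  le : H ≤ E
  fr : Fr E ≤ H
  pE : p ∈ E
  mul : ∀ u ∈ E, ∀ v ∈ E, u ∉ H → v ∉ H → u * v ∈ H
  ax : ∀ u ∈ H, ⁅u, b⁆ ∈ Fr E
  ct : ∀ u ∈ E, u ∉ H → p⁻¹ * ⁅u, b⁆ ∈ Fr E

namespace Kx

open CL.MSS CL.L7

omit [Finite G] in
instance (E : Subgroup G) : ((Fr E).subgroupOf (Nz E)).Normal := normal_subgroupOf_of_le_normalizer Nz_le_Fr

/-- `N(E) → N(E) / Fr E` -/
def pi (E : Subgroup G) : Nz E →* Nz E ⧸ (Fr E).subgroupOf (Nz E) := QuotientGroup.mk' _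
/-- images -/
def bar (E Y : Subgroup G) : Subgroup (Nz E ⧸ (Fr E).subgroupOf (Nz E)) := (Y.subgroupOf (Nz E)).map (pi E)

section
omit [Finite G]

theorem pi_surj : Function.Surjective (pi E) := QuotientGroup.mk'_surjective _
theorem pi_ker : (pi E).ker = (Fr E).subgroupOf (Nz E) := QuotientGroup.ker_mk' _
theorem pi_one {x : Nz E} : pi E x = 1 ↔ (x : G) ∈ Fr E := by rw [← MonoidHom.mem_ker, pi_ker, mem_subgroupOf]
theorem mem_bar {Y : Subgroup G} (h : Fr E ≤ Y) {x : Nz E} : pi E x ∈ bar E Y ↔ (x : G) ∈ Y :=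
  mem_img (by rw [pi_ker]; exact fun _ k => h k)
theorem el_bar : El (bar E E) := by
  rintro _ ⟨x, hx, rfl⟩
  rw [← map_mul, pi_one]; exact sq_mem_Fr hx
theorem nm_bar : (bar E E).Normal := (normal_in_normalizer (H := E)).map _ pi_surj
theorem fix_iff {x u : Nz E} : pi E x * pi E u * (pi E x)⁻¹ = pi E u ↔ ⁅(u : G), (x : G)⁆ ∈ Fr E := by
  rw [← comm_iff_conj, Commute.symm_iff, ← com_one, ← map_commutatorElement, pi_one]; rfl

theorem tq {H : Subgroup G} {p : G} (h : Tv E H b p) (bn : b ∈ Nz E) :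
    Tq (bar E E) (bar E H) (pi E ⟨b, bn⟩) (pi E ⟨p, le_normalizer h.pE⟩) where
  le := map_mono fun _ k => h.le k
  pV := (mem_bar Fr_le).2 h.pE
  mul := by
    rintro _ ⟨u, hu, rfl⟩ _ ⟨v, hv, rfl⟩ a1 a2
    rw [← map_mul]
    rw [mem_bar h.fr] at a1 a2 ⊢
    exact h.mul _ hu _ hv a1 a2
  ax := by
    rintro _ ⟨u, hu, rfl⟩
    exact fix_iff.2 (h.ax _ hu)
  ct := by
    rintro _ ⟨u, hu, rfl⟩ a
    rw [mem_bar h.fr] at a
    have e := (pi_one (x := (⟨p, le_normalizer h.pE⟩ : Nz E)⁻¹ * ⁅u, ⟨b, bn⟩⁆)).2 (h.ct _ hu a)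
    rw [map_mul, map_inv, inv_mul_eq_one, map_commutatorElement, commutatorElement_def,
      inv_eq_of_mul_eq_one_right (el_bar _ ((mem_bar Fr_le).2 hu))] at e
    rw [e, ← mul_assoc, ← mul_assoc, ← mul_assoc, el_bar _ ((mem_bar Fr_le).2 hu), one_mul]

end

omit [Finite G] in
theorem iso (h : Ess T E M) : Iso (E.subgroupOf (Nz E)) ((T : Subgroup G).subgroupOf (Nz E)) (M.subgroupOf (Nz E)) where
  nm := normal_in_normalizer
  le := fun _ k => h.lt.le k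
  syl := sylIn_of_not_dvd_relIndex (isPGroup_subgroupOf T.isPGroup' _) le_top (by
    rw [relIndex_top_right, ← inf_subgroupOf_right]; exact h.syl)
  iso x := fun ⟨t, t1, t2, t3⟩ => h.iso x x.2 ⟨t, t1, t2, t3⟩

end Kx

/-- As in `CL.Ord6.scl'` (FGS/Ord6H): `Tr.alperin_induction_subgroup` with the property
`fun A g => ∀ a ∈ A, g * a * g⁻¹ ∈ R ↔ a ∈ R`. -/
theorem exists_ess (hR : R ≤ T) (hN : Nz (T : Subgroup G) ≤ Nz R) (h : ¬ IsStronglyClosed R (T : Subgroup G)) :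
    ∃ E M, Ess T E M ∧ Nz E ⊓ Nz (E ⊓ R) ≤ M := by
  by_contra hn
  push Not at hn
  refine h ⟨hR, fun y hy g hg => ?_⟩
  have ni : ∀ {Y : Subgroup G} {x a : G}, x ∈ Nz Y → (x * a * x⁻¹ ∈ Y ↔ a ∈ Y) := fun hx => (mem_normalizer_iff.1 hx _).symm
  have key := Tr.alperin_induction_subgroup T (fun A g => ∀ a ∈ A, g * a * g⁻¹ ∈ R ↔ a ∈ R)
    (fun _ _ a _ => by simp)
    (fun A B g hAB h a ha => h a (hAB ha))
    (fun A g k h1 h2 a ha => by
      rw [← h1 a ha, ← h2 (g * a * g⁻¹) ⟨a, ha, rfl⟩, show k * g * a * (k * g)⁻¹ =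
        k * (g * a * g⁻¹) * k⁻¹ by group])
    (fun A g h => by
      rintro _ ⟨a, ha, rfl⟩
      change g⁻¹ * (g * a * g⁻¹) * g⁻¹⁻¹ ∈ R ↔ g * a * g⁻¹ ∈ R
      rw [h a ha, show g⁻¹ * (g * a * g⁻¹) * g⁻¹⁻¹ = a by group])
    (fun E hE hEN M hM1 hM2 x hx => by
      rcases hE.eq_or_lt with rfl | hlt
      · exact hM1 x hx fun a _ => ni (hN hx)
      by_contra hxM
      refine hn E M ⟨hlt, hEN, fun c hc => hM1 c (centralizer_le_normalizer _ hc)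
        fun a ha => by rw [← hc a ha]; simp, hM2, fun e => hxM (e hx)⟩ fun u hu => hM1 u hu.1 fun a ha => ?_
      have e1 := ni (a := a) hu.2
      simpa only [mem_inf, ni hu.1, ha, true_and] using e1)
    ((T : Subgroup G) ⊓ (T : Subgroup G).comap (MulAut.conj g).toMonoidHom) g inf_le_left
    (fun a ha => ha.2)
  exact (key y ⟨hR hy, hg⟩).2 hy

/-- Work in `N(E) / E` (or use `Tr.Essential.exists_isolated`).  `b`, `b'` are involutions of `N_T(E) / E`, `g ∈ N(E) \ M`,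
`d = g b' g⁻¹`.  If `b d` had even order modulo `E` (or `b ≡ d`: then `g ∈ M` by `iso`), an involution `w` of the dihedral group commutes with
`b` and `d` modulo `E`.  Conjugate the 2-group `⟨E, b, w⟩` into `N_T(E)` by `h ∈ N(E)`: `h ∈ M` by `iso` (with `t = b`), and `N_T(E) ≤ M`.  Conjugate
`⟨E, w, d⟩` into `N_T(E)` by `h'`: `h' h⁻¹ ∈ M` (`t = h w h⁻¹`), `h' g ∈ M` (`t = b'`), so `g ∈ M`.  So `b d` has odd order modulo `E`,
`d ≡ y b y⁻¹` for a power `y` of `b d`; let `x` be the odd part of `y` (`x ≡ y` modulo `E`).  If `x ∈ M`, then `x⁻¹ g` conjugates `b'` into `T`, so `g ∈ M`. -/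
theorem Ess.pair (h : Ess T E M) {b' : G} (hb : Iv T E b) (hb' : Iv T E b') (hg : g ∈ Nz E) (gM : g ∉ M) :
    ∃ x ∈ Nz E, Odd (orderOf x) ∧ b * x * b⁻¹ * x ∈ E ∧ x ∉ M ∧ (x * b * x⁻¹)⁻¹ * (g * b' * g⁻¹) ∈ E := by
  obtain ⟨x, x1, x2, x3, x4⟩ := (Kx.iso h).pair (b := ⟨b, hb.nz⟩) (b' := ⟨b', hb'.nz⟩) (g := ⟨g, hg⟩) hb.mem hb.nm hb.sq
    hb'.mem hb'.nm hb'.sq gM
  exact ⟨x, x.2, by rwa [Subgroup.orderOf_coe], x2, x3, x4⟩

/-- `Tr.Essential.centric_radical` -/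
theorem Ess.cen (h : Ess T E M) : ∀ t ∈ (T : Subgroup G), (∀ e ∈ E, t * e = e * t) → t ∈ E := fun _ ht c =>
  (Tr.Essential.centric_radical (P := T) ⟨h.lt, h.syl, M, h.cM, h.iso, h.ne⟩).1 ⟨ht, fun e he => (c e he).symm⟩

/-- An element of odd order acting trivially on `E / Fr E` centralizes the 2-group `E` (Burnside; `Fr E` is the image of `frattini`, or use
`CL.Syl.Chain`, `PG.aut_apply_eq_of_fix`). -/
theorem cen_of_odd {x : G} (hE : IsPGroup 2 E) (hx : x ∈ Nz E) (ho : Odd (orderOf x)) (h : ∀ e ∈ E, ⁅e, x⁆ ∈ Fr E) :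
    x ∈ centralizer (E : Set G) := by
  have F : Fr E ≤ (frattini E).map E.subtype := Fr_le_iff.2 fun e he => by
    rw [← sq]; exact PG.pow_mem_frattini_map hE he
  have nF : x ∈ Nz (Fr E) := Nz_le_Fr hx
  exact le_centralizer_iff.1 (coprime_le_centralizer_of_commutator_le_frattini _ E (zpowers_le.2 hx)
    (by
      obtain ⟨k, hk⟩ := IsPGroup.iff_card.1 (hE.to_subgroup (frattini E))
      rw [Nat.card_zpowers, hk]
      exact (Nat.coprime_two_right.2 ho).pow_right k) ((L7.comm_zp_le nF h).trans F)) (mem_zpowers x)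

theorem Kx.ew (h : Ess T E M) : Kx.Ew (Kx.bar E E) (Kx.bar E T) (Kx.bar E M) where
  toIso := (Kx.iso h).map Kx.pi_surj (by rw [Kx.pi_ker]; exact fun _ k => Fr_le (E := E) k)
  el := Kx.el_bar
  cen y ho k := by
    obtain ⟨y, rfl⟩ := Kx.pi_surj y
    obtain ⟨x, x1, x2⟩ := Kx.odd_lift _ y ho
    rw [← x2] at k ⊢
    exact mem_map_of_mem _ (h.cM (cen_of_odd (T.isPGroup'.to_le h.lt.le) x.2 ((Subgroup.orderOf_coe x).symm ▸ x1 : Odd (orderOf (x : G))) fun e he =>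
      (Kx.fix_iff (u := ⟨e, le_normalizer he⟩)).1 (k _ ((Kx.mem_bar Fr_le).2 he))))

omit [Finite G] in
theorem Kx.FM (h : Ess T E M) : Fr E ≤ M :=
  Fr_le.trans ((le_inf h.lt.le le_normalizer).trans (Tr.le_of_lt_sylow_of_larger h.lt h.iso))

/-- Two transvections `b = (p, H)`, `d = (q, K)` with `d ≡ x b x⁻¹`, `x` of odd order inverted by `b` and not centralizing `E`: then `q ∉ H` and `p ∉ K`.
Indeed `d b⁻¹` acts on `V` as `x²`.  `p ∈ H`, `q ∈ K` as `b²`, `d²` act trivially.  If `q ∈ H`, both `b` and `d` act trivially on the factors of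
`0 ≤ ⟨q⟩ ≤ ⟨p, q⟩ ≤ V`, so `x²` and `x` act trivially on these factors, `x⁸` acts trivially on `V`, and so does `x` (odd order);
`cen_of_odd`.  Symmetric for `p ∈ K`. -/
theorem Tv.opp {H K : Subgroup G} {p q x : G} (hE : IsPGroup 2 E) (hb : Tv E H b p) (hd : Tv E K d q) (bn : b ∈ Nz E)
    (bb : b * b ∈ E) (xn : x ∈ Nz E) (ho : Odd (orderOf x)) (inv : b * x * b⁻¹ * x ∈ E)
    (e : (x * b * x⁻¹)⁻¹ * d ∈ E) (nc : x ∉ centralizer (E : Set G)) : q ∉ H ∧ p ∉ K := by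
  have dn : d ∈ Nz E := by
    have := mul_mem (mul_mem (mul_mem xn bn) (inv_mem xn)) (le_normalizer e)
    rwa [mul_inv_cancel_left] at this
  have := Kx.opp (x := Kx.pi E ⟨x, xn⟩) Kx.nm_bar Kx.el_bar (Kx.tq hb bn) (Kx.tq hd dn)
    (by rw [← map_mul]; exact (Kx.mem_bar Fr_le).2 bb)
    (ho.of_dvd_nat ((orderOf_map_dvd _ _).trans (by rw [Subgroup.orderOf_mk])))
    (by rw [L7.map_conj, ← map_mul]; exact (Kx.mem_bar Fr_le).2 inv)
    (by rw [L7.map_conj, ← map_inv, ← map_mul]; exact (Kx.mem_bar Fr_le).2 e)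
    fun k => nc (cen_of_odd hE xn ho fun u hu =>
      (Kx.fix_iff (u := ⟨u, le_normalizer hu⟩)).1 (k _ ((Kx.mem_bar Fr_le).2 hu)))
  rwa [Kx.mem_bar hb.fr, Kx.mem_bar hd.fr] at this

/-- Let `b = (p, H)` be a transvection (replace `H` by `H ⊔ Fr E`; `b` is not trivial on `V`), fix `g ∈ N(E) \ M`.  If `N_T(E) ≠ E ⟨b⟩`, the 2-group
`N_T(E) / E` has `c` centralizing `b̄`, `c̄ ∉ ⟨b̄⟩`, `c̄² ∈ ⟨b̄⟩`.
* `c̄² = 1`.  `d = g b g⁻¹ = (q, K)`.  By `pair` each of `b₁ = b`, `b₂ = c`, `b₃ = b c` is conjugate to `d` modulo `E`, so it is a transvection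
`(pᵢ, Hᵢ)` with `q ∉ Hᵢ`, `pᵢ ∉ K` (`Tv.opp`).  `b₁`, `b₂` commute on `V`, so `b₂` fixes `p₁` and `b₁` fixes `p₂`; `[v, b₃] = φ₁(v) p₁ + φ₂(v) p₂`.
For `v = q`: `p₃ = p₁ + p₂`; but `p₁, p₂, p₃ ∉ K` and `K` has index two: contradiction.
* `c̄² = b̄`.  `c` fixes `p` and `H`.  `d = g b g⁻¹ = (q, K)`, `d' = c d c⁻¹ = (c q, c K)`.  `p ∉ K`, `q ∉ H`.  Apply `pair` and `Tv.opp` after conjugating by
`g⁻¹`: the pair is `b` and `g' b g'⁻¹` with `g' = g⁻¹ c g`; `g' ∉ M`, since otherwise `g'² ≡ g⁻¹ b g` is a 2-element of `M ⊓ N(E)`, conjugate into `N_T(E)`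
by an element `m` of `M` (`N_T(E)` is Sylow in `M ⊓ N(E)`), and `m g⁻¹ ∈ M`.  So `c q c⁻¹ ∉ K` and `q ∉ c K c⁻¹`, i.e. `c⁻¹ q c ∉ K`.  But
`c⁻¹ q c ≡ c (b⁻¹ q b) c⁻¹ ≡ c q c⁻¹ · p`, and `p ∉ K`: contradiction. -/
theorem Ess.tv (h : Ess T E M) (hb : Iv T E b) {H : Subgroup G} (le : H ≤ E) (h2 : H.relIndex E ≤ 2)
    (ax : ∀ u ∈ H, ⁅u, b⁆ ∈ Fr E) {c : G} (cT : c ∈ (T : Subgroup G)) (cn : c ∈ Nz E) : c ∈ E ∨ c * b⁻¹ ∈ E := by
  obtain ⟨g, hg, gM⟩ := SetLike.not_le_iff_exists.1 h.ne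
  have FH := Fr_le_of_index h2
  have FT : Fr E ≤ T := Fr_le.trans h.lt.le
  have := (Kx.ew h).tv (b := Kx.pi E ⟨b, hb.nz⟩) (g := Kx.pi E ⟨g, hg⟩) (c := Kx.pi E ⟨c, cn⟩) (H := Kx.bar E H)
    ((Kx.mem_bar FT).2 hb.mem) (mt (Kx.mem_bar Fr_le).1 hb.nm) (by rw [← map_mul]; exact (Kx.mem_bar Fr_le).2 hb.sq)
    (mt (Kx.mem_bar (Kx.FM h)).1 gM) (map_mono fun _ k => le k) (by
      rintro _ ⟨u, hu, rfl⟩ _ ⟨v, hv, rfl⟩ a1 a2
      rw [← map_mul]
      rw [Kx.mem_bar FH] at a1 a2 ⊢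
      have h0 : H.relIndex E ≠ 0 := FiniteIndex.index_ne_zero
      have h1 : H.relIndex E ≠ 1 := fun k => a1 (relIndex_eq_one.1 k hu)
      exact (mul_mem_iff_of_index_two (H := H.subgroupOf E) (show H.relIndex E = 2 by omega) (a := ⟨u, hu⟩)
        (b := ⟨v, hv⟩)).2 (iff_of_false a1 a2))
    (by rintro _ ⟨u, hu, rfl⟩; exact Kx.fix_iff.2 (ax _ hu)) ((Kx.mem_bar FT).2 cT)
  rwa [← map_inv, ← map_mul, Kx.mem_bar Fr_le, Kx.mem_bar Fr_le] at this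

/-- if `b` is trivial on `V`, so are `x²` and `x`; `cen_of_odd` gives `x ∈ M` -/
theorem Ess.nt (h : Ess T E M) (hb : Iv T E b) : ∃ e ∈ E, ⁅e, b⁆ ∉ Fr E := by
  obtain ⟨g, hg, gM⟩ := SetLike.not_le_iff_exists.1 h.ne
  by_contra k
  push Not at k
  refine (Kx.ew h).nt (b := Kx.pi E ⟨b, hb.nz⟩) (g := Kx.pi E ⟨g, hg⟩) ((Kx.mem_bar (Fr_le.trans h.lt.le)).2 hb.mem)
    (mt (Kx.mem_bar Fr_le).1 hb.nm) (by rw [← map_mul]; exact (Kx.mem_bar Fr_le).2 hb.sq)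
    (mt (Kx.mem_bar (Kx.FM h)).1 gM) ?_
  rintro _ ⟨u, hu, rfl⟩
  exact Kx.fix_iff.2 (k _ hu)

theorem exists_bad (hR : R ≤ T) (hN : Nz (T : Subgroup G) ≤ Nz R) (h : ¬ IsStronglyClosed R (T : Subgroup G)) :
    ∃ E, Bad T R E := by
  obtain ⟨E, M, h, hM⟩ := exists_ess hR hN h
  obtain ⟨g, hg, gM⟩ := SetLike.not_le_iff_exists.1 h.ne
  refine ⟨E, h.lt, h.cen, h.syl, fun b hb => ?_, fun b hb => h.nt hb, fun b hb H le h2 ax c cT cn => h.tv hb le h2 ax cT cn⟩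
  obtain ⟨x, x1, x2, x3, x4, -⟩ := h.pair hb hb hg gM
  exact ⟨x, x1, x2, x3, fun c => x4 (hM ⟨x1, c⟩)⟩

theorem Hyp.bad (h : Hyp T) (hR : R ≤ T) (hN : Nz (T : Subgroup G) ≤ Nz R) (ne : R ≠ ⊥) (c : C2 R) : ∃ E, Bad T R E :=
  exists_bad hR hN (h.sc R ne c)

/-- `T` is strongly closed in `T` -/
theorem Hyp.nc2 (h : Hyp T) : ¬ C2 (T : Subgroup G) := fun c =>
  h.sc T (fun e => by have := h.card; change Nat.card (T : Subgroup G) = _ at this; simp [e] at this) c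
    ⟨le_rfl, fun _ _ _ h => h⟩

end CL.J3O
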