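import Cfsg.Agent.REC.J3O.DFc

/-! `T` has at most four generators. -/

set_option autoImplicit false

namespace CL.J3O

open Subgroup Cfsg
open scoped commutatorElement

variable {G : Type*} [Group G] [Finite G] {T : Sylow 2 G}

theorem one_eq_of_card_le_two {K : Subgroup G} (h : Nat.card K ≤ 2) {a b : G} (ha : a ∈ K) (hb : b ∈ K)
    (a1 : a ≠ 1) (b1 : b ≠ 1) : a = b := by
  by_contra ne
  have h3 : ({1, a, b} : Set G).ncard = 3 := Set.ncard_eq_three.2 ⟨1, a, b, a1.symm, b1.symm, ne, rfl⟩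
  have hs : ({1, a, b} : Set G) ⊆ (K : Set G) := by
    intro y hy
    rcases hy with rfl | rfl | rfl
    · exact K.one_mem
    · exact ha
    · exact hb
  have := Set.ncard_le_ncard hs (Set.toFinite _)
  have e : Nat.card K = (K : Set G).ncard := Nat.card_coe_set_eq _
  omega

omit [Finite G] in
theorem one_card_mul {A B : Subgroup G} (h : A ≤ B) : Nat.card A * A.relIndex B = Nat.card B := by
  have := (A.subgroupOf B).card_mul_index
  rwa [Nat.card_congr (Subgroup.subgroupOfEquivOfLe h).toEquiv] at this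

theorem one_card_le_two_mul {A B : Subgroup G} {s : G} (h : ∀ t ∈ B, t ∈ A ∨ t * s⁻¹ ∈ A) :
    Nat.card B ≤ 2 * Nat.card A := by
  have hs : (B : Set G) ⊆ (A : Set G) ∪ (fun a => a * s) '' (A : Set G) := by
    intro t ht
    rcases h t ht with h1 | h1
    · exact Or.inl h1
    · exact Or.inr ⟨_, h1, by simp⟩
  have h1 := Set.ncard_le_ncard hs (Set.toFinite _)
  have h2 := Set.ncard_union_le (A : Set G) ((fun a => a * s) '' (A : Set G))
  have h3 : ((fun a => a * s) '' (A : Set G)).ncard ≤ (A : Set G).ncard := Set.ncard_image_le (Set.toFinite _)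
  have e : Nat.card A = (A : Set G).ncard := Nat.card_coe_set_eq _
  have e' : Nat.card B = (B : Set G).ncard := Nat.card_coe_set_eq _
  omega

theorem one_mem4 {c y : G} (hc : orderOf c = 4) (hy : y ∈ zpowers c) : y = 1 ∨ y = c ∨ y = c * c ∨ y = c⁻¹ := by
  classical
  have h4 : c ^ 4 = 1 := hc ▸ pow_orderOf_eq_one c
  rw [mem_zpowers_iff_mem_range_orderOf, hc] at hy
  obtain ⟨n, hn, rfl⟩ := Finset.mem_image.1 hy
  have hn' : n < 4 := Finset.mem_range.1 hn
  interval_cases n
  · simp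
  · simp
  · simp [pow_two]
  · refine Or.inr (Or.inr (Or.inr ?_))
    rw [eq_inv_iff_mul_eq_one, ← pow_succ]
    exact h4

/-- `Φ = Fr P` has order at most four and is not central (else class two as `P' ≤ Φ`), so it has order four.  Suppose `Φ` is a four-group, `z` its central involution, `C = C_P(Φ)` of
index two.  For `g ∈ P \ C`: `g² ∈ C_Φ(g) = ⟨z⟩` is central, so `1 = ⁅g², u⁆ = ⁅g, u⁆^g ⁅g, u⁆` and `⁅g, u⁆ ∈ C_Φ(g) = ⟨z⟩` for all `u ∈ P`.  `P` is generated by `P \ C`,
so `c2_of_gen` applies. -/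
theorem fr_cyc {P : Subgroup G} (hP : IsPGroup 2 P) (h : Nat.card (Fr P) ≤ 4) (nc : ¬ C2 P) :
    ∃ c, orderOf c = 4 ∧ Fr P = zpowers c := by
  by_cases el : El (Fr P)
  · exfalso
    apply nc
    -- `Fr P` is not central
    by_cases hc : ∀ g ∈ P, ∀ f ∈ Fr P, g * f = f * g
    · intro a ha b hb c hc'
      exact hc c hc' _ (comm_mem_Fr ha hb)
    push Not at hc
    obtain ⟨g₀, g₀P, f₀, f₀F, ne₀⟩ := hc
    have nzF : ∀ u ∈ P, ∀ f ∈ Fr P, u * f * u⁻¹ ∈ Fr P := fun u hu f hf =>
      (mem_normalizer_iff.1 (Nz_le_Fr (le_normalizer hu)) f).1 hf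
    have key : ∀ g ∈ P, (∃ f ∈ Fr P, g * f ≠ f * g) → ∀ u ∈ P, ∀ t ∈ P, t * ⁅g, u⁆ = ⁅g, u⁆ * t := by
      rintro g gP ⟨f, fF, ne⟩
      have cK : Nat.card ↥(Fr P ⊓ centralizer {g}) ≤ 2 := by
        have e := one_card_mul (inf_le_left : Fr P ⊓ centralizer {g} ≤ Fr P)
        have i1 : (Fr P ⊓ centralizer {g}).relIndex (Fr P) ≠ 1 := by
          intro h1
          have := (relIndex_eq_one.1 h1 fF).2
          exact ne (mem_centralizer_singleton_iff.1 this).symm
        have i0 : (Fr P ⊓ centralizer {g}).relIndex (Fr P) ≠ 0 := index_ne_zero_of_finite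
        have i2 : 2 ≤ (Fr P ⊓ centralizer {g}).relIndex (Fr P) := by omega
        nlinarith
      have cen : ∀ k ∈ Fr P, k * g = g * k → ∀ t ∈ P, t * k = k * t := by
        intro k kF kg t tP
        by_cases k1 : k = 1
        · simp [k1]
        have m1 : k ∈ Fr P ⊓ centralizer {g} := ⟨kF, mem_centralizer_singleton_iff.2 kg⟩
        have c1 := el.comm (comm_mem_Fr (inv_mem tP) gP) kF
        have m2 : t * k * t⁻¹ ∈ Fr P ⊓ centralizer {g} := by
          refine ⟨nzF t tP k kF, mem_centralizer_singleton_iff.2 ?_⟩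
          rw [commutatorElement_def] at c1
          calc t * k * t⁻¹ * g = t * (k * (t⁻¹ * g * t⁻¹⁻¹ * g⁻¹)) * g * t⁻¹ := by group
            _ = t * (t⁻¹ * g * t⁻¹⁻¹ * g⁻¹) * (k * g) * t⁻¹ := by rw [← c1]; group
            _ = g * (t * k * t⁻¹) := by rw [kg]; group
        have n1 : t * k * t⁻¹ ≠ 1 := by
          intro e
          apply k1
          calc k = t⁻¹ * (t * k * t⁻¹) * t := by group
            _ = 1 := by rw [e]; group
        have := one_eq_of_card_le_two cK m2 m1 n1 k1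
        calc t * k = t * k * t⁻¹ * t := by group
          _ = k * t := by rw [this]
      intro u uP
      have s1 := cen _ (sq_mem_Fr gP) (by group) u uP
      have s2 := el _ (comm_mem_Fr gP uP)
      refine cen _ (comm_mem_Fr gP uP) ?_
      have s3 : ⁅g, u⁆⁻¹ = ⁅g, u⁆ := inv_eq_of_mul_eq_one_right s2
      have s4 : g * ⁅g, u⁆ * g⁻¹ = ⁅g, u⁆⁻¹ := by
        rw [commutatorElement_def]
        calc g * (g * u * g⁻¹ * u⁻¹) * g⁻¹ = (g * g * u) * (g⁻¹ * u⁻¹ * g⁻¹) := by group
          _ = (g * u * g⁻¹ * u⁻¹)⁻¹ := by rw [← s1]; group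
      calc ⁅g, u⁆ * g = ⁅g, u⁆⁻¹ * g := by rw [s3]
        _ = g * ⁅g, u⁆ := by rw [← s4]; group
    refine c2_of_gen (X := {g | g ∈ P ∧ ∃ f ∈ Fr P, g * f ≠ f * g}) ?_ ?_
    · refine le_antisymm ((closure_le _).2 fun g hg => hg.1) fun u hu => ?_
      by_cases hu' : ∃ f ∈ Fr P, u * f ≠ f * u
      · exact subset_closure ⟨hu, hu'⟩
      push Not at hu'
      have m0 : g₀ ∈ Subgroup.closure {g | g ∈ P ∧ ∃ f ∈ Fr P, g * f ≠ f * g} :=
        subset_closure ⟨g₀P, f₀, f₀F, ne₀⟩
      have m1 : u * g₀ ∈ Subgroup.closure {g | g ∈ P ∧ ∃ f ∈ Fr P, g * f ≠ f * g} := by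
        refine subset_closure ⟨mul_mem hu g₀P, f₀, f₀F, fun e => ne₀ ?_⟩
        have := hu' f₀ f₀F
        calc g₀ * f₀ = u⁻¹ * (u * g₀ * f₀) := by group
          _ = u⁻¹ * (f₀ * u) * g₀ := by rw [e]; group
          _ = f₀ * g₀ := by rw [← this]; group
      simpa using mul_mem m1 (inv_mem m0)
    · intro a ha c hc t ht
      exact key a ha.1 ha.2 c hc.1 t ht.1
  · unfold El at el
    push Not at el
    obtain ⟨c, cF, c2⟩ := el
    have hle : zpowers c ≤ Fr P := zpowers_le_of_mem cF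
    have o1 : orderOf c ≤ 4 := by
      rw [← Nat.card_zpowers]
      exact (card_le_of_le hle).trans h
    obtain ⟨k, hk⟩ := (IsPGroup.iff_orderOf.1 hP) ⟨c, Fr_le cF⟩
    rw [Subgroup.orderOf_mk] at hk
    have o4 : orderOf c = 4 := by
      have k3 : k < 3 := by
        by_contra k3
        have : 2 ^ 3 ≤ 2 ^ k := Nat.pow_le_pow_right (by norm_num) (by omega)
        omega
      have hp := pow_orderOf_eq_one c
      interval_cases k
      · rw [hk] at hp
        simp at hp
        simp [hp] at c2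
      · rw [hk] at hp
        simp [pow_two] at hp
        exact absurd hp c2
      · simpa using hk
    refine ⟨c, o4, (eq_of_le_of_card_ge hle ?_).symm⟩
    rw [Nat.card_zpowers, o4]
    exact h

/-- Suppose `|Fr T| ≤ 4`: `Fr T = ⟨c⟩`, `z = c²` is central in `T` and fixed by `N(T)`.  `Hyp.bad` with `R = ⟨z⟩`; `z ∈ E`.  `c` normalizes `E` (`⁅T, c⁆ ≤ ⟨z⟩`).  An `x` from `odd` (any `b`
from `exists_iv`) moves `z` and normalizes `Fr E ≤ ⟨c⟩`, so `Fr E = 1`: `E` is elementary, `c ∉ E`.  `H = C_E(c)` has index two (`relIndex_le_two`, `cen`); `tv` with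
`b = c` gives `N_T(E) = E ⟨c⟩ = P`, normal in `T` (it contains `Fr T`).  For `s ∈ T \ P`, `E^s ≤ P` is elementary, `E^s ≠ E`, it contains some `c e`, `E ⊓ E^s` has
index two in `E` and centralizes `c`, so `E ⊓ E^s = H`, `e ∉ H` (`(c e)² = 1`), and `E^s = H ⟨c e⟩` does not depend on `s`.  So `|T : P| ≤ 2`, `|H| ≥ 16`, `H` is
normal in `T`, centralized by `P`, `⁅H, s⁆ ≤ H ⊓ ⟨c⟩ = ⟨z⟩`.  So `C_H(T)` has order at least eight, against `Hyp.df`. -/
theorem Hyp.one (h : Hyp T) : 8 ≤ Nat.card (Fr (T : Subgroup G)) := by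
  by_contra lt
  have hT : IsPGroup 2 (T : Subgroup G) := T.isPGroup'
  have cT : Nat.card (T : Subgroup G) = 128 := h.card
  have le4 : Nat.card (Fr (T : Subgroup G)) ≤ 4 := by
    have d : Nat.card (Fr (T : Subgroup G)) ∣ 128 := cT ▸ card_dvd_of_le Fr_le
    have l8 : Nat.card (Fr (T : Subgroup G)) < 8 := not_le.1 lt
    generalize Nat.card (Fr (T : Subgroup G)) = n at d l8
    interval_cases n <;> simp_all
  obtain ⟨c, o4, hF⟩ := fr_cyc hT le4 h.nc2
  have c4 : c * c * (c * c) = 1 := by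
    have := pow_orderOf_eq_one c
    rw [o4] at this
    rw [← this]; simp only [pow_succ, pow_zero, one_mul, mul_assoc]
  have z1 : c * c ≠ 1 := by
    intro e
    have : orderOf c ∣ 2 := orderOf_dvd_of_pow_eq_one (by rw [pow_two, e])
    rw [o4] at this
    omega
  have zi : c⁻¹ * c⁻¹ = c * c := by
    calc c⁻¹ * c⁻¹ = c⁻¹ * c⁻¹ * (c * c * (c * c)) := by rw [c4, mul_one]
      _ = c * c := by simp only [mul_assoc, inv_mul_cancel_left]
  have cF : c ∈ Fr (T : Subgroup G) := hF ▸ mem_zpowers c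
  have cT' : c ∈ (T : Subgroup G) := Fr_le cF
  have m4 : ∀ y ∈ Fr (T : Subgroup G), y = 1 ∨ y = c ∨ y = c * c ∨ y = c⁻¹ := fun y hy => one_mem4 o4 (hF ▸ hy)
  have m2 : ∀ y ∈ Fr (T : Subgroup G), y * y = 1 → y = 1 ∨ y = c * c := by
    intro y hy yy
    rcases m4 y hy with e | e | e | e
    · exact Or.inl e
    · exact absurd (e ▸ yy) z1
    · exact Or.inr e
    · rw [e, zi] at yy
      exact absurd yy z1
  have cc : ∀ x ∈ Nz (T : Subgroup G), x * c * x⁻¹ = c ∨ x * c * x⁻¹ = c⁻¹ := by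
    intro x hx
    have m := (mem_normalizer_iff.1 (Nz_le_Fr hx) c).1 cF
    have ne : x * c * x⁻¹ * (x * c * x⁻¹) ≠ 1 := by
      intro e
      apply z1
      calc c * c = x⁻¹ * (x * c * x⁻¹ * (x * c * x⁻¹)) * x := by group
        _ = 1 := by rw [e]; group
    rcases m4 _ m with e | e | e | e
    · rw [e] at ne; simp at ne
    · exact Or.inl e
    · rw [e] at ne; exact absurd c4 ne
    · exact Or.inr e
  have zc : ∀ x ∈ Nz (T : Subgroup G), x * (c * c) * x⁻¹ = c * c := by
    intro x hx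
    have e : x * (c * c) * x⁻¹ = x * c * x⁻¹ * (x * c * x⁻¹) := by group
    rcases cc x hx with e1 | e1
    · rw [e, e1]
    · rw [e, e1, zi]
  have mz : ∀ y ∈ zpowers (c * c), y = 1 ∨ y = c * c := by
    intro y hy
    refine m2 y (zpowers_le_of_mem (mul_mem cF cF) hy) ?_
    obtain ⟨n, rfl⟩ := mem_zpowers_iff.1 hy
    rw [← (Commute.refl (c * c)).mul_zpow, c4, one_zpow]
  have nzR : ∀ x : G, x * (c * c) * x⁻¹ = c * c → x ∈ Nz (zpowers (c * c)) := by
    intro x hx
    refine mem_normalizer_fintype fun y hy => ?_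
    rcases mz y hy with e | e
    · simp [e]
    · rw [e, hx]; exact mem_zpowers _
  obtain ⟨E, hE⟩ := h.bad (R := zpowers (c * c)) (zpowers_le_of_mem (mul_mem cT' cT'))
    (fun x hx => nzR x (zc x hx)) (by simpa using z1) (by
      intro a ha b hb d hd
      have : ⁅a, b⁆ = 1 := by
        rcases mz a ha with e | e
        · simp [e]
        rcases mz b hb with e' | e'
        · simp [e']
        simp [e, e']
      simp [this])
  have ET : E ≤ (T : Subgroup G) := hE.lt.le
  have zc' : ∀ t ∈ (T : Subgroup G), t * (c * c) = c * c * t := by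
    intro t ht
    calc t * (c * c) = t * (c * c) * t⁻¹ * t := by group
      _ = c * c * t := by rw [zc t (le_normalizer ht)]
  have zE : c * c ∈ E := hE.cen _ (mul_mem cT' cT') fun e he => (zc' e (ET he)).symm
  have zF : c * c ∉ Fr E := by
    intro zF
    obtain ⟨b, hb⟩ := exists_iv hT hE.lt
    obtain ⟨x, hx⟩ := hE.odd b hb
    apply hx.mv
    rw [inf_eq_right.2 (zpowers_le_of_mem zE)]
    apply nzR
    have m := (mem_normalizer_iff.1 (Nz_le_Fr hx.nz) _).1 zF
    rcases m2 _ (Fr_mono ET m) (by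
      calc x * (c * c) * x⁻¹ * (x * (c * c) * x⁻¹) = x * (c * c * (c * c)) * x⁻¹ := by group
        _ = 1 := by rw [c4]; group) with e | e
    · exfalso
      apply z1
      calc c * c = x⁻¹ * (x * (c * c) * x⁻¹) * x := by group
        _ = 1 := by rw [e]; group
    · exact e
  have el : El E := by
    intro e he
    have m := sq_mem_Fr he
    rcases m4 _ (Fr_mono ET m) with e1 | e1 | e1 | e1
    · exact e1
    · exact absurd (e1 ▸ mul_mem m m) zF
    · exact absurd (e1 ▸ m) zF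
    · exact absurd (zi ▸ e1 ▸ mul_mem m m) zF
  have cE : c ∉ E := fun hc => z1 (el c hc)
  have ccm : ∀ t ∈ (T : Subgroup G), ⁅t, c⁆ = 1 ∨ ⁅t, c⁆ = c * c := by
    intro t ht
    rw [commutatorElement_def]
    rcases cc t (le_normalizer ht) with e | e
    · left; rw [e]; group
    · right; rw [e, zi]
  have cN : c ∈ Nz E := by
    refine mem_normalizer_fintype fun e he => ?_
    have e0 : c * e * c⁻¹ = ⁅e, c⁆⁻¹ * e := by simp only [commutatorElement_def]; group
    rw [e0]
    rcases ccm e (ET he) with e1 | e1 <;> rw [e1]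
    · simpa using he
    · exact mul_mem (inv_mem zE) he
  have iv : Iv (T : Subgroup G) E c := ⟨cT', cN, cE, zE⟩
  have i2 : (E ⊓ centralizer {c}).relIndex E ≤ 2 := relIndex_le_two fun a ha => ccm a (ET ha)
  have tv := hE.tv c iv _ inf_le_left i2 (by
    intro u hu
    have : ⁅u, c⁆ = 1 := commutatorElement_eq_one_iff_mul_comm.2 (mem_centralizer_singleton_iff.1 hu.2)
    rw [this]
    exact one_mem _)
  -- commutators with `H`
  have hH : ∀ u ∈ E ⊓ centralizer {c}, ∀ t ∈ (T : Subgroup G), ⁅u, t⁆ = 1 ∨ ⁅u, t⁆ = c * c := by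
    intro u hu t ht
    have m := comm_mem_Fr (ET hu.1) ht
    refine m2 _ m ?_
    have uc : u * c = c * u := mem_centralizer_singleton_iff.1 hu.2
    have uu := el u hu.1
    have ui : u⁻¹ = u := inv_eq_of_mul_eq_one_right uu
    have cm : u * ⁅u, t⁆ = ⁅u, t⁆ * u := by
      rcases m4 _ m with e | e | e | e <;> rw [e]
      · simp
      · exact uc
      · exact zc' u (ET hu.1)
      · calc u * c⁻¹ = c⁻¹ * (c * u) * c⁻¹ := by group
          _ = c⁻¹ * u := by rw [← uc]; group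
    have e1 : u * ⁅u, t⁆ * u⁻¹ = ⁅u, t⁆⁻¹ := by
      rw [commutatorElement_def]
      calc u * (u * t * u⁻¹ * t⁻¹) * u⁻¹ = (u * u) * t * u⁻¹ * t⁻¹ * u⁻¹ := by group
        _ = t * u * t⁻¹ * u⁻¹ := by rw [uu, one_mul]; nth_rewrite 1 [ui]; rfl
        _ = (u * t * u⁻¹ * t⁻¹)⁻¹ := by group
    rw [cm, mul_inv_cancel_right] at e1
    nth_rewrite 1 [e1]
    exact inv_mul_cancel _
  have hH' : ∀ u ∈ E ⊓ centralizer {c}, ∀ t ∈ (T : Subgroup G), t * u * t⁻¹ ∈ E := by
    intro u hu t ht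
    have e0 : t * u * t⁻¹ = ⁅u, t⁆⁻¹ * u := by simp only [commutatorElement_def]; group
    rw [e0]
    rcases hH u hu t ht with e1 | e1 <;> rw [e1]
    · simpa using hu.1
    · exact mul_mem (inv_mem zE) hu.1
  have out : ∀ e ∈ E, e ∉ centralizer ({c} : Set G) → e * c * e⁻¹ = c⁻¹ := by
    intro e he ne
    rcases cc e (le_normalizer (ET he)) with e1 | e1
    · exfalso
      apply ne
      rw [mem_centralizer_singleton_iff]
      calc e * c = e * c * e⁻¹ * e := by group
        _ = c * e := by rw [e1]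
    · exact e1
  have out2 : ∀ s ∈ (T : Subgroup G), s ∉ Nz E → ∀ e ∈ E, e ∉ centralizer ({c} : Set G) →
      s * e * s⁻¹ = c * e ∨ s * e * s⁻¹ = c⁻¹ * e := by
    intro s hs ns e he ne
    have ex : ∃ e₀ ∈ E, s * e₀ * s⁻¹ ∉ E := by
      by_contra hc
      push Not at hc
      exact ns (mem_normalizer_fintype hc)
    obtain ⟨e₀, he₀, ne₀⟩ := ex
    have ne₀' : e₀ ∉ centralizer ({c} : Set G) := fun hc => ne₀ (hH' e₀ ⟨he₀, hc⟩ s hs)
    have m : e₀ * e⁻¹ ∈ E ⊓ centralizer {c} := by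
      refine ⟨E.mul_mem he₀ (E.inv_mem he), mem_centralizer_singleton_iff.2 ?_⟩
      have a1 := out e he ne
      have a2 := out e₀ he₀ ne₀'
      have a3 : c = e * c⁻¹ * e⁻¹ := by
        calc c = (e * c * e⁻¹)⁻¹ := by rw [a1, inv_inv]
          _ = e * c⁻¹ * e⁻¹ := by group
      calc e₀ * e⁻¹ * c = e₀ * e⁻¹ * (e * c⁻¹ * e⁻¹) := by rw [← a3]
        _ = e₀ * c⁻¹ * e⁻¹ := by group
        _ = (e₀ * c * e₀⁻¹)⁻¹ * (e₀ * e⁻¹) := by group
        _ = c * (e₀ * e⁻¹) := by rw [a2, inv_inv]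
    have n1 : s * e * s⁻¹ ∉ E := by
      intro hc
      apply ne₀
      have := mul_mem (hH' _ m s hs) hc
      have e1 : s * e₀ * s⁻¹ = s * (e₀ * e⁻¹) * s⁻¹ * (s * e * s⁻¹) := by group
      rwa [e1]
    have e0 : s * e * s⁻¹ = ⁅s, e⁆ * e := by rw [commutatorElement_def]; group
    rw [e0] at n1 ⊢
    rcases m4 _ (comm_mem_Fr hs (ET he)) with e1 | e1 | e1 | e1 <;> rw [e1] at n1 ⊢
    · exact absurd (by simpa using he) n1
    · exact Or.inl rfl
    · exact absurd (mul_mem zE he) n1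
    · exact Or.inr rfl
  have two : ∀ s ∈ (T : Subgroup G), s ∉ Nz E → ∀ t ∈ (T : Subgroup G), t ∉ Nz E → s * t ∈ Nz E := by
    intro s hs ns t ht nt
    refine mem_normalizer_fintype fun e he => ?_
    by_cases hc : e ∈ centralizer ({c} : Set G)
    · exact hH' e ⟨he, hc⟩ _ (mul_mem hs ht)
    have ziE : c⁻¹ * c⁻¹ ∈ E := zi ▸ zE
    have e0 : s * t * e * (s * t)⁻¹ = s * (t * e * t⁻¹) * s⁻¹ := by group
    have e1 : s * (c * e) * s⁻¹ = (s * c * s⁻¹) * (s * e * s⁻¹) := by group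
    have e2 : s * (c⁻¹ * e) * s⁻¹ = (s * c * s⁻¹)⁻¹ * (s * e * s⁻¹) := by group
    change s * t * e * (s * t)⁻¹ ∈ E
    rw [e0]
    rcases out2 t ht nt e he hc with a1 | a1 <;> rw [a1] <;>
      first
        | rw [e1]
        | rw [e2]
    all_goals
      rcases out2 s hs ns e he hc with a2 | a2 <;> rcases cc s (le_normalizer hs) with a3 | a3 <;>
        rw [a2, a3] <;> simp only [inv_inv, ← mul_assoc, inv_mul_cancel, mul_inv_cancel, one_mul] <;>
        first
          | exact he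
          | exact mul_mem zE he
          | exact mul_mem ziE he
  obtain ⟨s, hs, hs2⟩ : ∃ s ∈ (T : Subgroup G), ∀ t ∈ (T : Subgroup G),
      t ∈ (T : Subgroup G) ⊓ Nz E ∨ t * s⁻¹ ∈ (T : Subgroup G) ⊓ Nz E := by
    by_cases hc : ∀ t ∈ (T : Subgroup G), t ∈ Nz E
    · exact ⟨1, one_mem _, fun t ht => Or.inl ⟨ht, hc t ht⟩⟩
    push Not at hc
    obtain ⟨s, hs, ns⟩ := hc
    refine ⟨s, hs, fun t ht => ?_⟩
    by_cases nt : t ∈ Nz E
    · exact Or.inl ⟨ht, nt⟩
    · exact Or.inr ⟨(T : Subgroup G).mul_mem ht ((T : Subgroup G).inv_mem hs),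
        two t ht nt _ (inv_mem hs) fun hc => ns (by simpa using inv_mem hc)⟩
  have k1 := one_card_le_two_mul hs2
  have k2 : Nat.card ↥((T : Subgroup G) ⊓ Nz E) ≤ 2 * Nat.card E :=
    one_card_le_two_mul fun t ht => tv t ht.1 ht.2
  have k3 := one_card_mul (inf_le_left : E ⊓ centralizer {c} ≤ E)
  have i3 : ((E ⊓ centralizer {c}) ⊓ centralizer {s}).relIndex (E ⊓ centralizer {c}) ≤ 2 :=
    relIndex_le_two fun a ha => hH a ha s hs
  have k4 := one_card_mul (inf_le_left : (E ⊓ centralizer {c}) ⊓ centralizer {s} ≤ E ⊓ centralizer {c})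
  have k5 : Nat.card ↥((E ⊓ centralizer {c}) ⊓ centralizer {s}) ≤ 2 := by
    have hle : (E ⊓ centralizer {c}) ⊓ centralizer {s} ≤ zpowers (c * c) := by
      intro u hu
      have uc : u * c = c * u := mem_centralizer_singleton_iff.1 hu.1.2
      have us : u * s = s * u := mem_centralizer_singleton_iff.1 hu.2
      have cP : ∀ t ∈ (T : Subgroup G) ⊓ Nz E, t * u = u * t := by
        intro t ht
        rcases tv t ht.1 ht.2 with a | a
        · exact el.comm a hu.1.1
        · have := el.comm a hu.1.1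
          calc t * u = t * c⁻¹ * (c * u) := by group
            _ = t * c⁻¹ * u * c := by rw [← uc]; group
            _ = u * t := by rw [this]; group
      have m := h.df u (ET hu.1.1) (el u hu.1.1) (by
        intro t ht
        rcases hs2 t ht with a | a
        · exact cP t a
        · have := cP _ a
          calc t * u = t * s⁻¹ * (s * u) := by group
            _ = t * s⁻¹ * u * s := by rw [← us]; group
            _ = u * t := by rw [this]; group)
      rcases m2 u m (el u hu.1.1) with e | e <;> rw [e]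
      · exact one_mem _
      · exact mem_zpowers _
    refine (card_le_of_le hle).trans ?_
    rw [Nat.card_zpowers]
    exact orderOf_le_of_pow_eq_one (by norm_num) (by rw [pow_two, c4])
  have k6 : Nat.card ↥(E ⊓ centralizer {c}) ≤ 4 := by
    rw [← k4]
    exact Nat.mul_le_mul k5 i3
  have k7 : Nat.card E ≤ 8 := by
    rw [← k3]
    exact Nat.mul_le_mul k6 i2
  omega

end CL.J3O
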