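import Cfsg.Agent.REC.J3O.Two
import Cfsg.Agent.FGS.SecRank

/-! The sectional rank is at most four. -/

set_option autoImplicit false

namespace CL.J3O

open Subgroup Cfsg
open scoped commutatorElement

variable {G : Type*} [Group G] [Finite G] {T : Sylow 2 G} {A : Subgroup G}

namespace Rank

omit [Finite G] in
theorem card_mul {B C : Subgroup G} (h : B ≤ C) : Nat.card B * B.relIndex C = Nat.card C := by
  rw [← Nat.card_congr (Subgroup.subgroupOfEquivOfLe h).toEquiv]
  exact Subgroup.card_mul_index _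

omit [Finite G] in
theorem idx2 {B P : Subgroup G} (h : B.relIndex P = 2) {x y : G} (hx : x ∈ P) (hy : y ∈ P) (x0 : x ∉ B) (y0 : y ∉ B) :
    x * y ∈ B := by
  have := (Subgroup.mul_mem_iff_of_index_two (H := B.subgroupOf P) h (a := ⟨x, hx⟩) (b := ⟨y, hy⟩)).2
    (by simp only [Subgroup.mem_subgroupOf]; exact ⟨fun h => absurd h x0, fun h => absurd h y0⟩)
  exact this

omit [Finite G] in
theorem card_cj (s : G) (B : Subgroup G) : Nat.card (cj s B) = Nat.card B :=
  Subgroup.card_map_of_injective (MulAut.conj s).injective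

omit [Finite G] in
theorem Fr_map {H : Type*} [Group H] (f : G →* H) (S : Subgroup G) : (Fr S).map f = Fr (S.map f) := by
  unfold Fr
  rw [MonoidHom.map_closure]
  congr 1
  ext x
  constructor
  · rintro ⟨_, ⟨e, he, rfl⟩, rfl⟩
    exact ⟨f e, ⟨e, he, rfl⟩, map_mul f e e⟩
  · rintro ⟨_, ⟨e, he, rfl⟩, rfl⟩
    exact ⟨e * e, ⟨e, he, rfl⟩, map_mul f e e⟩

theorem el32 (h : Hyp T) (le : A ≤ T) (el : El A) (c : Nat.card A = 32) : False := by
  have hT : Nat.card (T : Subgroup G) = 128 := h.card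
  have ne : A < T := lt_of_le_of_ne le (fun e => by rw [e, hT] at c; omega)
  obtain ⟨b, hb⟩ := exists_iv T.isPGroup' ne
  set P : Subgroup G := (T : Subgroup G) ⊓ Nz A with hP
  have AP : A ≤ P := le_inf le Subgroup.le_normalizer
  have PT : P ≤ T := inf_le_left
  have PT' : P < T := lt_of_le_of_ne PT (fun e => h.no32 ⟨le, e ▸ inf_le_right, el, c⟩)
  have cP : Nat.card P = 64 := by
    have h1 := card_mul AP
    have h2 := card_mul PT
    have h3 : A.relIndex P ≠ 1 := fun e => hb.nm (Subgroup.relIndex_eq_one.1 e ⟨hb.mem, hb.nz⟩)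
    have h4 : P.relIndex T ≠ 1 := fun e => PT'.2 (Subgroup.relIndex_eq_one.1 e)
    rw [c] at h1
    rw [hT, ← h1] at h2
    have h5 : A.relIndex P * P.relIndex T = 4 := by
      have : 32 * (A.relIndex P * P.relIndex T) = 32 * 4 := by rw [← mul_assoc]; omega
      omega
    have h6 : A.relIndex P ≤ 4 := Nat.le_of_dvd (by norm_num) ⟨_, h5.symm⟩
    rw [← h1]
    generalize A.relIndex P = r at *
    interval_cases r <;> omega
  obtain ⟨s, hs⟩ := exists_iv T.isPGroup' PT'
  set A' : Subgroup G := cj s A with hA'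
  have c' : Nat.card A' = 32 := by rw [hA', card_cj, c]
  have A'P : A' ≤ P := by
    rintro _ ⟨a, ha, rfl⟩
    exact (Subgroup.mem_normalizer_iff.1 hs.nz a).1 (AP ha)
  have el' : El A' := by
    rintro _ ⟨a, ha, rfl⟩
    rw [← map_mul, el a ha, map_one]
  have nAA : A' ≠ A := fun e => hs.nm ⟨hs.mem, by
    refine Subgroup.mem_normalizer_iff.2 fun x => ?_
    constructor
    · intro hx
      have : s * x * s⁻¹ ∈ A' := ⟨x, hx, rfl⟩
      rwa [e] at this
    · intro hx
      have hx' : s * x * s⁻¹ ∈ A' := by rw [e]; exact hx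
      obtain ⟨y, hy, hy'⟩ := hx'
      have : y = x := (MulAut.conj s).injective hy'
      exact this ▸ hy⟩
  have i1 : A.relIndex P = 2 := by have := card_mul AP; rw [c, cP] at this; omega
  have i2 : A'.relIndex P = 2 := by have := card_mul A'P; rw [c', cP] at this; omega
  obtain ⟨a, ha, a0⟩ : ∃ a ∈ A, a ∉ A' := by
    by_contra hh
    push Not at hh
    exact nAA (Subgroup.eq_of_le_of_card_ge hh (by omega)).symm
  obtain ⟨a', ha', a0'⟩ : ∃ a' ∈ A', a' ∉ A := by
    by_contra hh
    push Not at hh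
    exact nAA (Subgroup.eq_of_le_of_card_ge hh (by omega))
  have wA : (a * a') * (a * a') ∈ A := by
    have h1 : a' * a * a'⁻¹ ∈ A := (Subgroup.mem_normalizer_iff.1 (A'P ha').2 a).1 ha
    have h2 : (a * a') * (a * a') = a * (a' * a * a'⁻¹) * (a' * a') := by group
    rw [h2, el' a' ha', mul_one]
    exact A.mul_mem ha h1
  have fP : Fr P ≤ zpowers ((a * a') * (a * a')) := by
    rw [Fr_le_iff]
    intro x hx
    by_cases h1 : x ∈ A
    · rw [el x h1]; exact one_mem _
    by_cases h2 : x ∈ A'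
    · rw [el' x h2]; exact one_mem _
    have h3 : x * a'⁻¹ ∈ A := idx2 i1 hx (P.inv_mem (A'P ha')) h1 (fun h => a0' (A.inv_mem_iff.1 h))
    have h4 : x * a'⁻¹ ∉ A' := fun h => h2 (by simpa using A'.mul_mem h ha')
    have h5 : x * a'⁻¹ * a⁻¹ ∈ A' := idx2 i2 (AP h3) (P.inv_mem (AP ha)) h4 (fun h => a0 (A'.inv_mem_iff.1 h))
    have h6 : x * a'⁻¹ * a⁻¹ ∈ A := A.mul_mem h3 (A.inv_mem ha)
    obtain ⟨d, hd⟩ : ∃ d, d = x * a'⁻¹ * a⁻¹ := ⟨_, rfl⟩
    rw [← hd] at h5 h6
    have hx' : x = d * (a * a') := by rw [hd]; group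
    have c1 : d * a = a * d := el.comm h6 ha
    have c2 : d * a' = a' * d := el'.comm h5 ha'
    have c3 : (a * a') * d = d * (a * a') := by rw [mul_assoc, ← c2, ← mul_assoc, ← c1, mul_assoc]
    have : x * x = (a * a') * (a * a') := by
      rw [hx']
      calc d * (a * a') * (d * (a * a')) = d * ((a * a') * d) * (a * a') := by group
        _ = (d * d) * ((a * a') * (a * a')) := by rw [c3]; group
        _ = _ := by rw [el d h6, one_mul]
    rw [this]
    exact mem_zpowers _
  refine h.two PT cP ((Subgroup.card_le_of_le fP).trans ?_)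
  rw [Nat.card_zpowers]
  exact orderOf_le_of_pow_eq_one (by norm_num) (by rw [pow_two]; exact el _ wA)

end Rank

/-- `|A| = 128`: `one`.  `|A| = 64`: `two`.  `|A| = 32`: `A` is elementary, not normal (`no32`), `P = N_T(A)` has order 64, `P = A A^s`, `A ⊓ A^s` (order 16) is central in `P`, all squares
lie in `⟨⁅a, a'⁆⟩`, of order at most two: `two`. -/
theorem Hyp.rank (h : Hyp T) (le : A ≤ T) : (Fr A).relIndex A ≤ 16 := by
  have hT : Nat.card (T : Subgroup G) = 128 := h.card
  have h1 := Rank.card_mul (Fr_le (E := A))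
  have h2 := Rank.card_mul le
  rw [hT] at h2
  by_contra hc
  push Not at hc
  have hf : 0 < Nat.card (Fr A) := Nat.card_pos
  have hd : Nat.card A ∣ 2 ^ 7 := ⟨_, h2.symm⟩
  obtain ⟨k, hk, e⟩ := (Nat.dvd_prime_pow Nat.prime_two).1 hd
  have hge : Nat.card (Fr A) * 17 ≤ Nat.card A := by rw [← h1]; exact Nat.mul_le_mul_left _ hc
  interval_cases k
  all_goals norm_num only at e
  any_goals omega
  · have f1 : Nat.card (Fr A) = 1 := by omega
    have f2 : Fr A = ⊥ := Subgroup.card_eq_one.1 f1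
    exact Rank.el32 h le (fun a ha => by have := sq_mem_Fr ha; rwa [f2, Subgroup.mem_bot] at this) e
  · refine h.two le e ?_
    have f3 : Nat.card (Fr A) ≠ 3 := fun f => by rw [f, e] at h1; omega
    omega
  · have : A = T := Subgroup.eq_of_le_of_card_ge le (by omega)
    have h8 := h.one
    rw [← this] at h8
    omega

/-- `SecR.sectional_top`: let `B ≤ A` with all squares in `B`; the index is a power of two, so a Sylow 2-subgroup `S` of `A` has `A = S B`, and `S` is conjugate into `T`. -/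
theorem Hyp.sr4 (h : Hyp T) : SectionalPRankLE 2 4 G := by
  refine SecR.sectional_top fun A B hB hs => ?_
  have : Fact (Nat.Prime 2) := ⟨Nat.prime_two⟩
  have hn : (B.subgroupOf A).Normal := SecR.normal_of_sq hs
  obtain ⟨S⟩ : Nonempty (Sylow 2 A) := inferInstance
  have hq : IsPGroup 2 (A ⧸ B.subgroupOf A) := by
    intro x
    refine ⟨1, ?_⟩
    induction x using QuotientGroup.induction_on with
    | H a =>
      rw [pow_one, ← QuotientGroup.mk_pow, QuotientGroup.eq_one_iff, Subgroup.mem_subgroupOf, pow_two]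
      exact hs a a.2
  obtain ⟨k, hk⟩ := IsPGroup.iff_card.1 hq
  have htop : (S : Subgroup A) ⊔ B.subgroupOf A = ⊤ := by
    rw [← Subgroup.index_eq_one]
    have d1 : ((S : Subgroup A) ⊔ B.subgroupOf A).index ∣ 2 ^ k := by
      rw [← hk]; exact Subgroup.index_dvd_of_le le_sup_right
    have d2 : ((S : Subgroup A) ⊔ B.subgroupOf A).index ∣ (S : Subgroup A).index := Subgroup.index_dvd_of_le le_sup_left
    obtain ⟨j, -, e⟩ := (Nat.dvd_prime_pow Nat.prime_two).1 d1
    cases j with
    | zero => simpa using e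
    | succ j => exact absurd (dvd_trans (by rw [e]; exact dvd_pow_self 2 (Nat.succ_ne_zero j)) d2) S.not_dvd_index
  set S' : Subgroup G := (S : Subgroup A).map A.subtype with hS'
  have e1 : B.relIndex A = B.relIndex S' := by
    have : B.relIndex A = (B.subgroupOf A).relIndex ((S : Subgroup A) ⊔ B.subgroupOf A) := by
      rw [htop, Subgroup.relIndex_top_right]; rfl
    rw [this, Subgroup.relIndex_sup_right, hS', ← Subgroup.relIndex_comap]; rfl
  have pS : IsPGroup 2 S' := S.isPGroup'.map _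
  obtain ⟨Q, hQ⟩ := pS.exists_le_sylow
  obtain ⟨g, hg⟩ := MulAction.exists_smul_eq G Q T
  have le : cj g S' ≤ T := by
    rintro _ ⟨x, hx, rfl⟩
    rw [← hg]
    exact Subgroup.smul_mem_pointwise_smul x (MulAut.conj g) (Q : Subgroup G) (hQ hx)
  have r := h.rank le
  rw [← Rank.Fr_map, Subgroup.relIndex_map_map_of_injective _ _ (MulAut.conj g).injective] at r
  have fB : Fr S' ≤ B := by
    rw [Fr_le_iff]
    rintro _ ⟨x, -, rfl⟩
    exact hs _ x.2
  rw [e1]
  exact (Subgroup.relIndex_le_of_le_left fB Subgroup.FiniteIndex.index_ne_zero).trans r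

end CL.J3O
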