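import Cfsg.Agent.REC.J3O.Defs

/-! Subgroups of index two, adjunction of an element, counting by commutator maps. -/

set_option autoImplicit false
set_option maxHeartbeats 200000
set_option linter.unusedSectionVars false

namespace CL.J3O.Twx

open Subgroup Cfsg
open scoped commutatorElement

variable {G : Type*} [Group G] {X X' Y Z A B C : Subgroup G} {u v w s x y z : G}

theorem cjm (hx : x ∈ Nz Y) (hy : y ∈ Y) : x * y * x⁻¹ ∈ Y := (mem_normalizer_iff.1 hx y).1 hy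
theorem cjm' (hx : x ∈ Nz Y) (hy : y ∈ Y) : x⁻¹ * y * x ∈ Y := (mem_normalizer_iff''.1 hx y).1 hy

theorem mem_cj : u ∈ cj x Y ↔ x⁻¹ * u * x ∈ Y :=
  ⟨fun ⟨y, hy, e⟩ => by simpa [← e, mul_assoc] using hy, fun h => ⟨_, h, by simp [mul_assoc]⟩⟩

theorem cj_mem (hy : y ∈ Y) : x * y * x⁻¹ ∈ cj x Y := ⟨y, hy, rfl⟩

theorem card_cj : Nat.card (cj x Y) = Nat.card Y := card_map_of_injective (MulAut.conj x).injective

theorem zp2 (h : orderOf z = 2) : u ∈ zpowers z ↔ u = 1 ∨ u = z := by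
  have h2 : z * z = 1 := by rw [← pow_two, ← h, pow_orderOf_eq_one]
  refine ⟨fun hu => ?_, fun hu => hu.elim (· ▸ one_mem _) (· ▸ mem_zpowers _)⟩
  obtain ⟨n, rfl⟩ := hu
  have : z ^ (2 : ℤ) = 1 := by rw [zpow_two, h2]
  rcases Int.even_or_odd' n with ⟨k, rfl | rfl⟩ <;> simp [zpow_add, zpow_mul, this]

theorem cm_inv (h : ⁅u, v⁆ ∈ Y) : ⁅v, u⁆ ∈ Y := by rw [← commutatorElement_inv]; exact inv_mem h

theorem cm_l (a b c : G) : ⁅a * b, c⁆ = a * ⁅b, c⁆ * a⁻¹ * ⁅a, c⁆ := by simp only [commutatorElement_def]; group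
theorem cm_r (a b c : G) : ⁅a, b * c⁆ = ⁅a, b⁆ * (b * ⁅a, c⁆ * b⁻¹) := by simp only [commutatorElement_def]; group
theorem cm_il (a c : G) : ⁅a⁻¹, c⁆ = a⁻¹ * ⁅c, a⁆ * a := by simp only [commutatorElement_def]; group
theorem sq_mul (a b : G) : a * b * (a * b) = a * a * ⁅a⁻¹, b⁆ * (b * b) := by simp only [commutatorElement_def]; group

theorem cm_mem (hx : x ∈ Nz Y) (hy : y ∈ Y) : ⁅y, x⁆ ∈ Y := by
  have := mul_mem hy (cjm hx (inv_mem hy))
  rwa [← mul_assoc, ← mul_assoc] at this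

/-- `Y` has index at most two in `X` -/
def I2 (Y X : Subgroup G) : Prop := ∀ u ∈ X, ∀ v ∈ X, u ∉ Y → v ∉ Y → u * v ∈ Y

theorem I2.mono (h : I2 Y X) (le : X' ≤ X) : I2 Y X' := fun u hu v hv => h u (le hu) v (le hv)

theorem I2.div (h : I2 Y X) (hu : u ∈ X) (hv : v ∈ X) (h1 : u ∉ Y) (h2 : v ∉ Y) : u * v⁻¹ ∈ Y :=
  h u hu _ (inv_mem hv) h1 (mt inv_mem_iff.1 h2)

theorem I2.div' (h : I2 Y X) (hu : u ∈ X) (hv : v ∈ X) (h1 : u ∉ Y) (h2 : v ∉ Y) : u⁻¹ * v ∈ Y :=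
  h _ (inv_mem hu) v hv (mt inv_mem_iff.1 h1) h2

theorem I2.sq (h : I2 Y X) (hu : u ∈ X) : u * u ∈ Y := by
  by_cases e : u ∈ Y
  · exact mul_mem e e
  · exact h u hu u hu e e

theorem I2.cj (h : I2 Y X) (hx : x ∈ Nz X) : I2 (cj x Y) X := fun u hu v hv h1 h2 => by
  rw [mem_cj] at *
  simpa [mul_assoc] using h _ (cjm' hx hu) _ (cjm' hx hv) h1 h2

theorem I2.inf (h : I2 Y X) : I2 (X ⊓ Y) X := fun u hu v hv h1 h2 =>
  ⟨mul_mem hu hv, h u hu v hv (fun e => h1 ⟨hu, e⟩) fun e => h2 ⟨hv, e⟩⟩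

theorem I2.of_elt (hs : s ∈ Nz Y) (ss : s * s ∈ Y) (h : ∀ u ∈ X, u ∈ Y ∨ u * s⁻¹ ∈ Y) : I2 Y X := fun u hu v hv h1 h2 => by
  have := mul_mem (mul_mem ((h u hu).resolve_left h1) (cjm hs ((h v hv).resolve_left h2))) ss
  convert this using 1; group

/-- `Z ⟨w⟩` -/
def adj (Z : Subgroup G) (w : G) (hw : w ∈ Nz Z) (ww : w * w ∈ Z) : Subgroup G where
  carrier := {u | u ∈ Z ∨ u * w⁻¹ ∈ Z}
  mul_mem' := by
    rintro a b (ha | ha) (hb | hb)
    · exact Or.inl (mul_mem ha hb)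
    · exact Or.inr (by simpa [mul_assoc] using mul_mem ha hb)
    · exact Or.inr (by simpa [mul_assoc] using mul_mem ha (cjm hw hb))
    · exact Or.inl (by simpa [mul_assoc] using mul_mem (mul_mem ha (cjm hw hb)) ww)
  one_mem' := Or.inl (one_mem _)
  inv_mem' := by
    rintro a (ha | ha)
    · exact Or.inl (inv_mem ha)
    · exact Or.inr (by simpa [mul_assoc] using mul_mem (cjm' hw (inv_mem ha)) (inv_mem ww))

theorem mem_adj {hw : w ∈ Nz Z} {ww : w * w ∈ Z} : u ∈ adj Z w hw ww ↔ u ∈ Z ∨ u * w⁻¹ ∈ Z := Iff.rfl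

theorem le_adj {hw : w ∈ Nz Z} {ww : w * w ∈ Z} : Z ≤ adj Z w hw ww := fun _ => Or.inl

theorem self_adj {hw : w ∈ Nz Z} {ww : w * w ∈ Z} : w ∈ adj Z w hw ww := Or.inr (by simp)

variable [Finite G]

theorem nz_of (h : ∀ y ∈ Y, x * y * x⁻¹ ∈ Y) : x ∈ Nz Y := mem_normalizer_fintype h

theorem nz_cm (h : ∀ y ∈ Y, ⁅x, y⁆ ∈ Y) : x ∈ Nz Y :=
  nz_of fun y hy => by simpa [commutatorElement_def] using mul_mem (h y hy) hy

theorem nz_inf (h : x ∈ Nz X) (h' : x ∈ Nz Y) : x ∈ Nz (X ⊓ Y) := nz_of fun _ hy => ⟨cjm h hy.1, cjm h' hy.2⟩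

theorem I2.nz (h : I2 Y X) (le : Y ≤ X) : X ≤ Nz Y := fun x hx => nz_of fun y hy => by
  by_cases e : x ∈ Y
  · exact mul_mem (mul_mem e hy) (inv_mem e)
  · exact h.div (mul_mem hx (le hy)) hx (fun c => e ((mul_mem_cancel_right hy).1 c)) e

theorem card_rel : Nat.card ↥(X ⊓ Y) * Y.relIndex X = Nat.card X := by
  rw [← relIndex_bot_left, ← relIndex_bot_left, ← inf_relIndex_left X Y, relIndex_mul_relIndex _ _ _ bot_le inf_le_left]

theorem rel_pos : 0 < Y.relIndex X := Nat.pos_of_ne_zero index_ne_zero_of_finite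

theorem I2.of_rel (h : Y.relIndex X ≤ 2) : I2 Y X := fun u hu v hv h1 h2 => by
  have h0 := rel_pos (X := X) (Y := Y)
  have h3 : Y.relIndex X ≠ 1 := fun e => h1 (relIndex_eq_one.1 e hu)
  exact (mul_mem_iff_of_index_two (H := Y.subgroupOf X) (by change Y.relIndex X = 2; omega)
    (a := ⟨u, hu⟩) (b := ⟨v, hv⟩)).2 (iff_of_false h1 h2)

theorem I2.rel (h : I2 Y X) : Y.relIndex X ≤ 2 := by
  refine Nat.le_of_dvd two_pos (relIndex_dvd_two_iff.2 ?_)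
  by_cases e : X ≤ Y
  · exact ⟨1, one_mem _, fun b hb => Or.inr (e hb)⟩
  · obtain ⟨a, ha, ha'⟩ := SetLike.not_le_iff_exists.1 e
    exact ⟨a, ha, fun b hb => (em _).symm.imp_left fun c => h b hb a ha c ha'⟩

theorem I2.of_card (le : Y ≤ X) (h : Nat.card X ≤ 2 * Nat.card Y) : I2 Y X := by
  have := card_rel (X := X) (Y := Y)
  rw [inf_of_le_right le] at this
  have h0 : 0 < Nat.card Y := Nat.card_pos
  exact I2.of_rel (by nlinarith)

theorem I2.card_le (h : I2 Y X) : Nat.card X ≤ 2 * Nat.card ↥(X ⊓ Y) := by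
  rw [← card_rel (Y := Y), mul_comm]; exact Nat.mul_le_mul_right _ h.rel

theorem I2.card_eq (h : I2 Y X) (hs : s ∈ X) (h' : s ∉ Y) : Nat.card X = 2 * Nat.card ↥(X ⊓ Y) := by
  have h0 := rel_pos (X := X) (Y := Y)
  have h3 : Y.relIndex X ≠ 1 := fun e => h' (relIndex_eq_one.1 e hs)
  have := h.rel
  rw [← card_rel (Y := Y), mul_comm, show Y.relIndex X = 2 by omega]

theorem card_adj {hw : w ∈ Nz Z} {ww : w * w ∈ Z} : Nat.card (adj Z w hw ww) ≤ 2 * Nat.card Z := by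
  have := (I2.of_elt (X := adj Z w hw ww) hw ww fun _ h => h).card_le
  rwa [inf_of_le_right le_adj] at this

theorem card_lt (le : Y ≤ X) (hs : s ∈ X) (h : s ∉ Y) : Nat.card Y < Nat.card X :=
  lt_of_le_of_ne (card_le_of_le le) fun e => h (eq_of_le_of_card_ge le e.ge ▸ hs)

theorem rel_le (f : G → G) (hf : ∀ a ∈ A, f a ∈ B) (h : ∀ a ∈ A, ∀ a' ∈ A, (f a)⁻¹ * f a' ∈ Z → a⁻¹ * a' ∈ C) :
    C.relIndex A ≤ Z.relIndex B :=
  Nat.card_le_card_of_injective (fun q : A ⧸ C.subgroupOf A => ((⟨f q.out, hf _ q.out.2⟩ : B) : B ⧸ Z.subgroupOf B))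
    fun q q' e => by
      rw [← q.out_eq', ← q'.out_eq']
      exact QuotientGroup.eq.2 (h _ q.out.2 _ q'.out.2 (QuotientGroup.eq (s := Z.subgroupOf B) |>.1 e))

/-- the commutator map -/
theorem rel_cm (hf : ∀ a ∈ A, ⁅a, s⁆ ∈ B) (hA : A ≤ Nz Z) (hB : B ≤ Nz Z) (h : ∀ a ∈ A, ⁅a, s⁆ ∈ Z → a ∈ C) :
    C.relIndex A ≤ Z.relIndex B :=
  rel_le (fun a => ⁅a, s⁆) hf fun a ha a' ha' e => h _ (mul_mem (inv_mem ha) ha') (by
    have := cjm' (hA ha) (cjm (hB (hf a ha)) e)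
    simp only [commutatorElement_def] at this ⊢
    convert this using 1; group)

end CL.J3O.Twx
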