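import Cfsg.Agent.REC.J3O.V4
import Cfsg.Agent.REC.J3O.One
import Cfsg.Agent.REC.J3O.TwoA

/-! A subgroup `A` of index two with `|Fr A| ≤ 2`.  Notation: `B = E ⊓ A`, `C = {a ∈ A | ⁅a, s⁆ ∈ ⟨z⟩}` for `s ∈ T \ A` (independent of `s`). -/

set_option autoImplicit false
set_option maxHeartbeats 200000
set_option linter.unusedSectionVars false

namespace CL.J3O

open Subgroup Cfsg
open scoped commutatorElement

variable {G : Type*} [Group G] [Finite G] {T : Sylow 2 G} {A C E : Subgroup G} {z s : G}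

/-- the configuration -/
structure Tw (T : Sylow 2 G) (A C : Subgroup G) (z : G) : Prop where
  h : Hyp T
  le : A ≤ T
  card : Nat.card A = 64
  oz : orderOf z = 2
  fr : Fr A = zpowers z
  zc : ∀ t ∈ (T : Subgroup G), t * z = z * t
  Cle : C ≤ A
  zC : z ∈ C
  memC : ∀ s ∈ (T : Subgroup G), s ∉ A → ∀ a ∈ A, a ∈ C ↔ ⁅a, s⁆ ∈ zpowers z
  im : ∀ s ∈ (T : Subgroup G), ∀ a ∈ A, ⁅a, s⁆ ∈ C
  c16 : 16 ≤ Nat.card C
  star : ∀ s ∈ (T : Subgroup G), s ∉ A → s * s ∈ zpowers z → Nat.card C = 16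
  nz : Nz (T : Subgroup G) ≤ Nz A

open Twx

/-- the first part of the configuration -/
structure Tw0 (T : Sylow 2 G) (A : Subgroup G) (z : G) : Prop where
  h : Hyp T
  le : A ≤ T
  card : Nat.card A = 64
  oz : orderOf z = 2
  fr : Fr A = zpowers z

theorem Tw.w0 (w : Tw T A C z) : Tw0 T A z := ⟨w.h, w.le, w.card, w.oz, w.fr⟩

namespace Tw0

variable (w : Tw0 T A z) {a a' t u : G}
include w

theorem cT : Nat.card (T : Subgroup G) = 128 := w.h.card
theorem zA : z ∈ A := Fr_le (w.fr ▸ mem_zpowers z)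
theorem ZA : zpowers z ≤ A := zpowers_le.2 w.zA
theorem zz : z * z = 1 := by rw [← pow_two, ← w.oz, pow_orderOf_eq_one]
theorem z1 : z ≠ 1 := fun e => by have := w.oz; simp [e] at this
theorem i2 : I2 A T := I2.of_card w.le (by rw [w.cT, w.card])
theorem nA : (T : Subgroup G) ≤ Nz A := w.i2.nz w.le
theorem sqA (ha : a ∈ A) : a * a ∈ zpowers z := w.fr ▸ sq_mem_Fr ha
theorem cmA (ha : a ∈ A) (ha' : a' ∈ A) : ⁅a, a'⁆ ∈ zpowers z := w.fr ▸ comm_mem_Fr ha ha'
theorem nZ : (T : Subgroup G) ≤ Nz (zpowers z) := w.fr ▸ w.nA.trans Nz_le_Fr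
theorem zc (ht : t ∈ (T : Subgroup G)) : t * z = z * t := by
  rcases (zp2 w.oz).1 (cjm (w.nZ ht) (mem_zpowers z)) with e | e
  · exact absurd (conj_eq_one_iff.1 e) w.z1
  · exact mul_inv_eq_iff_eq_mul.1 e
theorem Zc (ht : t ∈ (T : Subgroup G)) (hu : u ∈ zpowers z) : t * u = u * t := by
  rcases (zp2 w.oz).1 hu with rfl | rfl
  · simp
  · exact w.zc ht
theorem cZ : Nat.card (zpowers z) = 2 := by rw [Nat.card_zpowers, w.oz]

theorem fr4 (hu : u ∈ (T : Subgroup G)) (uu : u * u ∈ zpowers z)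
    (h : ∀ t ∈ (T : Subgroup G), t * t ∈ adj _ u (w.nZ hu) uu) : False := by
  have h1 := card_le_of_le (Fr_le_iff.2 h)
  have h2 := card_adj (hw := w.nZ hu) (ww := uu)
  have := w.h.one
  rw [w.cZ] at h2
  omega

/-- the preimage in `A` of the centre of `T / ⟨z⟩` -/
def CC : Subgroup G where
  carrier := {a | a ∈ A ∧ ∀ t ∈ (T : Subgroup G), ⁅a, t⁆ ∈ zpowers z}
  mul_mem' {a b} ha hb := ⟨mul_mem ha.1 hb.1, fun t ht => by
    rw [cm_l]; exact mul_mem (cjm (w.nZ (w.le ha.1)) (hb.2 t ht)) (ha.2 t ht)⟩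
  one_mem' := ⟨one_mem _, fun t _ => by simp⟩
  inv_mem' {a} ha := ⟨inv_mem ha.1, fun t ht => by
    rw [cm_il]; exact cjm' (w.nZ (w.le ha.1)) (cm_inv (ha.2 t ht))⟩

theorem mem_CC (hs : s ∈ (T : Subgroup G)) (sA : s ∉ A) (ha : a ∈ A) : a ∈ w.CC ↔ ⁅a, s⁆ ∈ zpowers z :=
  ⟨fun h => h.2 s hs, fun h => ⟨ha, fun t ht => by
    by_cases e : t ∈ A
    · exact w.cmA ha e
    · have := w.i2.div ht hs e sA
      rw [← inv_mul_cancel_right t s, cm_r]
      exact mul_mem (w.cmA ha this) (cjm (w.nZ (w.le this)) h)⟩⟩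

theorem Z_CC : zpowers z ≤ w.CC := fun u hu =>
  ⟨w.ZA hu, fun t ht => by rw [commutatorElement_eq_one_iff_mul_comm.2 (w.Zc ht hu).symm]; exact one_mem _⟩

theorem im (hs : s ∈ (T : Subgroup G)) (ha : a ∈ A) : ⁅a, s⁆ ∈ w.CC := by
  by_cases e : s ∈ A
  · exact w.Z_CC (w.cmA ha e)
  have hc := cm_mem (w.nA hs) ha
  rw [w.mem_CC hs e hc]
  have := mul_mem (w.cmA ha (w.i2.sq hs)) (cjm (w.nZ hs) (inv_mem (w.sqA hc)))
  rw [cm_r] at this
  convert this using 1
  generalize ⁅a, s⁆ = c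
  rw [commutatorElement_def]; group

theorem c16 : 16 ≤ Nat.card w.CC := by
  obtain ⟨s, hs, sA⟩ : ∃ s ∈ (T : Subgroup G), s ∉ A := SetLike.not_le_iff_exists.1 fun e => by
    have := card_le_of_le e
    rw [w.cT, w.card] at this; omega
  have le : w.CC ≤ A := fun _ h => h.1
  have h1 := rel_cm (A := A) (C := w.CC) (fun a ha => w.im hs ha) (w.le.trans w.nZ) ((le.trans w.le).trans w.nZ)
    fun a ha => (w.mem_CC hs sA ha).2
  have h2 := card_rel (X := A) (Y := w.CC)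
  have h3 := card_rel (X := w.CC) (Y := zpowers z)
  rw [inf_of_le_right le, w.card] at h2
  rw [inf_of_le_right w.Z_CC, w.cZ] at h3
  obtain ⟨k, hk, e⟩ := (Nat.dvd_prime_pow Nat.prime_two (m := 6)).1 (Dvd.intro _ h2)
  rw [e] at h2 h3 ⊢
  interval_cases k <;> omega

theorem star (hs : s ∈ (T : Subgroup G)) (sA : s ∉ A) (ss : s * s ∈ zpowers z) : Nat.card w.CC = 16 := by
  have le : w.CC ≤ A := fun _ h => h.1
  by_contra ne
  have i : I2 w.CC A := I2.of_card le (by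
    obtain ⟨k, hk, e⟩ := (Nat.dvd_prime_pow Nat.prime_two (m := 6)).1 (w.card ▸ card_dvd_of_le le)
    have := w.c16
    rw [e] at this ne ⊢
    rw [w.card]
    interval_cases k <;> omega)
  obtain ⟨a₀, h0, h1⟩ : ∃ a₀ ∈ A, ∀ a ∈ A, a ∈ w.CC ∨ a * a₀⁻¹ ∈ w.CC := by
    by_cases e : A ≤ w.CC
    · exact ⟨1, one_mem _, fun a ha => Or.inl (e ha)⟩
    · obtain ⟨a₀, h0, h1⟩ := SetLike.not_le_iff_exists.1 e
      exact ⟨a₀, h0, fun a ha => (em _).imp_right fun c => i.div ha h0 c h1⟩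
  have hc := cm_mem (w.nA hs) h0
  refine w.fr4 (w.le hc) (w.sqA hc) fun t ht => ?_
  by_cases e : t ∈ A
  · exact le_adj (w.sqA e)
  have ha := w.i2.div ht hs e sA
  rw [← inv_mul_cancel_right t s, sq_mul]
  refine mul_mem (mul_mem (le_adj (w.sqA ha)) ?_) (le_adj ss)
  rcases h1 _ (inv_mem ha) with c | c
  · exact le_adj (c.2 s hs)
  · rw [← inv_mul_cancel_right (t * s⁻¹)⁻¹ a₀, cm_l]
    refine mul_mem ?_ (le_adj (c.2 s hs))
    have := mul_mem (le_adj (hw := w.nZ (w.le hc)) (ww := w.sqA hc) (c.2 _ (w.le hc))) self_adj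
    rwa [commutatorElement_def (_ * a₀⁻¹), inv_mul_cancel_right] at this

theorem nz : Nz (T : Subgroup G) ≤ Nz A := fun g hg => by
  by_contra hn
  have le' : cj g A ≤ T := fun _ ⟨a, ha, e⟩ => e ▸ cjm hg (w.le ha)
  have i' := w.i2.cj hg
  have sq' : ∀ a ∈ cj g A, ∀ a' ∈ cj g A, g⁻¹ * ⁅a, a'⁆ * g ∈ zpowers z ∧ g⁻¹ * (a * a) * g ∈ zpowers z :=
    fun a ha a' ha' => by
      have h1 := w.cmA (mem_cj.1 ha) (mem_cj.1 ha')
      have h2 := w.sqA (mem_cj.1 ha)
      simp only [commutatorElement_def] at h1 ⊢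
      exact ⟨by convert h1 using 1; group, by convert h2 using 1; group⟩
  obtain ⟨a', h1, h2⟩ : ∃ a' ∈ cj g A, a' ∉ A := SetLike.not_le_iff_exists.1 fun e => hn (nz_of fun y hy => e (cj_mem hy))
  obtain ⟨a, h3, h4⟩ : ∃ a ∈ A, a ∉ cj g A := SetLike.not_le_iff_exists.1 fun e =>
    h2 (eq_of_le_of_card_ge e card_cj.le ▸ h1)
  by_cases e : g⁻¹ * z * g = z
  · have back : ∀ u, g⁻¹ * u * g ∈ zpowers z → u ∈ zpowers z := fun u hu => by
      rcases (zp2 w.oz).1 hu with c | c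
      · rw [show u = 1 by simpa using conj_eq_one_iff.1 (show g⁻¹ * u * g⁻¹⁻¹ = 1 by simpa using c)]; exact one_mem _
      · rw [show u = z by simpa using c.trans e.symm]; exact mem_zpowers z
    have hw := mul_mem (w.le h3) (le' h1)
    have hc := w.i2.sq hw
    refine w.fr4 (w.le hc) (w.sqA hc) fun t ht => ?_
    by_cases c : t ∈ A
    · exact le_adj (w.sqA c)
    by_cases c' : t ∈ cj g A
    · exact le_adj (back _ (sq' t c' t c').2)
    have b1 := inv_mem (w.i2.div ht hw c fun k => h2 ((mul_mem_cancel_left h3).1 k))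
    have b2 := inv_mem (i'.div ht hw c' fun k => h4 ((mul_mem_cancel_right h1).1 k))
    rw [← inv_mul_cancel_right t (a * a'), sq_mul (t * _⁻¹), cm_r]
    exact mul_mem (le_adj (mul_mem (w.sqA (inv_mem_iff.1 b1))
      (mul_mem (w.cmA b1 h3) (cjm (w.nZ (w.le h3)) (back _ (sq' _ b2 _ h1).1))))) self_adj
  · refine w.h.no32 (Q := A ⊓ cj g A) ⟨inf_le_left.trans w.le, fun t ht => nz_inf (w.nA ht) (i'.nz le' ht), fun b hb => ?_, ?_⟩
    · rcases (zp2 w.oz).1 (w.sqA hb.1) with c | c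
      · exact c
      · have := (sq' b hb.2 b hb.2).2
        rw [c] at this
        exact absurd (by simpa using conj_eq_one_iff.1 (show g⁻¹ * z * g⁻¹⁻¹ = 1 by
          simpa using ((zp2 w.oz).1 this).resolve_right e)) w.z1
    · have := (i'.mono w.le).card_eq h3 h4
      rw [w.card] at this; omega

theorem nel : ¬ El A := fun h => w.z1 (by
  have : Fr A ≤ ⊥ := Fr_le_iff.2 h
  exact this (w.fr ▸ mem_zpowers z))

end Tw0

theorem exists_tw (h : Hyp T) (le : A ≤ T) (c : Nat.card A = 64) (f : Nat.card (Fr A) ≤ 2) : ∃ C z, Tw T A C z := by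
  have i : I2 A T := I2.of_card le (by rw [c, show Nat.card (T : Subgroup G) = 128 from h.card])
  obtain ⟨a, ha, aa⟩ : ∃ a ∈ A, a * a ≠ 1 := by
    by_contra k
    push Not at k
    exact h.nc2 (c2_of_el k le i.rel)
  have hz := sq_mem_Fr ha
  have h1 : zpowers (a * a) ≤ Fr A := zpowers_le.2 hz
  have h2 : Nat.card (⊥ : Subgroup G) < Nat.card (zpowers (a * a)) := card_lt bot_le (mem_zpowers _) aa
  have h3 := card_le_of_le h1
  rw [card_bot] at h2
  have w : Tw0 T A (a * a) := ⟨h, le, c, by rw [← Nat.card_zpowers]; omega, (eq_of_le_of_card_ge h1 (by omega)).symm⟩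
  exact ⟨w.CC, _, h, le, c, w.oz, w.fr, fun t => w.zc, fun _ h => h.1, w.Z_CC (mem_zpowers _),
    fun s hs sA a ha => w.mem_CC hs sA ha, fun s hs a ha => w.im hs ha, w.c16, fun s => w.star, w.nz⟩

namespace Tw

variable (w : Tw T A C z) (hE : Bad T A E) {a c t x : G}
include w

theorem cmC (hc : c ∈ C) (ht : t ∈ (T : Subgroup G)) : ⁅c, t⁆ ∈ zpowers z := by
  by_cases e : t ∈ A
  · exact w.w0.cmA (w.Cle hc) e
  · exact (w.memC t ht e c (w.Cle hc)).1 hc

include hE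

theorem zE : z ∈ E := hE.cen z (w.le w.w0.zA) fun e he => (w.zc e (hE.lt.le he)).symm

theorem ZB : zpowers z ≤ E ⊓ A := zpowers_le.2 ⟨w.zE hE, w.w0.zA⟩

theorem ex_s : ∃ s ∈ E, s ∉ A := SetLike.not_le_iff_exists.1 fun e => by
  obtain ⟨b, hb⟩ := exists_iv T.isPGroup' hE.lt
  obtain ⟨x, hx⟩ := hE.odd b hb
  exact hx.mv (by rw [inf_of_le_left e]; exact hx.nz)

theorem top {M : Subgroup G} (h1 : A ≤ M) (h2 : E ≤ M) : (T : Subgroup G) ≤ M := fun t ht => by
  obtain ⟨s, hs, sA⟩ := w.ex_s hE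
  by_cases e : t ∈ A
  · exact h1 e
  · exact (mul_mem_cancel_right (inv_mem (h2 hs))).1 (h1 (w.w0.i2.div ht (hE.lt.le hs) e sA))

theorem nB : (T : Subgroup G) ≤ Nz (E ⊓ A) :=
  w.top hE (fun _ ha => nz_cm fun _ hy => w.ZB hE (w.w0.cmA ha hy.2))
    fun _ he => nz_inf (le_normalizer he) (w.w0.nA (hE.lt.le he))

theorem CE : C ≤ Nz E := fun _ hc => nz_cm fun _ he => (w.ZB hE (w.cmC hc (hE.lt.le he))).1

theorem iB : I2 (E ⊓ A) E := (w.w0.i2.mono hE.lt.le).inf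

theorem iv (ha : a ∈ A) (hn : a ∈ Nz E) (aE : a ∉ E) : Iv T E a := ⟨w.le ha, hn, aE, (w.ZB hE (w.w0.sqA ha)).1⟩

theorem nE (h : C ≤ E) : (T : Subgroup G) ≤ Nz E :=
  w.top hE (fun a ha => nz_cm fun e he => h (w.im e (hE.lt.le he) a ha)) le_normalizer

theorem b16 (h : El (E ⊓ A)) : Nat.card ↥(E ⊓ A) ≤ 16 := by
  obtain ⟨k, hk, e⟩ := (Nat.dvd_prime_pow Nat.prime_two (m := 6)).1 (w.card ▸ card_dvd_of_le (inf_le_right : E ⊓ A ≤ A))
  have h1 : Nat.card ↥(E ⊓ A) ≠ 32 := fun c => w.h.no32 ⟨inf_le_right.trans w.le, w.nB hE, h, c⟩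
  have h2 : Nat.card ↥(E ⊓ A) ≠ 64 := fun c =>
    w.w0.nel (eq_of_le_of_card_ge (inf_le_right : E ⊓ A ≤ A) (by rw [c, w.card]) ▸ h)
  rw [e] at h1 h2 ⊢
  interval_cases k <;> omega

theorem zfr1 (hc : c ∈ C) (cE : c ∉ E) : False := by
  have w0 := w.w0
  have le := hE.lt.le
  have iv := w.iv hE (w.Cle hc) (w.CE hE hc) cE
  have tv := hE.tv c iv (E ⊓ centralizer {c}) inf_le_left
    (relIndex_le_two (z := z) fun e he => (zp2 w.oz).1 (cm_inv (w.cmC hc (le he)))) fun h hh => by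
      rw [commutatorElement_eq_one_iff_mul_comm.2 (mem_centralizer_singleton_iff.1 hh.2)]; exact one_mem _
  obtain ⟨x, hx⟩ := hE.odd c iv
  have sE := cjm hx.nz (w.zE hE)
  have sc : ∀ e ∈ E, e * (x * z * x⁻¹) = x * z * x⁻¹ * e := fun e he => by
    have := w.zc _ (le (cjm' hx.nz he))
    calc _ = x * (x⁻¹ * e * x * z) * x⁻¹ := by group
      _ = _ := by rw [this]; group
  have sA : x * z * x⁻¹ ∉ A := fun sA => hx.mv (mem_of_sq_mem hx.odd (by
    have h1 : x * c * x⁻¹ ∈ Nz (E ⊓ A) := nz_cm fun y hy => by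
      have e : ⁅x * c * x⁻¹, y⁆ = x * ⁅c, x⁻¹ * y * x⁆ * x⁻¹ := by simp only [commutatorElement_def]; group
      rcases (zp2 w.oz).1 (w.cmC hc (le (cjm' hx.nz hy.1))) with k | k <;> rw [e, k]
      · simp
      · exact ⟨sE, sA⟩
    have := mul_mem (mul_mem h1 (inv_mem (w.nB hE iv.mem))) (w.nB hE (le hx.inv))
    convert this using 1; group))
  generalize hs : x * z * x⁻¹ = s at sE sc sA
  have ss : s * s = 1 := by rw [← hs, conj_mul, w0.zz]; simp
  have BC : E ⊓ A ≤ C := fun y hy => (w.memC s (le sE) sA y hy.2).2 (by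
    rw [commutatorElement_eq_one_iff_mul_comm.2 (sc y hy.1)]; exact one_mem _)
  have c16 := w.star s (le sE) sA (ss ▸ one_mem _)
  have i : I2 (E ⊓ A) C := I2.of_elt (w.nB hE iv.mem) (w.ZB hE (w0.sqA (w.Cle hc))) fun u hu =>
    (tv u (w.le (w.Cle hu)) (w.CE hE hu)).imp (fun k => ⟨k, w.Cle hu⟩) fun k => ⟨k, w.Cle (mul_mem hu (inv_mem hc))⟩
  have h1 := rel_cm (A := A) (C := C) (fun a ha => w.im s (le sE) a ha) (w.le.trans (w.nB hE))
    ((w.Cle.trans w.le).trans (w.nB hE)) fun a ha k => by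
      have hn : a ∈ Nz E := nz_cm fun e he => by
        by_cases eA : e ∈ A
        · exact (w.ZB hE (w0.cmA ha eA)).1
        · have b := (w.iB hE).div he sE (fun j => eA j.2) fun j => sA j.2
          rw [← inv_mul_cancel_right e s, cm_r]
          exact mul_mem (w.ZB hE (w0.cmA ha b.2)).1 (cjm (le_normalizer (show e * s⁻¹ ∈ E from b.1)) k.1)
      rcases tv a (w.le ha) hn with j | j
      · exact BC ⟨j, ha⟩
      · exact (mul_mem_cancel_right (inv_mem hc)).1 (BC (mem_inf.2 ⟨j, mul_mem ha (inv_mem (w.Cle hc))⟩))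
  have h2 := card_rel (X := A) (Y := C)
  have h3 := i.rel
  rw [inf_of_le_right w.Cle, w.card, c16] at h2
  omega

end Tw

theorem Tw.zfr (w : Tw T A C z) (hE : Bad T A E) : z ∈ Fr E := by
  by_contra hz
  have w0 := w.w0
  have le := hE.lt.le
  have triv : ∀ u ∈ zpowers z, u ∈ Fr E → u = 1 := fun u h1 h2 => ((zp2 w.oz).1 h1).resolve_right fun e => hz (e ▸ h2)
  have el : El (E ⊓ A) := fun y hy => triv _ (w0.sqA hy.2) (sq_mem_Fr hy.1)
  have CE : C ≤ E := fun c hc => by_contra fun cE => w.zfr1 hE hc cE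
  have h16 := w.b16 hE el
  have CB : C = E ⊓ A := eq_of_le_of_card_ge (le_inf CE w.Cle) (h16.trans w.c16)
  obtain ⟨s, hs, sA⟩ := w.ex_s hE
  have sq : ∀ e ∈ E, e ∉ A → e * e = s * s := fun e he eA => by
    have b := (w.iB hE).div he hs (fun j => eA j.2) fun j => sA j.2
    rw [← inv_mul_cancel_right e s, sq_mul, el _ b,
      triv _ (w.cmC (CB ▸ inv_mem b) (le hs)) (comm_mem_Fr (inv_mem b.1) hs), one_mul, one_mul]
  by_cases ss : s * s = 1
  · have := (w.iB hE).card_eq hs fun j => sA j.2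
    have h1 := w.c16
    rw [← inf_assoc, inf_idem] at this
    refine w.h.no32 (Q := E) ⟨le, w.nE hE CE, fun e he => ?_, by rw [CB] at h1; omega⟩
    by_cases eA : e ∈ A
    · exact el e ⟨he, eA⟩
    · exact (sq e he eA).trans ss
  · obtain ⟨b, hb⟩ := exists_iv T.isPGroup' hE.lt
    obtain ⟨x, hx⟩ := hE.odd b hb
    refine hx.mv (nz_of fun y hy => ⟨cjm hx.nz hy.1, by_contra fun k => ss ?_⟩)
    rw [← sq _ (cjm hx.nz hy.1) k, conj_mul, el y hy]; simp

/-- the configuration of the last case -/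
structure Tw1 (T : Sylow 2 G) (A E : Subgroup G) (z b x : G) : Prop where
  le : E ≤ T
  bA : b ∈ A
  iv : Iv T E b
  col : Col E (E ⊓ A) b x
  cE : Nat.card E = 64
  cB : Nat.card ↥(E ⊓ A) = 32
  frB : Fr (E ⊓ A) = zpowers z
  mz : x * z * x⁻¹ ≠ z

theorem Col.third {Y : Subgroup G} {b x y e : G} (h : Col E Y b x) (i : I2 Y E) (hy : y ∈ Y) (h0 : y ∉ cj x Y) (he : e ∈ E)
    (h1 : e ∉ Y) (h2 : e ∉ cj x Y) : (x⁻¹ * y * x)⁻¹ * e ∈ Y ⊓ cj x Y := by
  have i' := i.cj h.nz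
  have l := (h.line (i'.mono h.le).rel hy h0).1
  have m := mul_mem (h.le hy) (cjm h.nz (h.le hy))
  have : (y * (x * y * x⁻¹))⁻¹ * e ∈ Y ⊓ cj x Y :=
    ⟨i.div' m he (fun k => h.out hy h0 ((mul_mem_cancel_left hy).1 k)) h1,
      i'.div' m he (fun k => h0 ((mul_mem_cancel_right (cj_mem hy)).1 k)) h2⟩
  simpa [mul_assoc] using mul_mem (inv_mem l) this

theorem Col.third' {Y : Subgroup G} {b x e : G} (h : Col E Y b x) (i : I2 Y E) (he : e ∈ E) :
    e ∈ Y ∨ x⁻¹ * e * x ∈ Y ∨ x * e * x⁻¹ ∈ Y := by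
  obtain ⟨y, hy, h0⟩ := SetLike.not_le_iff_exists.1 h.ne
  refine (em _).imp_right fun h1 => (em _).imp mem_cj.1 fun h2 => ?_
  simpa [mul_assoc] using mul_mem hy (cjm h.nz0 (h.third i hy h0 he h1 h2)).1

theorem Tw.one (w : Tw T A C z) (hE : Bad T A E) : ∃ b x, Tw1 T A E z b x := by
  have w0 := w.w0
  have le := hE.lt.le
  have ZF : zpowers z ≤ Fr E := zpowers_le.2 (w.zfr hE)
  have CE : C ≤ E := fun c hc => by_contra fun cE => w.zfr1 hE hc cE
  obtain ⟨s, hs, sA⟩ := w.ex_s hE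
  have nE := w.nE hE CE
  obtain ⟨b, bA, bE⟩ : ∃ b ∈ A, b ∉ E := SetLike.not_le_iff_exists.1 fun k => hE.lt.not_ge (w.top hE k le_rfl)
  have iv := w.iv hE bA (nE (w.le bA)) bE
  have cy : ∀ y ∈ E ⊓ A, ⁅y, b⁆ ∈ Fr E := fun y hy => ZF (w0.cmA hy.2 bA)
  have i := w.iB hE
  have tv := hE.tv b iv (E ⊓ A) inf_le_left i.rel cy
  have cE := (I2.of_elt iv.nz iv.sq fun u hu => tv u hu (nE hu)).card_eq iv.mem bE
  have cB := i.card_eq hs fun j => sA j.2
  rw [inf_of_le_right le, w0.cT] at cE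
  rw [← inf_assoc, inf_idem] at cB
  obtain ⟨x, hx⟩ := hE.odd b iv
  have col : Col E (E ⊓ A) b x := ⟨hx, inf_le_left, Fr_le_iff.2 fun e he => i.sq he, iv.nz, cy,
    fun e he => cm_inv ⟨CE (w.im e (le he) b bA), w.Cle (w.im e (le he) b bA)⟩⟩
  refine ⟨b, x, le, bA, iv, col, by omega, by omega, le_antisymm (w.fr ▸ Fr_mono inf_le_right) (zpowers_le.2 ?_), fun e => ?_⟩
  · by_contra k
    have := w.b16 hE fun y hy => ((zp2 w.oz).1 (w0.sqA hy.2)).resolve_right fun j => k (j ▸ sq_mem_Fr hy)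
    omega
  · have xZ : x ∈ Nz (zpowers z) := nz_of fun u hu => by
      rcases (zp2 w.oz).1 hu with rfl | rfl
      · simp
      · rw [e]; exact mem_zpowers _
    have FZ : Fr E ≤ zpowers z := Fr_le_iff.2 fun u hu => by
      rcases col.third' i hu with k | k | k
      · exact w0.sqA k.2
      · simpa [mul_assoc] using cjm xZ (w0.sqA k.2)
      · simpa [mul_assoc] using cjm' xZ (w0.sqA k.2)
    have h1 := card_le_of_le (show E ⊓ A ≤ C from fun y hy =>
      (w.memC s (le hs) sA y hy.2).2 (FZ (comm_mem_Fr hy.1 hs)))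
    have := w.star s (le hs) sA (FZ (sq_mem_Fr hs))
    omega

theorem Tw1.false (w : Tw T A C z) {b x : G} (v : Tw1 T A E z b x) : False := by
  have w0 := w.w0
  have col := v.col
  have xE := col.nz
  have i : I2 (E ⊓ A) E := (w0.i2.mono v.le).inf
  have i' := i.cj xE
  have iE : I2 E T := I2.of_card v.le (by rw [w0.cT, v.cE])
  have zF : z ∈ Fr E := Fr_mono inf_le_left (v.frB ▸ mem_zpowers z)
  have xF := Nz_le_Fr xE
  have cc : ∀ g ∈ Nz E, ∀ e ∈ E, e * (g * z * g⁻¹) = g * z * g⁻¹ * e := fun g hg e he => by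
    have := w.zc _ (v.le (cjm' hg he))
    calc _ = g * (g⁻¹ * e * g * z) * g⁻¹ := by group
      _ = _ := by rw [this]; group
  have c1 := cc x xE
  have c2 := cc _ (inv_mem xE)
  rw [inv_inv] at c2
  have s1 : x * z * x⁻¹ * (x * z * x⁻¹) = 1 := by rw [conj_mul, w0.zz]; simp
  have s2 : x⁻¹ * z * x * (x⁻¹ * z * x) = 1 := by simp [mul_assoc, ← mul_assoc z z, w0.zz]
  have n12 : x⁻¹ * z * x ≠ x * z * x⁻¹ := fun e => v.mz (by
    have : x ∈ centralizer {z} := mem_of_sq_mem col.odd (mem_centralizer_singleton_iff.2 (by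
      calc x * x * z = x * x * (x * (x⁻¹ * z * x) * x⁻¹) := by group
        _ = x * x * x * (x⁻¹ * z * x) * x⁻¹ := by group
        _ = x * (x * z * x⁻¹) * x := by group
        _ = z * (x * x) := by rw [← e]; group))
    rw [mem_centralizer_singleton_iff.1 this, mul_inv_cancel_right])
  have sqE : ∀ e ∈ E, e * e = 1 ∨ e * e = z ∨ e * e = x * z * x⁻¹ ∨ e * e = x⁻¹ * z * x := fun e he => by
    rcases col.third' i he with k | k | k <;> rcases (zp2 w.oz).1 (w0.sqA k.2) with j | j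
    · exact Or.inl j
    · exact Or.inr (Or.inl j)
    · exact Or.inl (by simpa [mul_assoc] using congrArg (fun a => x * a * x⁻¹) j)
    · exact Or.inr (Or.inr (Or.inl (by rw [← j]; group)))
    · exact Or.inl (by simpa [mul_assoc] using congrArg (fun a => x⁻¹ * a * x) j)
    · exact Or.inr (Or.inr (Or.inr (by rw [← j]; group)))
  have Fc : ∀ u ∈ Fr E, ∀ e ∈ E, e * u = u * e := fun u hu => (Fr_le_iff (Y := centralizer (E : Set G))).2 (fun e he f hf => by
    rcases sqE e he with k | k | k | k <;> rw [k]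
    · simp
    · exact w.zc f (v.le hf)
    · exact c1 f hf
    · exact c2 f hf) hu
  have el : El ((E ⊓ A) ⊓ cj x (E ⊓ A)) := fun d hd => by
    refine ((zp2 w.oz).1 (w0.sqA hd.1.2)).resolve_right fun k => ?_
    rcases (zp2 w.oz).1 (w0.sqA (mem_cj.1 hd.2).2) with j | j
    · have : d * d = 1 := by simpa [mul_assoc] using congrArg (fun a => x * a * x⁻¹) j
      exact w0.z1 (k.symm.trans this)
    · exact v.mz ((congrArg (fun a => x * a * x⁻¹) j).symm.trans (by rw [← k]; group))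
  obtain ⟨y, hy, yy⟩ : ∃ y ∈ E ⊓ A, y * y = z := by
    by_contra k
    push Not at k
    have : Fr (E ⊓ A) ≤ ⊥ := Fr_le_iff.2 fun y hy => ((zp2 w.oz).1 (w0.sqA hy.2)).resolve_right (k y hy)
    exact w0.z1 (this (v.frB ▸ mem_zpowers z))
  have y0 : y ∉ cj x (E ⊓ A) := fun k => w0.z1 (yy.symm.trans (el y ⟨hy, k⟩))
  have c16 := (i'.mono col.le).card_eq hy y0
  obtain ⟨l1, -, l3⟩ := col.line (i'.mono col.le).rel hy y0
  have t1 := cj_mem (x := x) hy
  have t2 := col.out hy y0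
  have tE := cjm xE hy.1
  have t'E := cjm' xE hy.1
  have bz : b * (x * z * x⁻¹) * b⁻¹ = x⁻¹ * z * x := by
    have := sq_mul (x⁻¹ * y * x) ((x⁻¹ * y * x)⁻¹ * (b * (x * y * x⁻¹) * b⁻¹))
    rw [commutatorElement_eq_one_iff_mul_comm.2 (Fc _ l3 _ (inv_mem t'E)), el _ (col.fr_le l3), mul_inv_cancel_left,
      conj_mul, conj_mul, yy] at this
    rw [this, ← yy]; group
  set B := (E ⊓ A) ⊓ cj x (E ⊓ A) with hB
  have ct : ∀ d ∈ B, ⁅d, x * y * x⁻¹⁆ = x * ⁅d, y⁆ * x⁻¹ ∧ ⁅d, x⁻¹ * y * x⁆ = x⁻¹ * ⁅d, y⁆ * x := fun d hd => by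
    have f := col.fix hd
    have f' := cjm' xF (cm_inv f)
    have k : ∀ u ∈ Fr E, ⁅u * d, y⁆ = ⁅d, y⁆ := fun u hu => by
      rw [cm_l, commutatorElement_eq_one_iff_mul_comm.2 (Fc u hu y hy.1).symm, mul_one,
        ← Fc u hu _ (Fr_le (comm_mem_Fr hd.1.1 hy.1)), mul_inv_cancel_right]
    constructor
    · rw [← k _ f']; simp only [commutatorElement_def]; group
    · rw [← k _ f]; simp only [commutatorElement_def]; group
  -- the squares of `T`
  have tb1 : x * y * x⁻¹ * b ∉ A := fun k => t2 ⟨tE, (mul_mem_cancel_right v.bA).1 k⟩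
  have tb2 : x * y * x⁻¹ * b ∉ E := fun k => v.iv.nm ((mul_mem_cancel_left tE).1 k)
  have tbT := mul_mem (v.le tE) v.iv.mem
  have y1E := iE.sq tbT
  have ZF : zpowers z ≤ Fr E := zpowers_le.2 zF
  have y1 : x * y * x⁻¹ * b * (x * y * x⁻¹ * b) ∉ cj x (E ⊓ A) := fun k => by
    rw [sq_mul, mul_mem_cancel_right (mem_inf.1 (col.fr_le (ZF (w0.sqA v.bA)))).2, mul_mem_cancel_left (mul_mem t1 t1)] at k
    exact col.comm (inv_mem t1) (mt inv_mem_iff.1 t2) k
  have FT : Fr (T : Subgroup G) ≤ adj (Fr E) _ (Nz_le_Fr (le_normalizer y1E)) (sq_mem_Fr y1E) := Fr_le_iff.2 fun u hu => by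
    by_cases k : u ∈ A
    · exact le_adj (ZF (w0.sqA k))
    by_cases k' : u ∈ E
    · exact le_adj (sq_mem_Fr k')
    have b1 := w0.i2.div hu tbT k tb1
    have b2 := iE.div hu tbT k' tb2
    rw [← inv_mul_cancel_right u (x * y * x⁻¹ * b), sq_mul (u * _⁻¹), cm_r]
    exact mul_mem (le_adj (mul_mem (sq_mem_Fr b2) (mul_mem (comm_mem_Fr (inv_mem b2) tE)
      (cjm (Nz_le_Fr (le_normalizer tE)) (col.cy _ (inv_mem ⟨b2, b1⟩)))))) self_adj
  -- the central elements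
  have Z0 : B ⊓ centralizer {y} ⊓ centralizer {b} ≤ Fr E := fun d hd => by
    have dy := mem_centralizer_singleton_iff.1 hd.1.2
    have db := mem_centralizer_singleton_iff.1 hd.2
    have hd := hd.1.1
    have dt := (ct d hd).1
    rw [commutatorElement_eq_one_iff_mul_comm.2 dy, mul_one, mul_inv_cancel, commutatorElement_eq_one_iff_mul_comm] at dt
    have m : ∀ {a : G}, d * a = a * d → a ∈ centralizer {d} := fun h => mem_centralizer_singleton_iff.2 h.symm
    have kY : ∀ e ∈ E ⊓ A, e ∈ centralizer {d} := fun e he => by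
      by_cases k : e ∈ cj x (E ⊓ A)
      · exact m (el.comm hd ⟨he, k⟩)
      · exact (mul_mem_cancel_right (inv_mem (m dy))).1
          (m (el.comm hd (mem_inf.2 ⟨mul_mem he (inv_mem hy), i'.div he.1 hy.1 k y0⟩)))
    have kE : ∀ e ∈ E, e ∈ centralizer {d} := fun e he => by
      by_cases k : e ∈ E ⊓ A
      · exact kY e k
      · exact (mul_mem_cancel_right (inv_mem (m dt))).1 (kY _ (i.div he tE k t2))
    have kT : ∀ e ∈ (T : Subgroup G), e * d = d * e := fun e he => mem_centralizer_singleton_iff.1 (by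
      by_cases k : e ∈ E
      · exact kE e k
      · exact (mul_mem_cancel_right (inv_mem (m db))).1 (kE _ (iE.div he v.iv.mem k v.iv.nm)))
    refine (FT (w.h.df d (v.le hd.1.1) (el d hd) kT)).resolve_right fun k => y1 ?_
    simpa using mul_mem (inv_mem (mem_inf.1 (col.fr_le k)).2) (mem_inf.1 hd).2
  have lt := card_lt Z0 (cjm xF zF) fun k => n12 (by
    rw [← bz, ← mem_centralizer_singleton_iff.1 k.2, mul_inv_cancel_right])
  have r1 := (I2.of_rel (relIndex_le_two (A := B ⊓ centralizer {y}) (s := b) (z := z)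
    fun a ha => (zp2 w.oz).1 (w0.cmA ha.1.1.2 v.bA))).card_le
  have r2 := (I2.of_rel (relIndex_le_two (A := B) (s := y) (z := z)
    fun a ha => (zp2 w.oz).1 (w0.cmA ha.1.2 hy.2))).card_le
  rw [← inf_assoc, inf_idem] at r1 r2
  have n1 : x * z * x⁻¹ ∈ Nz (zpowers z) := w0.nZ (v.le (Fr_le (cjm xF zF)))
  have a1 := card_adj (hw := n1) (ww := s1 ▸ one_mem _)
  have cB := v.cB
  rw [w0.cZ] at a1
  by_cases e : x⁻¹ * z * x = z * (x * z * x⁻¹)
  · have := card_le_of_le (show Fr E ≤ adj _ _ n1 (s1 ▸ one_mem _) from Fr_le_iff.2 fun u hu => by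
      rcases sqE u hu with k | k | k | k <;> rw [k]
      · exact one_mem _
      · exact le_adj (mem_zpowers z)
      · exact self_adj
      · rw [e]; exact mul_mem (le_adj (mem_zpowers z)) self_adj)
    omega
  · have K : B ⊓ centralizer {y} = B := inf_of_le_left fun d hd => mem_centralizer_singleton_iff.2 (by
      refine commutatorElement_eq_one_iff_mul_comm.1 (((zp2 w.oz).1 (w0.cmA hd.1.2 hy.2)).resolve_right fun k => e ?_)
      have h1 := cm_r d (y * (x * y * x⁻¹)) ((y * (x * y * x⁻¹))⁻¹ * (x⁻¹ * y * x))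
      rw [mul_inv_cancel_left, commutatorElement_eq_one_iff_mul_comm.2 (el.comm hd l1), (ct d hd).2, cm_r, (ct d hd).1, k,
        c1 y hy.1] at h1
      rw [h1]; group)
    have n2 : x⁻¹ * z * x ∈ Nz (adj _ _ n1 (s1 ▸ one_mem _)) := nz_of fun u hu => by
      rw [← c2 u ?_, mul_inv_cancel_right]
      · exact hu
      · rcases hu with k | k
        · exact Fr_le (ZF k)
        · exact (mul_mem_cancel_right (inv_mem (Fr_le (cjm xF zF)))).1 (Fr_le (ZF k))
    have a2 := card_adj (hw := n2) (ww := by rw [s2]; exact one_mem _)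
    have := card_le_of_le (show Fr E ≤ adj _ _ n2 (by rw [s2]; exact one_mem _) from Fr_le_iff.2 fun u hu => by
      rcases sqE u hu with k | k | k | k <;> rw [k]
      · exact one_mem _
      · exact le_adj (le_adj (mem_zpowers z))
      · exact le_adj self_adj
      · exact self_adj)
    rw [K] at r1 lt
    omega

theorem Tw.c2 (w : Tw T A C z) : A ≠ ⊥ ∧ C2 A :=
  ⟨fun e => w.w0.z1 (mem_bot.1 (e ▸ w.w0.zA)), fun _ ha _ hb _ hc => w.w0.Zc (w.le hc) (w.w0.cmA ha hb)⟩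

theorem Hyp.two (h : Hyp T) (le : A ≤ T) (c : Nat.card A = 64) (f : Nat.card (Fr A) ≤ 2) : False := by
  obtain ⟨C, z, w⟩ := exists_tw h le c f
  obtain ⟨E, hE⟩ := h.bad le w.nz w.c2.1 w.c2.2
  obtain ⟨b, x, v⟩ := w.one hE
  exact v.false w

end CL.J3O
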