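import Cfsg.Agent.REC.J3O.Z4
import Cfsg.Agent.REC.J3O.DFc

/-! There is no normal elementary subgroup of order 32.  Notation: `Y = E ⊓ Q`, `Y₀ = Y ⊓ x Y x⁻¹`, `Z = C_Q(T) ≤ Y`, `Nᵢ q = ⁅q, tᵢ⁆`; the `Nᵢ` are commuting
endomorphisms of `Q` of square zero (`z4`). -/

set_option autoImplicit false
set_option linter.unusedSectionVars false

namespace CL.J3O

open Subgroup Cfsg
open scoped commutatorElement

variable {G : Type*} [Group G] [Finite G] {T : Sylow 2 G} {Q E : Subgroup G} {b x : G}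

namespace V4x

open CL.MSS

variable {A B S H : Subgroup G} {a c s t : G}

theorem mul_of2 (h : A.relIndex B ≤ 2) (hs : s ∈ B) (ht : t ∈ B) (s1 : s ∉ A) (t1 : t ∉ A) :
    t * s ∈ A := by
  have h0 : A.relIndex B ≠ 0 := index_ne_zero_of_finite
  have h1 : A.relIndex B ≠ 1 := fun e => s1 (relIndex_eq_one.1 e hs)
  exact (mul_mem_iff_of_index_two (H := A.subgroupOf B) (by change A.relIndex B = 2; omega)
    (a := ⟨t, ht⟩) (b := ⟨s, hs⟩)).2 (iff_of_false t1 s1)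

theorem le_of2 (h : A.relIndex B ≤ 2) (hA : B ⊓ A ≤ S) (hs : s ∈ B) (hs' : s ∈ S) (s1 : s ∉ A) :
    B ≤ S := fun u hu => by
  by_cases e : u ∈ A
  · exact hA ⟨hu, e⟩
  · exact (mul_mem_cancel_right hs').1 (hA ⟨mul_mem hu hs, mul_of2 h hs hu s1 e⟩)

theorem le2_of (hs : s ∈ B) (h : ∀ u ∈ B, u ∈ A ∨ u * s ∈ A) : A.relIndex B ≤ 2 :=
  Nat.le_of_dvd two_pos (relIndex_dvd_two_iff.2 ⟨s, hs, fun u hu => (h u hu).symm⟩)

theorem third (h : ¬ A.relIndex B ≤ 2) (hs : s ∈ B) : ∃ t ∈ B, t ∉ A ∧ t * s ∉ A := by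
  by_contra! e
  exact h (le2_of hs fun u hu => or_iff_not_imp_left.2 (e u hu))

theorem rel_mul (hA : B ⊓ A ≤ H) (hH : H ≤ B) : A.relIndex H * H.relIndex B = A.relIndex B := by
  rw [← inf_relIndex_left B A, ← relIndex_mul_relIndex _ _ _ hA hH, ← inf_relIndex_left H (B ⊓ A),
    ← inf_assoc, inf_eq_left.2 hH, inf_relIndex_left]

theorem le2_of4 (h : A.relIndex B = 4) (hA : B ⊓ A ≤ H) (hH : H ≤ B) (hs : s ∈ H) (s1 : s ∉ A) :
    H.relIndex B ≤ 2 := by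
  have h1 := rel_mul hA hH
  have h0 : A.relIndex H ≠ 0 := index_ne_zero_of_finite
  have h2 : A.relIndex H ≠ 1 := fun e => s1 (relIndex_eq_one.1 e hs)
  have : 2 ≤ A.relIndex H := by omega
  nlinarith

theorem le_of4 (h : A.relIndex B = 4) (hA : B ⊓ A ≤ S) (hs : s ∈ B) (ht : t ∈ B) (hs' : s ∈ S)
    (ht' : t ∈ S) (s1 : s ∉ A) (t1 : t ∉ A) (ts : t * s ∉ A) : B ≤ S := by
  have h1 := rel_mul (H := B ⊓ S) (le_inf inf_le_left hA) inf_le_left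
  have h2 : ¬ A.relIndex (B ⊓ S) ≤ 2 := fun e => ts (mul_of2 e ⟨hs, hs'⟩ ⟨ht, ht'⟩ s1 t1)
  have h0 : (B ⊓ S).relIndex B ≠ 0 := index_ne_zero_of_finite
  refine (relIndex_eq_one.1 (by_contra fun e => ?_ : (B ⊓ S).relIndex B = 1)).trans inf_le_right
  have : 2 ≤ (B ⊓ S).relIndex B := by omega
  nlinarith

theorem card_rel (A B : Subgroup G) : Nat.card ↥(B ⊓ A) * A.relIndex B = Nat.card B := by
  rw [← (A.subgroupOf B).card_mul_index, ← Nat.card_congr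
    (subgroupOfEquivOfLe (inf_le_left (a := B) (b := A))).toEquiv, inf_subgroupOf_left]
  rfl

theorem card_zp (h : s * s = 1) (hs : s ∈ Nz A) : Nat.card ↥(A ⊔ zpowers s) ≤ Nat.card A * 2 := by
  rw [← card_rel A, inf_eq_right.2 le_sup_left]
  refine Nat.mul_le_mul_left _ (le2_of (mem_sup_right (mem_zpowers s)) fun u hu => ?_)
  obtain ⟨y, hy, _, ⟨n, rfl⟩, rfl⟩ := (mem_sup_of_normalizes_left (zpowers_le.2 hs)).1 hu
  obtain ⟨m, rfl | rfl⟩ := Int.even_or_odd' n <;> simp [zpow_mul, zpow_add, sq, h, hy, mul_assoc]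

theorem mC : a ∈ centralizer {t} ↔ ⁅a, t⁆ = 1 := by
  rw [mem_centralizer_singleton_iff, commutatorElement_eq_one_iff_mul_comm]

theorem mC' : t ∈ centralizer {a} ↔ ⁅a, t⁆ = 1 := by
  rw [mem_centralizer_singleton_iff, commutatorElement_eq_one_iff_mul_comm, eq_comm]

theorem el_inv (h : El A) (ha : a ∈ A) : a⁻¹ = a := inv_eq_of_mul_eq_one_left (h a ha)

theorem el_cj (h : El A) (g : G) : El (cj g A) := by
  rintro _ ⟨y, hy, rfl⟩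
  rw [← map_mul, h y hy, map_one]

theorem nz_of (h : B ≤ B.comap (MulAut.conj a).toMonoidHom) : a ∈ Nz B :=
  mem_normalizer_of_cj_le (map_le_iff_le_comap.2 h)

theorem mem_cm (h : ⁅a, t⁆ ∈ B) (ht : t ∈ B) : t ∈ B.comap (MulAut.conj a).toMonoidHom := by
  simpa [commutatorElement_def, mul_assoc] using mul_mem h ht

variable (q : NE32 T Q)
include q

theorem cQ (ha : a ∈ Q) (ht : t ∈ (T : Subgroup G)) : ⁅a, t⁆ ∈ Q := by
  simpa [commutatorElement_def, mul_assoc] using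
    mul_mem ha (conj_mem_of_normalizes q.nm ht (inv_mem ha))

theorem n1 (ha : a ∈ Q) (hc : c ∈ Q) : ⁅a, c⁆ = 1 :=
  commutatorElement_eq_one_iff_mul_comm.2 (q.el.comm ha hc)

theorem nmul (ha : a ∈ Q) (hc : c ∈ Q) (ht : t ∈ (T : Subgroup G)) :
    ⁅a * c, t⁆ = ⁅a, t⁆ * ⁅c, t⁆ := by
  rw [show ⁅a * c, t⁆ = a * ⁅c, t⁆ * a⁻¹ * ⁅a, t⁆ by simp only [commutatorElement_def]; group,
    q.el.comm ha (cQ q hc ht), mul_inv_cancel_right, q.el.comm (cQ q hc ht) (cQ q ha ht)]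

theorem nst (ha : a ∈ Q) (ht : t ∈ (T : Subgroup G)) (s : G) :
    ⁅a, s * t⁆ = ⁅a, s⁆ * (⁅a, t⁆ * ⁅⁅a, t⁆, s⁆) := by
  have := cQ q ha ht
  rw [commutatorElement_def ⁅a, t⁆, el_inv q.el this, ← mul_assoc ⁅a, t⁆, ← mul_assoc ⁅a, t⁆,
    ← mul_assoc ⁅a, t⁆, q.el _ this]
  simp only [commutatorElement_def]; group

theorem nQ (ha : a ∈ Q) (hc : c ∈ Q) (ht : t ∈ (T : Subgroup G)) : ⁅a, c * t⁆ = ⁅a, t⁆ := by
  rw [nst q ha ht, n1 q ha hc, n1 q (cQ q ha ht) hc, one_mul, mul_one]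

theorem sym (ha : a ∈ Q) (ht : t ∈ (T : Subgroup G)) : ⁅t, a⁆ = ⁅a, t⁆ := by
  rw [← commutatorElement_inv, el_inv q.el (cQ q ha ht)]

variable (h : Hyp T)
include h

theorem nn (ha : a ∈ Q) (ht : t ∈ (T : Subgroup G)) : ⁅⁅a, t⁆, t⁆ = 1 := by
  have := nst q ha ht t
  rw [n1 q ha (h.z4 q t ht), ← mul_assoc, q.el _ (cQ q ha ht), one_mul] at this
  exact this.symm

theorem ncomm (ha : a ∈ Q) (hs : s ∈ (T : Subgroup G)) (ht : t ∈ (T : Subgroup G)) :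
    ⁅⁅a, s⁆, t⁆ = ⁅⁅a, t⁆, s⁆ := by
  have := nQ q ha (Fr_le_iff.2 (h.z4 q) (comm_mem_Fr hs ht)) (mul_mem ht hs)
  rw [show ⁅s, t⁆ * (t * s) = s * t by simp only [commutatorElement_def]; group, nst q ha ht,
    nst q ha hs, ← mul_assoc, ← mul_assoc, q.el.comm (cQ q ha hs) (cQ q ha ht)] at this
  exact (mul_left_cancel this).symm

theorem relT : Q.relIndex T = 4 := by
  have := card_rel Q T
  rw [inf_eq_right.2 q.le, q.card, show Nat.card (T : Subgroup G) = 128 from h.card] at this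
  omega

theorem rel4 (hB : B ≤ T) (h2 : ¬ Q.relIndex B ≤ 2) : Q.relIndex B = 4 := by
  have h1 := relIndex_le_of_le_right (H := Q) hB index_ne_zero_of_finite
  have h3 : Q.relIndex B ∣ 128 := (relIndex_dvd_card Q B).trans (h.card ▸ card_dvd_of_le hB)
  rw [relT q h] at h1
  have : Q.relIndex B ≠ 3 := fun e => by rw [e] at h3; omega
  omega

theorem cenT (hs : s ∈ (T : Subgroup G)) (ht : t ∈ (T : Subgroup G)) (s1 : s ∉ Q) (t1 : t ∉ Q)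
    (ts : t * s ∉ Q) (ha : a ∈ Q) (h1 : ⁅a, s⁆ = 1) (h2 : ⁅a, t⁆ = 1) :
    ∀ u ∈ (T : Subgroup G), u * a = a * u := fun _ hu => mem_centralizer_singleton_iff.1
  (le_of4 (relT q h) (fun _ hc => mC'.2 (n1 q ha hc.2)) hs ht (mC'.2 h1) (mC'.2 h2) s1 t1 ts hu)

end V4x

open V4x CL.MSS

/-- the configuration -/
structure V4 (T : Sylow 2 G) (Q E : Subgroup G) (b x : G) : Prop where
  h : Hyp T
  q : NE32 T Q
  bad : Bad T Q E
  bQ : b ∈ Q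
  iv : Iv T E b
  col : Col E (E ⊓ Q) b x

/-- `N(T) ≤ N(Q)` by `uq`.  `Q ≰ E`: otherwise `x Q x⁻¹ ≤ E` equals `Q` by `uq`.  `exists_iv_of_el`. -/
theorem exists_v4 (h : Hyp T) (q : NE32 T Q) : ∃ E b x, V4 T Q E b x := by
  obtain ⟨E, hE⟩ := h.bad q.le (fun g hg => mem_normalizer_iff_cj.2 (h.uq q
    (cj_le_of_mem_normalizer q.le hg) (el_cj q.el g) ((card_cj g Q).trans q.card)))
    (fun e => by simpa [e] using q.card) fun a ha c hc d _ => by rw [n1 q ha hc, mul_one, one_mul]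
  obtain ⟨b, hb, iv⟩ := exists_iv_of_el T.2 hE.lt.le q.le q.nm q.el fun e => by
    obtain ⟨b, iv⟩ := exists_iv T.2 hE.lt
    obtain ⟨x, m⟩ := hE.odd b iv
    refine m.mv ?_
    rw [inf_eq_right.2 e]
    exact mem_normalizer_iff_cj.2 (h.uq q ((cj_le_of_mem_normalizer e m.nz).trans hE.lt.le)
      (el_cj q.el x) ((card_cj x Q).trans q.card))
  obtain ⟨x, m⟩ := hE.odd b iv
  refine ⟨E, b, x, h, q, hE, hb, iv, m, inf_le_left,
    Fr_le_iff.2 fun e he => ⟨mul_mem he he, h.z4 q e (hE.lt.le he)⟩, iv.nz,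
    fun y hy => n1 q hy.2 hb ▸ one_mem _, fun e he => ⟨?_, ?_⟩⟩
  · simpa [commutatorElement_def, mul_assoc] using
      mul_mem he ((mem_normalizer_iff.1 iv.nz _).1 (inv_mem he))
  · exact sym q hb (hE.lt.le he) ▸ cQ q hb (hE.lt.le he)

theorem V4.ZY (v : V4 T Q E b x) : Q ⊓ centralizer ((T : Subgroup G) : Set G) ≤ E ⊓ Q := fun a ha =>
  ⟨v.bad.cen a (v.q.le ha.1) fun e he => (ha.2 e (v.bad.lt.le he)).symm, ha.1⟩

/-- Step A.  `T = E Q`, `E = Y ⟨t₁, t₂⟩`, `Y = Z` (`c4`).  `|ker Nᵢ| ≥ 8`; take `bᵢ ∈ ker Nᵢ \ Y`.  `N₂ b₁ ∈ ker N₁ ⊓ ker N₂ = Z`, so `b₁` normalizes `E` and centralizes `Y ⟨t₁⟩` (index two);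
`b₂` normalizes `E`; `tv` gives `b₂ b₁⁻¹ ∈ E ⊓ Q = Z`, so `b₂ ∈ ker N₁ ⊓ ker N₂ = Z`. -/
theorem V4.sA (v : V4 T Q E b x) (h4 : Q.relIndex E = 4) : Nat.card ↥(E ⊓ Q) ≠ 4 := fun hY => by
  have q := v.q
  have h := v.h
  have ET := v.bad.lt.le
  obtain ⟨s, hs, sQ⟩ := SetLike.not_le_iff_exists.1 fun e : E ≤ Q => by
    rw [relIndex_eq_one.2 e] at h4; omega
  obtain ⟨t, ht, tQ, ts⟩ := third (A := Q) (by omega) hs
  have YZ := eq_of_le_of_card_ge v.ZY (hY ▸ h.c4 q)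
  have kZ : ∀ a ∈ Q, ⁅a, s⁆ = 1 → ⁅a, t⁆ = 1 → a ∈ E := fun a ha h1 h2 =>
    (v.ZY ⟨ha, cenT q h (ET hs) (ET ht) sQ tQ ts ha h1 h2⟩).1
  have ex : ∀ u ∈ E, ∃ a ∈ Q ⊓ centralizer {u}, a ∉ E := fun u hu => SetLike.not_le_iff_exists.1 fun e => by
    have h1 := card_le_sq q.el (q.nm (ET hu)) fun a ha => q.el.comm (h.z4 q u (ET hu)) ha
    have h2 := card_le_of_le (le_inf e inf_le_left)
    rw [q.card] at h1
    nlinarith
  have nz : ∀ a ∈ Q, ⁅a, s⁆ ∈ E → ⁅a, t⁆ ∈ E → a ∈ Nz E := fun a ha h1 h2 => nz_of (le_of4 h4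
    (fun u hu => mem_cm (n1 q ha hu.2 ▸ one_mem _) hu.1) hs ht (mem_cm h1 hs) (mem_cm h2 ht) sQ tQ ts)
  obtain ⟨a, ⟨ha, as⟩, aE⟩ := ex s hs
  obtain ⟨c, ⟨hc, ct⟩, cE⟩ := ex t ht
  replace as := mC.1 as
  replace ct := mC.1 ct
  rcases v.bad.tv a ⟨q.le ha, nz a ha (as ▸ one_mem _) (kZ _ (cQ q ha (ET ht))
    (by rw [ncomm q h ha (ET ht) (ET hs), as, commutatorElement_one_left]) (nn q h ha (ET ht))), aE,
    q.el a ha ▸ one_mem _⟩ (E ⊓ centralizer {a}) inf_le_left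
    (le2_of4 h4 (fun u hu => ⟨hu.1, mC'.2 (n1 q ha hu.2)⟩) inf_le_left ⟨hs, mC'.2 as⟩ sQ)
    (fun u hu => mC.1 hu.2 ▸ one_mem _) c (q.le hc) (nz c hc (kZ _ (cQ q hc (ET hs))
      (nn q h hc (ET hs)) (by rw [ncomm q h hc (ET hs) (ET ht), ct, commutatorElement_one_left]))
      (ct ▸ one_mem _)) with e | e
  · exact cE e
  · have := (YZ.ge ⟨e, Q.mul_mem hc (Q.inv_mem ha)⟩).2 s (ET hs)
    exact cE (kZ c hc (mC.1 ((mul_mem_cancel_right (inv_mem (mC.2 as : a ∈ centralizer {s}))).1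
      (mem_centralizer_singleton_iff.2 this.symm))) ct)

/-- Step B.  Suppose `|Y : Y₀| ≤ 2`; `y ∈ Y \ Y₀`, `t = x y x⁻¹` is an involution outside `Q` centralizing `Y₀`; by `Col.line` the involution `x⁻¹ y x` lies in `y t Y₀`, so `t` commutes with `y`:
`Y ≤ C_Q(t)`, of order eight (`c8`).
* `|E : Y| = 2`: `E = Y ⟨t⟩` is abelian, `C_Q(t) ≤ Y` (`cen`), `⁅Q, t⁆ ≤ C_Q(t) = Y`, so `Q ≤ N(E)`, and `tv` (`H = Y`) gives `|Q : Y| ≤ 2`; but `|Q : Y| = 4`.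
* `|E : Y| = 4`: `|Y| = 8` (`c4`, `sA`), `Y = ker N₂` (`t₂ = t`).  `y₁ = N₂ b ∉ Y₀` (`Col.comm`), `N₁ y₁ = N₂ N₁ b = 0`.  If `N₁ N₂ ≠ 0`, then `im N₂` (order four) meets `ker N₁` in
`⟨w⟩ = N₁ (im N₂) ≤ Fr E ≤ Y₀`, so `y₁ ∈ Y₀`.  So `N₁ N₂ = 0`.  `c = ⁅t₁, t₂⁆ ∈ Y` commutes with `t₂`, and with `t₁` as `t₁² ∈ Y` commutes with `t₂`.  `c2_of_gen` for `Q ∪ {t₁, t₂}`. -/
theorem V4.sB (v : V4 T Q E b x) : ¬ (cj x (E ⊓ Q)).relIndex (E ⊓ Q) ≤ 2 := fun h2 => by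
  have q := v.q
  have h := v.h
  have ET := v.bad.lt.le
  have eY : El (E ⊓ Q) := fun a ha => q.el a ha.2
  have eX := el_cj eY x
  obtain ⟨y, hy, y0⟩ := SetLike.not_le_iff_exists.1 v.col.ne
  have tY := v.col.out hy y0
  have l := (v.col.line h2 hy y0).1
  have tX : x * y * x⁻¹ ∈ cj x (E ⊓ Q) := conj_mem_cj hy
  have yy : x⁻¹ * y * x * (x⁻¹ * y * x) = 1 := by
    rw [show x⁻¹ * y * x * (x⁻¹ * y * x) = x⁻¹ * (y * y) * x by group, eY y hy]; simp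
  generalize x * y * x⁻¹ = t at tY l tX
  have ht : t ∈ E := cj_le_of_mem_normalizer inf_le_left v.col.nz tX
  have tQ : t ∉ Q := fun e => tY ⟨ht, e⟩
  have yt : y * t = t * y := by
    obtain ⟨u, hu, e⟩ : ∃ u ∈ E ⊓ Q ⊓ cj x (E ⊓ Q), x⁻¹ * y * x = y * t * u := ⟨_, l, by group⟩
    rw [e, show y * t * u * (y * t * u) = y * t * (u * y) * t * u by group, eY.comm hu.1 hy,
      show y * t * (y * u) * t * u = y * t * y * (u * t) * u by group, eX.comm hu.2 tX,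
      show y * t * y * (t * u) * u = y * t * (y * t) * (u * u) by group, eY u hu.1, mul_one] at yy
    rw [← inv_eq_of_mul_eq_one_left yy, mul_inv_rev, el_inv eY hy, el_inv eX tX]
  have YK : E ⊓ Q ≤ Q ⊓ centralizer {t} := le_inf inf_le_right (le_of2 h2
    (fun u hu => mem_centralizer_singleton_iff.2 (eX.comm hu.2 tX)) hy
    (mem_centralizer_singleton_iff.2 yt) y0)
  have c8 := h.c8 q (ET ht) tQ (eX t tX)
  by_cases h4 : Q.relIndex E ≤ 2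
  · have KY : ∀ a ∈ Q, ⁅a, t⁆ = 1 → a ∈ E := fun a ha e => v.bad.cen a (q.le ha) fun u hu =>
      (mem_centralizer_singleton_iff.1 (le_of2 h4 (fun _ hc => mC'.2 (n1 q ha hc.2)) ht (mC'.2 e) tQ
        hu)).symm
    have h5 := le2_of (A := E) (inv_mem v.bQ) fun c hc => v.bad.tv b v.iv (E ⊓ Q) inf_le_left
      (by rwa [inf_relIndex_left]) v.col.cy c (q.le hc) (nz_of (le_of2 h4
        (fun u hu => mem_cm (n1 q hc hu.2 ▸ one_mem _) hu.1) ht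
        (mem_cm (KY _ (cQ q hc (ET ht)) (nn q h hc (ET ht))) ht) tQ))
    have h6 := card_rel E Q
    have h7 := card_le_of_le YK
    rw [q.card, inf_comm] at h6
    nlinarith
  replace h4 := rel4 q h ET h4
  obtain ⟨s, hs, sQ, st⟩ := third (A := Q) (by omega) ht
  have eK : E ⊓ Q = Q ⊓ centralizer {t} := eq_of_le_of_card_ge YK (by
    have h5 := (h.c4 q).trans (card_le_of_le v.ZY)
    have h6 := v.sA h4
    have h7 := card_dvd_of_le YK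
    rw [c8] at h7 ⊢
    have := Nat.le_of_dvd (by omega) h7
    interval_cases Nat.card ↥(E ⊓ Q) <;> omega)
  have r4 : (centralizer {t}).relIndex Q = 4 := by
    have := card_rel (centralizer {t}) Q
    rw [c8, q.card] at this
    omega
  have n12 : ∀ a ∈ Q, ⁅⁅a, s⁆, t⁆ = 1 := by
    by_contra! e
    obtain ⟨a, ha, w⟩ := e
    have bt : b ∉ centralizer {t} := fun e => v.iv.nm (eK.ge ⟨v.bQ, e⟩).1
    have as := cQ q ha (ET hs)
    by_cases e : ⁅a, s⁆ * b ∈ centralizer {t}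
    · rw [mC, nmul q as v.bQ (ET ht)] at e
      refine v.col.comm tX tY ?_
      rw [sym q v.bQ (ET ht), eq_inv_of_mul_eq_one_right e, ncomm q h ha (ET hs) (ET ht)]
      exact inv_mem (v.col.fr_le (comm_mem_Fr
        (eK.ge ⟨cQ q ha (ET ht), mC.2 (nn q h ha (ET ht))⟩).1 hs)).2
    · let S : Subgroup G :=
        { carrier := {c | c ∈ Q ∧ ⁅⁅c, s⁆, t⁆ = 1}
          one_mem' := ⟨one_mem _, by simp⟩
          mul_mem' := fun {c d} hc hd => ⟨mul_mem hc.1 hd.1, by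
            rw [nmul q hc.1 hd.1 (ET hs), nmul q (cQ q hc.1 (ET hs)) (cQ q hd.1 (ET hs)) (ET ht),
              hc.2, hd.2, mul_one]⟩
          inv_mem' := fun {c} hc => by rwa [el_inv q.el hc.1] }
      refine w (le_of4 (S := S) r4 (fun c hc => ⟨hc.1, ?_⟩) v.bQ as ⟨v.bQ, ?_⟩ ⟨as, ?_⟩ bt
        (fun e => w (mC.1 e)) e ha).2
      · rw [ncomm q h hc.1 (ET hs) (ET ht), mC.1 hc.2, commutatorElement_one_left]
      · exact mC.1 (YK (sym q v.bQ (ET hs) ▸ v.col.ce s hs)).2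
      · rw [nn q h ha (ET hs), commutatorElement_one_left]
  have cs : ∀ a ∈ Q, ∀ u ∈ (T : Subgroup G), u * ⁅a, s⁆ = ⁅a, s⁆ * u := fun a ha =>
    cenT q h (ET ht) (ET hs) tQ sQ st (cQ q ha (ET hs)) (n12 a ha) (nn q h ha (ET hs))
  have ct : ∀ a ∈ Q, ∀ u ∈ (T : Subgroup G), u * ⁅a, t⁆ = ⁅a, t⁆ * u := fun a ha =>
    cenT q h (ET ht) (ET hs) tQ sQ st (cQ q ha (ET ht)) (nn q h ha (ET ht))
      (ncomm q h ha (ET hs) (ET ht) ▸ n12 a ha)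
  have hc := YK (v.col.fr (comm_mem_Fr hs ht))
  have cc : ∀ u ∈ (T : Subgroup G), u * ⁅s, t⁆ = ⁅s, t⁆ * u := by
    refine cenT q h (ET ht) (ET hs) tQ sQ st hc.1 (mC.1 hc.2) ?_
    have := mC.1 (YK (v.col.fr (sq_mem_Fr hs))).2
    have e : s * ⁅s, t⁆ * s⁻¹ * ⁅s, t⁆ = 1 := by
      rw [← this]; simp only [commutatorElement_def]; group
    rw [commutatorElement_def ⁅s, t⁆, el_inv q.el hc.1, mul_assoc, mul_assoc, ← mul_assoc s,
      eq_inv_of_mul_eq_one_left e, mul_inv_cancel]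
  have sub : ∀ u ∈ (Q : Set G) ∪ {s, t}, u ∈ (T : Subgroup G) := by
    rintro u (hu | rfl | rfl)
    exacts [q.le hu, ET hs, ET ht]
  refine h.nc2 (c2_of_gen (X := Q ∪ {s, t}) (le_antisymm ((closure_le _).2 sub) (le_of4 (relT q h)
    (fun u hu => subset_closure (.inl hu.2)) (ET ht) (ET hs) (subset_closure (by simp))
    (subset_closure (by simp)) tQ sQ st)) fun a ha c hc' u hu => ?_)
  replace hu := sub u hu
  rcases ha with ha | rfl | rfl <;> rcases hc' with hc' | rfl | rfl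
  · simp [n1 q ha hc']
  · exact cs a ha u hu
  · exact ct a ha u hu
  · exact sym q hc' (ET hs) ▸ cs c hc' u hu
  · simp
  · exact cc u hu
  · exact sym q hc' (ET ht) ▸ ct c hc' u hu
  · rw [← commutatorElement_inv, el_inv q.el hc.1]; exact cc u hu
  · simp

/-- Step C.  By `sB`, `|Y : Y₀| = 4 = |E : Y|` and `E = Y Yˣ`, `T = Q Yˣ`, `Y₀ ≤ Z`.  Take `t₁, t₂ ∈ Yˣ` generating modulo `Y₀`, `yᵢ = Nᵢ b`, `w = N₁ N₂ b ∈ ⁅Y, Yˣ⁆ ≤ Y₀`.  By `Col.comm`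
`y₁, y₂, y₁ y₂ w ∉ Y₀`, so `Y = ⟨y₁, y₂⟩ Y₀`.  `|Y| = 4`: `sA`.  `|Y| = 8`: `|Y₀| = 2 < |Z|`, so one of `y₁, y₂, y₁ y₂` is central, `w = 1`, `E` is elementary of order 32, `uq`.
`|Y| = 16`: `Q = Y ⟨b⟩`, every square in `T = Q ⟨t₁, t₂⟩` lies in `L = ⟨y₁, y₂, w⟩`, `L ⊓ Y₀ ≤ ⟨w⟩`, `|Y₀| = 4`: a central involution outside `Fr T`, against `df`. -/
theorem V4.sC (v : V4 T Q E b x) : False := by
  have q := v.q
  have h := v.h
  have ET := v.bad.lt.le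
  have eY : El (E ⊓ Q) := fun a ha => q.el a ha.2
  have eX := el_cj eY x
  have XE : cj x (E ⊓ Q) ≤ E := cj_le_of_mem_normalizer inf_le_left v.col.nz
  have XT := XE.trans ET
  have c1 := card_rel (cj x (E ⊓ Q)) (E ⊓ Q)
  have c2 := card_rel Q (cj x (E ⊓ Q))
  have e0 : cj x (E ⊓ Q) ⊓ Q = E ⊓ Q ⊓ cj x (E ⊓ Q) :=
    le_antisymm (fun u hu => ⟨⟨XE hu.1, hu.2⟩, hu.1⟩) fun u hu => ⟨hu.2, hu.1.2⟩
  rw [card_cj, e0] at c2
  have e1 := Nat.eq_of_mul_eq_mul_left Nat.card_pos (c1.trans c2.symm)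
  have r4 := rel4 q h XT (e1 ▸ v.sB)
  rw [r4] at e1
  rw [e1] at c1
  have h4 := rel4 q h ET fun e => by
    have := relIndex_le_of_le_right (H := Q) XE index_ne_zero_of_finite
    omega
  obtain ⟨s, hs, sQ⟩ := SetLike.not_le_iff_exists.1 fun e : cj x (E ⊓ Q) ≤ Q => by
    rw [relIndex_eq_one.2 e] at r4; omega
  obtain ⟨t, ht, tQ, ts⟩ := third (A := Q) (by omega) hs
  have nX : ∀ u ∈ cj x (E ⊓ Q), u ∉ Q → ⁅b, u⁆ ∈ E ⊓ Q ∧ ⁅b, u⁆ ∉ cj x (E ⊓ Q) := fun u hu uQ =>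
    sym q v.bQ (XT hu) ▸ ⟨v.col.ce u (XE hu), v.col.comm hu fun e => uQ e.2⟩
  obtain ⟨y1, x1⟩ := nX s hs sQ
  obtain ⟨y2, x2⟩ := nX t ht tQ
  have x3 : ⁅b, t⁆ * ⁅b, s⁆ ∉ cj x (E ⊓ Q) := fun e => (nX _ (mul_mem ht hs) ts).2 (by
    rw [nst q v.bQ (XT hs), ← mul_assoc]
    exact mul_mem e (v.col.fr_le (comm_mem_Fr y1.1 (XE ht))).2)
  have gen : ∀ S : Subgroup G, E ⊓ Q ⊓ cj x (E ⊓ Q) ≤ S → ⁅b, s⁆ ∈ S → ⁅b, t⁆ ∈ S → E ⊓ Q ≤ S :=
    fun S h1 h2 h3 => le_of4 e1 h1 y1 y2 h2 h3 x1 x2 x3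
  have k0 : ∀ u ∈ cj x (E ⊓ Q), E ⊓ Q ⊓ cj x (E ⊓ Q) ≤ centralizer {u} := fun u hu a ha =>
    mem_centralizer_singleton_iff.2 (eX.comm ha.2 hu)
  have ss := nn q h v.bQ (XT hs)
  have tt := nn q h v.bQ (XT ht)
  have st := ncomm q h v.bQ (XT hs) (XT ht)
  have hw : ⁅⁅b, s⁆, t⁆ ≠ 1 := fun w => by
    have k1 := gen _ (k0 s hs) (mC.2 ss) (mC.2 (st ▸ w))
    have k2 := gen _ (k0 t ht) (mC.2 w) (mC.2 tt)
    have c3 := card_le_of_le (le_inf inf_le_right k1)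
    have c4 := card_rel Q E
    have c5 := v.sA h4
    rw [h.c8 q (XT hs) sQ (eX s hs)] at c3
    rw [h4] at c4
    have cm : ∀ a ∈ E ⊓ Q, ∀ u ∈ (T : Subgroup G), u * a = a * u := fun a ha =>
      cenT q h (XT hs) (XT ht) sQ tQ ts ha.2 (mC.1 (k1 ha)) (mC.1 (k2 ha))
    have eE : El E := fun u hu => by
      obtain ⟨a, ha, c, hc, rfl⟩ := (mem_sup_of_normalizes_left (H := cj x (E ⊓ Q)) (N := E ⊓ Q)
        (le_normalizer_inf (XE.trans le_normalizer) (XT.trans q.nm))).1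
        (le_of4 h4 le_sup_left (XE hs) (XE ht) (mem_sup_right hs) (mem_sup_right ht) sQ tQ ts hu)
      rw [mul_assoc, ← mul_assoc c, cm a ha c (XT hc), mul_assoc, eX c hc, mul_one, eY a ha]
    have : 0 < Nat.card ↥(E ⊓ Q ⊓ cj x (E ⊓ Q)) := Nat.card_pos
    exact v.iv.nm (h.uq q ET eE (by omega) ▸ v.bQ)
  have Z0 : Q ⊓ centralizer ((T : Subgroup G) : Set G) ≤ E ⊓ Q ⊓ cj x (E ⊓ Q) := fun z hz =>
    ⟨v.ZY hz, by_contra fun zX => hw (by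
      have zc : ∀ u ∈ cj x (E ⊓ Q), z ∈ centralizer {u} := fun u hu =>
        mem_centralizer_singleton_iff.2 (hz.2 u (XT hu)).symm
      by_cases e : z * ⁅b, s⁆ ∈ cj x (E ⊓ Q)
      · exact mC.1 ((mul_mem_cancel_left (zc t ht)).1 (k0 t ht ⟨mul_mem (v.ZY hz) y1, e⟩))
      · exact st ▸ mC.1 (le_of4 e1 (k0 s hs) y1 (v.ZY hz) (mC.2 ss) (zc s hs) x1 zX e y2))⟩
  have c3 := (h.c4 q).trans (card_le_of_le Z0)
  have c4 := card_rel E Q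
  rw [q.card, inf_comm] at c4
  have r2 : E.relIndex Q ≤ 2 := by nlinarith
  set L := zpowers ⁅b, s⁆ ⊔ zpowers ⁅b, t⁆ ⊔ zpowers ⁅⁅b, s⁆, t⁆ with hL
  have l1 : ⁅b, s⁆ ∈ L := mem_sup_left (mem_sup_left (mem_zpowers _))
  have l2 : ⁅b, t⁆ ∈ L := mem_sup_left (mem_sup_right (mem_zpowers _))
  have l3 : ⁅⁅b, s⁆, t⁆ ∈ L := mem_sup_right (mem_zpowers _)
  have wQ := cQ q y1.2 (XT ht)
  have nzQ : ∀ A ≤ Q, Q ≤ Nz A := fun A hA u hu =>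
    centralizer_le_normalizer _ fun a ha => q.el.comm (hA ha) hu
  have cL : Nat.card L ≤ 8 := by
    have d1 := card_zp (A := ⊥) (q.el _ y1.2) (nzQ _ bot_le y1.2)
    have d2 := card_zp (q.el _ y2.2) (nzQ _ (zpowers_le.2 y1.2) y2.2)
    have d3 := card_zp (q.el _ wQ) (nzQ _ (sup_le (zpowers_le.2 y1.2) (zpowers_le.2 y2.2)) wQ)
    rw [bot_sup_eq, card_bot] at d1
    rw [← hL] at d3
    omega
  have one : ∀ u ∈ cj x (E ⊓ Q), ⁅b, u⁆ ∈ L → ⁅⁅b, s⁆, u⁆ ∈ L → ⁅⁅b, t⁆, u⁆ ∈ L →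
      ∀ a ∈ Q, ⁅a, u⁆ ∈ L := fun u hu h1 h2 h3 a ha => by
    let S : Subgroup G :=
      { carrier := {c | c ∈ Q ∧ ⁅c, u⁆ ∈ L}
        one_mem' := ⟨one_mem _, by simp⟩
        mul_mem' := fun {c d} hc hd => ⟨mul_mem hc.1 hd.1, by
          rw [nmul q hc.1 hd.1 (XT hu)]; exact mul_mem hc.2 hd.2⟩
        inv_mem' := fun {c} hc => by rwa [el_inv q.el hc.1] }
    exact (le_of2 (S := S) r2 ((inf_comm Q E).le.trans (gen S (fun c hc => ⟨hc.1.2,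
      mC.1 (k0 u hu hc) ▸ one_mem _⟩) ⟨y1.2, h2⟩ ⟨y2.2, h3⟩)) v.bQ ⟨v.bQ, h1⟩ v.iv.nm ha).2
  let S : Subgroup G :=
    { carrier := {u | u ∈ cj x (E ⊓ Q) ∧ ∀ a ∈ Q, ⁅a, u⁆ ∈ L}
      one_mem' := ⟨one_mem _, by simp⟩
      mul_mem' := fun {c d} hc hd => ⟨mul_mem hc.1 hd.1, fun a ha => by
        rw [nst q ha (XT hd.1)]
        exact mul_mem (hc.2 a ha) (mul_mem (hd.2 a ha) (hc.2 _ (cQ q ha (XT hd.1))))⟩
      inv_mem' := fun {c} hc => by rwa [el_inv eX hc.1] }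
  have XS := le_of4 (S := S) r4 (fun u hu => ⟨hu.1, fun a ha => n1 q ha hu.2 ▸ one_mem _⟩) hs ht
    ⟨hs, one s hs l1 (ss ▸ one_mem _) (st ▸ l3)⟩ ⟨ht, one t ht l2 l3 (tt ▸ one_mem _)⟩ sQ tQ ts
  have FL : Fr (T : Subgroup G) ≤ L := Fr_le_iff.2 fun u hu => by
    obtain ⟨a, ha, c, hc, rfl⟩ := (mem_sup_of_normalizes_left (XT.trans q.nm)).1
      (le_of4 (relT q h) (inf_le_right.trans le_sup_left) (XT hs) (XT ht) (mem_sup_right hs)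
        (mem_sup_right ht) sQ tQ ts hu)
    have := (XS hc).2 a ha
    rwa [commutatorElement_def, el_inv q.el ha, el_inv eX hc, mul_assoc (a * c)] at this
  have := card_le_of_le (gen L (fun z hz => FL (h.df z (ET hz.1.1) (eY z hz.1) (cenT q h (XT hs) (XT ht)
    sQ tQ ts hz.1.2 (mC.1 (k0 s hs hz)) (mC.1 (k0 t ht hz))))) l1 l2)
  omega

theorem Hyp.no32 (h : Hyp T) (q : NE32 T Q) : False := by
  obtain ⟨E, b, x, v⟩ := exists_v4 h q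
  exact v.sC

end CL.J3O
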