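import Cfsg.Agent.REC.J3O.Key

/-! The quotient by a normal elementary subgroup of order 32 is a four-group. -/

set_option autoImplicit false

namespace CL.J3O

open Subgroup Cfsg
open scoped commutatorElement

variable {G : Type*} [Group G] [Finite G] {T : Sylow 2 G} {Q : Subgroup G}

namespace Z4x

omit [Finite G] in
theorem card_mul {A B : Subgroup G} (h : A ≤ B) : Nat.card A * A.relIndex B = Nat.card B := by
  have := (A.subgroupOf B).card_mul_index
  rwa [Nat.card_congr (Subgroup.subgroupOfEquivOfLe h).toEquiv] at this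

theorem card_le_two_mul {A B : Subgroup G} {s : G} (h : ∀ t ∈ B, t ∈ A ∨ t * s⁻¹ ∈ A) :
    Nat.card B ≤ 2 * Nat.card A := by
  have hs : (B : Set G) ⊆ (A : Set G) ∪ (fun a => a * s) '' (A : Set G) := by
    intro t ht
    rcases h t ht with h1 | h1
    · exact Or.inl h1
    · exact Or.inr ⟨_, h1, by simp⟩
  have h1 := Set.ncard_le_ncard hs (Set.toFinite _)
  have h2 := Set.ncard_union_le (A : Set G) ((fun a => a * s) '' (A : Set G))
  have h3 : ((fun a => a * s) '' (A : Set G)).ncard ≤ (A : Set G).ncard := Set.ncard_image_le (Set.toFinite _)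
  have e : Nat.card A = (A : Set G).ncard := Nat.card_coe_set_eq _
  have e' : Nat.card B = (B : Set G).ncard := Nat.card_coe_set_eq _
  omega

/-- the subgroup `A ⟨w⟩` -/
theorem exists_ad {A : Subgroup G} {w : G} (hn : w ∈ Nz A) (h2 : w * w ∈ A) (h0 : w ∉ A) :
    ∃ P : Subgroup G, (∀ t, t ∈ P ↔ t ∈ A ∨ t * w⁻¹ ∈ A) ∧ Nat.card P = 2 * Nat.card A := by
  let P : Subgroup G :=
    { carrier := {t | t ∈ A ∨ t * w⁻¹ ∈ A}
      one_mem' := Or.inl A.one_mem
      mul_mem' := by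
        rintro a b (ha | ha) (hb | hb)
        · exact Or.inl (mul_mem ha hb)
        · exact Or.inr (by rw [mul_assoc]; exact mul_mem ha hb)
        · right
          have e : a * b * w⁻¹ = a * w⁻¹ * (w * b * w⁻¹) := by group
          rw [e]
          exact mul_mem ha (Bas.nz_cj hn hb)
        · left
          have e : a * b = a * w⁻¹ * (w * (b * w⁻¹) * w⁻¹) * (w * w) := by group
          rw [e]
          exact mul_mem (mul_mem ha (Bas.nz_cj hn hb)) h2
      inv_mem' := by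
        rintro a (ha | ha)
        · exact Or.inl (inv_mem ha)
        · right
          have e : a⁻¹ * w⁻¹ = (w⁻¹ * (a * w⁻¹)⁻¹ * w) * (w * w)⁻¹ := by group
          rw [e]
          exact mul_mem (Bas.nz_cj' hn (inv_mem ha)) (inv_mem h2) }
  have hP : ∀ t, t ∈ P ↔ t ∈ A ∨ t * w⁻¹ ∈ A := fun t => Iff.rfl
  refine ⟨P, hP, ?_⟩
  have le : A ≤ P := fun t ht => Or.inl ht
  have h1 : Nat.card P ≤ 2 * Nat.card A := card_le_two_mul fun t ht => (hP t).1 ht
  have h3 := card_mul le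
  have i1 : A.relIndex P ≠ 1 := fun e => h0 (relIndex_eq_one.1 e ((hP w).2 (Or.inr (by simp))))
  have i0 : A.relIndex P ≠ 0 := index_ne_zero_of_finite
  have i2 : 2 ≤ A.relIndex P := by omega
  nlinarith

omit [Finite G] in
theorem idx (h : Hyp T) (q : NE32 T Q) : Q.relIndex (T : Subgroup G) = 4 := by
  have h1 := card_mul q.le
  have h2 : Nat.card (T : Subgroup G) = 128 := h.card
  rw [q.card, h2] at h1
  omega

theorem pow4 (h : Hyp T) (q : NE32 T Q) {t : G} (ht : t ∈ (T : Subgroup G)) : t * t * (t * t) ∈ Q := by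
  have : (Q.subgroupOf (T : Subgroup G)).Normal := (normal_subgroupOf_iff_le_normalizer q.le).2 q.nm
  have h1 := (Q.subgroupOf (T : Subgroup G)).pow_index_mem ⟨t, ht⟩
  have h2 : (Q.subgroupOf (T : Subgroup G)).index = 4 := idx h q
  rw [h2, mem_subgroupOf] at h1
  have e : t * t * (t * t) = t ^ 4 := by simp only [pow_succ, pow_zero, one_mul, mul_assoc]
  rw [e]
  exact h1

/-- a subgroup of order 64 has index two -/
theorem dec64 (h : Hyp T) {P : Subgroup G} (le : P ≤ T) (c : Nat.card P = 64) :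
    ∃ s ∈ (T : Subgroup G), ∀ t, t ∈ (T : Subgroup G) ↔ t ∈ P ∨ t * s⁻¹ ∈ P := by
  refine Bas.two_dec le ?_
  have h1 := card_mul le
  have h2 : Nat.card (T : Subgroup G) = 128 := h.card
  rw [c, h2] at h1
  omega

omit [Finite G] in
theorem sq_cong {A : Subgroup G} {a b : G} (hb : b ∈ Nz A) (h : a * b⁻¹ ∈ A) : a * a * (b * b)⁻¹ ∈ A := by
  have e : a * a * (b * b)⁻¹ = a * b⁻¹ * (b * (a * b⁻¹) * b⁻¹) := by group
  rw [e]
  exact mul_mem h (Bas.nz_cj hb h)

omit [Finite G] in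
theorem comm_mem {A : Subgroup G} {a c : G} (hc : c ∈ Nz A) (ha : a ∈ A) : ⁅a, c⁆ ∈ A := by
  have e : ⁅a, c⁆ = a * (c * a⁻¹ * c⁻¹) := by simp only [commutatorElement_def]; group
  rw [e]
  exact mul_mem ha (Bas.nz_cj hc (inv_mem ha))

omit [Finite G] in
theorem comm_mem' {A : Subgroup G} {a c : G} (hc : c ∈ Nz A) (ha : a ∈ A) : ⁅c, a⁆ ∈ A := by
  rw [← commutatorElement_inv]
  exact inv_mem (comm_mem hc ha)

/-- if the centralizer of `c` has index at most two, there is one nontrivial commutator -/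
theorem same {A : Subgroup G} {a a' c : G} (el : El A) (hc : c ∈ Nz A) (i : (A ⊓ centralizer {c}).relIndex A ≤ 2)
    (ha : a ∈ A) (ha' : a' ∈ A) (n : ⁅a, c⁆ ≠ 1) (n' : ⁅a', c⁆ ≠ 1) : ⁅a', c⁆ = ⁅a, c⁆ := by
  obtain ⟨s, -, hs⟩ := Bas.two_dec inf_le_left i
  have o : ∀ y ∈ A, ⁅y, c⁆ ≠ 1 → y * s⁻¹ ∈ A ⊓ centralizer {c} := fun y hy ny =>
    ((hs y).1 hy).resolve_left fun m =>
      ny (commutatorElement_eq_one_iff_mul_comm.2 (mem_centralizer_singleton_iff.1 m.2))
  have m := mul_mem (o a' ha' n') (inv_mem (o a ha n))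
  have e : a' * s⁻¹ * (a * s⁻¹)⁻¹ = a' * a⁻¹ := by group
  rw [e] at m
  have k1 : a' * a⁻¹ * c = c * (a' * a⁻¹) := mem_centralizer_singleton_iff.1 m.2
  have k2 := el.comm m.1 (comm_mem hc ha)
  calc ⁅a', c⁆ = a' * a⁻¹ * ⁅a, c⁆ * (c * (a' * a⁻¹)⁻¹ * c⁻¹) := by simp only [commutatorElement_def]; group
    _ = ⁅a, c⁆ * (a' * a⁻¹ * c) * (a' * a⁻¹)⁻¹ * c⁻¹ := by rw [k2]; group
    _ = ⁅a, c⁆ := by rw [k1]; group

end Z4x

open Z4x

/-- Suppose `u² ∉ Q`.  `T / Q` is cyclic of order four, `P = Q ⟨u²⟩ = {t ∈ T | t² ∈ Q}` has index two and contains all involutions of `T`.  `N(T) ≤ N(P)`: if `Q^g = Q` by the description,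
otherwise `P = Q Q^g ≤ P^g`.  `C2 P` by `c2_of_el`.  `Hyp.bad` with `R = P`; `H = E ⊓ P ≠ E` (an `x` moves it), so `E` contains an element `u ∉ P`, `T = E Q`, `Q ≰ E`; take `b ∈ Q`
(`exists_iv_of_el`).  `Col E H b x`: `H = (E ⊓ Q) ⟨u²⟩`, `⁅u², b⁆ = y^u y` with `y = ⁅u, b⁆ ∈ E ⊓ Q` is a commutator in `E`; `⁅E, b⁆ ≤ E ⊓ Q`.  Take `t ∈ x H x⁻¹ \ H`; by `Col.comm`
`y₁ = ⁅t, b⁆ ∈ Q ⊓ E` is an involution of `H` outside `x H x⁻¹`; by `Col.out`, `x y₁ x⁻¹ ∉ H`; but it is an involution of `E`. -/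
theorem Hyp.z4 (h : Hyp T) (q : NE32 T Q) : ∀ t ∈ (T : Subgroup G), t * t ∈ Q := by
  intro u hu
  by_contra uQ
  have hT : IsPGroup 2 (T : Subgroup G) := T.isPGroup'
  obtain ⟨P, hP, cP⟩ := exists_ad (q.nm (mul_mem hu hu)) (pow4 h q hu) uQ
  rw [q.card] at cP
  have QP : Q ≤ P := fun t ht => (hP t).2 (Or.inl ht)
  have PT : P ≤ T := by
    intro t ht
    rcases (hP t).1 ht with a | a
    · exact q.le a
    · simpa [mul_assoc] using mul_mem (q.le a) (mul_mem hu hu)
  obtain ⟨s, -, hs⟩ := dec64 h PT cP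
  have two : ∀ t ∈ (T : Subgroup G), t ∉ P → ∀ v ∈ (T : Subgroup G), v ∉ P → t * v⁻¹ ∈ P := by
    intro t ht nt v hv nv
    have := mul_mem (((hs t).1 ht).resolve_left nt) (inv_mem (((hs v).1 hv).resolve_left nv))
    have e : t * s⁻¹ * (v * s⁻¹)⁻¹ = t * v⁻¹ := by group
    rwa [e] at this
  have two' : ∀ t ∈ P, t ∉ Q → ∀ v ∈ P, v ∉ Q → t * v⁻¹ ∈ Q := by
    intro t ht nt v hv nv
    have := mul_mem (((hP t).1 ht).resolve_left nt) (inv_mem (((hP v).1 hv).resolve_left nv))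
    have e : t * (u * u)⁻¹ * (v * (u * u)⁻¹)⁻¹ = t * v⁻¹ := by group
    rwa [e] at this
  have uP : u ∉ P := by
    intro m
    rcases (hP u).1 m with a | a
    · exact uQ (mul_mem a a)
    · have e : u * (u * u)⁻¹ = u⁻¹ := by group
      rw [e, inv_mem_iff] at a
      exact uQ (mul_mem a a)
  have sqP : ∀ t ∈ P, t * t ∈ Q := by
    intro t ht
    rcases (hP t).1 ht with a | a
    · exact mul_mem a a
    · simpa [mul_assoc] using mul_mem (sq_cong (q.nm (mul_mem hu hu)) a) (pow4 h q hu)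
  have Psq : ∀ t ∈ (T : Subgroup G), t * t ∈ Q → t ∈ P := by
    intro t ht tt
    by_contra nt
    rcases (hP _).1 (two t ht nt u hu uP) with a | a
    · have := mul_mem (inv_mem (sq_cong (q.nm hu) a)) tt
      exact uQ (by simpa [mul_assoc] using this)
    · have e : t * u⁻¹ * (u * u)⁻¹ = t * (u * u * u)⁻¹ := by group
      rw [e] at a
      have := mul_mem (inv_mem (pow4 h q hu))
        (mul_mem (inv_mem (sq_cong (q.nm (mul_mem (mul_mem hu hu) hu)) a)) tt)
      have e2 : (u * u * (u * u))⁻¹ * ((t * t * (u * u * u * (u * u * u))⁻¹)⁻¹ * (t * t)) = u * u := by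
        simp only [mul_inv_rev, inv_inv, mul_assoc, inv_mul_cancel_left, inv_mul_cancel, mul_one]
      rw [e2] at this
      exact uQ this
  have cjQ : ∀ g ∈ Nz (T : Subgroup G), ∀ y ∈ Q, g * y * g⁻¹ ∈ P := by
    intro g hg y hy
    refine Psq _ (Bas.nz_cj hg (q.le hy)) ?_
    have e : g * y * g⁻¹ * (g * y * g⁻¹) = g * (y * y) * g⁻¹ := by group
    rw [e, q.el y hy]
    simp
  have nzP : Nz (T : Subgroup G) ≤ Nz P := by
    intro g hg
    refine mem_normalizer_fintype fun t ht => ?_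
    change g * t * g⁻¹ ∈ P
    by_cases hc : ∀ y ∈ Q, g⁻¹ * y * g⁻¹⁻¹ ∈ Q
    · have m : g ∈ Nz Q := by simpa using inv_mem (mem_normalizer_fintype hc : g⁻¹ ∈ Nz Q)
      refine Psq _ (Bas.nz_cj hg (PT ht)) ?_
      have e : g * t * g⁻¹ * (g * t * g⁻¹) = g * (t * t) * g⁻¹ := by group
      rw [e]
      exact Bas.nz_cj m (sqP t ht)
    push Not at hc
    obtain ⟨y, hy, ny⟩ := hc
    by_cases tQ : t ∈ Q
    · exact cjQ g hg t tQ
    have m := cjQ g hg _ (two' t ht tQ _ (cjQ _ (inv_mem hg) y hy) ny)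
    have e : g * t * g⁻¹ = g * (t * (g⁻¹ * y * g⁻¹⁻¹)⁻¹) * g⁻¹ * y := by group
    rw [e]
    exact mul_mem m (QP hy)
  have iP : Q.relIndex P ≤ 2 := by
    have := card_mul QP
    rw [q.card, cP] at this
    omega
  obtain ⟨E, hE⟩ := h.bad PT nzP (by intro e; rw [e] at cP; simp at cP) (c2_of_el q.el QP iP)
  have ET : E ≤ (T : Subgroup G) := hE.lt.le
  obtain ⟨v, vE, vP⟩ : ∃ v ∈ E, v ∉ P := by
    by_contra hc
    push Not at hc
    obtain ⟨b, hb⟩ := exists_iv hT hE.lt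
    obtain ⟨x, hx⟩ := hE.odd b hb
    apply hx.mv
    rw [inf_eq_left.2 hc]
    exact hx.nz
  have vvP : v * v ∈ P := Psq _ (ET (mul_mem vE vE)) (pow4 h q (ET vE))
  have vvQ : v * v ∉ Q := fun m => vP (Psq v (ET vE) m)
  have QE : ¬ Q ≤ E := by
    intro le
    have PE : P ≤ E := by
      intro t ht
      by_cases tQ : t ∈ Q
      · exact le tQ
      · simpa [mul_assoc] using mul_mem (le (two' t ht tQ _ vvP vvQ)) (mul_mem vE vE)
    refine hE.lt.not_ge fun t ht => ?_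
    by_cases tP : t ∈ P
    · exact PE tP
    · simpa using mul_mem (PE (two t ht tP v (ET vE) vP)) vE
  obtain ⟨b, bQ, hb⟩ := exists_iv_of_el hT ET q.le q.nm q.el QE
  obtain ⟨x, hx⟩ := hE.odd b hb
  have cb : ∀ e ∈ E, ⁅e, b⁆ ∈ E ∧ ⁅e, b⁆ ∈ Q := fun e he => ⟨comm_mem hb.nz he, comm_mem' (q.nm (ET he)) bQ⟩
  have col : Col E (E ⊓ P) b x :=
    { hx with
      le := inf_le_left
      fr := Fr_le_iff.2 fun e he => ⟨mul_mem he he, Psq _ (ET (mul_mem he he)) (pow4 h q (ET he))⟩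
      bn := hb.nz
      cy := by
        intro y hy
        by_cases yQ : y ∈ Q
        · rw [commutatorElement_eq_one_iff_mul_comm.2 (q.el.comm yQ bQ)]
          exact one_mem _
        have m := two' y hy.2 yQ _ vvP vvQ
        have k := q.el.comm m (Bas.nz_cj (q.nm (ET (mul_mem vE vE))) bQ)
        have yi := Bas.El.inv q.el (cb v vE).2
        have e : ⁅y, b⁆ = ⁅v, ⁅v, b⁆⁆ := by
          rw [commutatorElement_def v ⁅v, b⁆, yi]
          simp only [commutatorElement_def]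
          calc y * b * y⁻¹ * b⁻¹
              = y * (v * v)⁻¹ * (v * v * b * (v * v)⁻¹) * (y * (v * v)⁻¹)⁻¹ * b⁻¹ := by group
            _ = v * (v * b * v⁻¹ * b⁻¹) * v⁻¹ * (v * b * v⁻¹ * b⁻¹) := by rw [k]; group
        rw [e]
        exact comm_mem_Fr vE (cb v vE).1
      ce := fun e he => ⟨(cb e he).1, QP (cb e he).2⟩ }
  obtain ⟨y, hy, ny⟩ : ∃ y ∈ E ⊓ P, x * y * x⁻¹ ∉ E ⊓ P := by
    by_contra hc
    push Not at hc
    exact hx.mv (mem_normalizer_fintype hc)
  have tE := Bas.nz_cj hx.nz hy.1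
  have n1 := col.comm (t := x * y * x⁻¹) (Bas.mem_cj.2 (by simpa [mul_assoc] using hy)) ny
  refine col.out ⟨(cb _ tE).1, QP (cb _ tE).2⟩ n1 ?_
  have m := Bas.nz_cj hx.nz (cb _ tE).1
  refine ⟨m, Psq _ (ET m) ?_⟩
  have e : ∀ w : G, x * w * x⁻¹ * (x * w * x⁻¹) = x * (w * w) * x⁻¹ := fun w => by group
  rw [e, q.el _ (cb _ tE).2]
  simp

/-- If `t ∈ T \ Q` centralizes `Q`: `P = Q ⟨t⟩` is abelian of index two, `c2_of_two` with `Z = Q`. -/
theorem Hyp.cq (h : Hyp T) (q : NE32 T Q) {t : G} (ht : t ∈ (T : Subgroup G)) (c : ∀ a ∈ Q, t * a = a * t) : t ∈ Q := by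
  by_contra tQ
  have z4 := h.z4 q
  have FQ : Fr (T : Subgroup G) ≤ Q := Fr_le_iff.2 z4
  obtain ⟨P, hP, cP⟩ := exists_ad (q.nm ht) (z4 t ht) tQ
  rw [q.card] at cP
  have PT : P ≤ T := by
    intro u hu
    rcases (hP u).1 hu with a | a
    · exact q.le a
    · simpa using mul_mem (q.le a) ht
  obtain ⟨s, sT, hs⟩ := dec64 h PT cP
  have c1 : ∀ u ∈ P, ∀ z ∈ Q, u * z = z * u := by
    intro u hu z hz
    rcases (hP u).1 hu with a | a
    · exact q.el.comm a hz
    · calc u * z = u * t⁻¹ * (t * z) := by group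
        _ = u * t⁻¹ * z * t := by rw [c z hz]; group
        _ = z * u := by rw [q.el.comm a hz]; group
  have c2 : ∀ u ∈ P, u * t = t * u := by
    intro u hu
    rcases (hP u).1 hu with a | a
    · exact (c u a).symm
    · calc u * t = u * t⁻¹ * t * t := by group
        _ = t * u := by rw [← c _ a]; group
  have c3 : ∀ u ∈ P, ∀ v ∈ P, ⁅u, v⁆ = 1 := by
    intro u hu v hv
    rw [commutatorElement_eq_one_iff_mul_comm]
    rcases (hP v).1 hv with a | a
    · exact c1 u hu v a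
    · calc u * v = u * (v * t⁻¹) * t := by group
        _ = v * t⁻¹ * (u * t) := by rw [c1 u hu _ a]; group
        _ = v * u := by rw [c2 u hu]; group
  refine h.nc2 (c2_of_two hs q.el (fun u hu => FQ (comm_mem_Fr sT (PT hu))) c1
    (fun u hu => (c1 u hu _ (z4 s sT)).symm) fun u hu v hv => ?_)
  rw [c3 u hu v hv]
  exact ⟨one_mem _, by simp⟩

/-- `Z₀ = Q ⊓ Q'` has order at least eight.  Order eight: `T = Q Q'`, `Q' = Z₀ ⟨t₁, t₂⟩`, `Nᵢ q = ⁅q, tᵢ⁆` commute, `im Nᵢ ≤ ker Nᵢ ≥ Z₀`.  `N₁ N₂ = 0`: if `|ker N₂| = 8`,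
`im N₂ ≤ Z₀`; symmetric; otherwise `|im N₂| ≤ 2` and `N₁` maps `im N₂` to itself with `N₁² = 0`.  So `c2_of_gen` applies to `Q ∪ {t₁, t₂}`.  Order 16: `P = Q Q'` has index two, the involutions of `P` lie in
`Q ∪ Q'` (`cq`), so `Q'` is normal in `T` (`Q'^s ≠ Q` lies in `Q ∪ Q'`), `z4` for `Q` and `Q'` puts all squares, hence all commutators, in `Z₀ ≤ Z(P)`; `P' = ⟨z⟩` has order at most two, so it is central in `T`;
`c2_of_two`. -/
theorem Hyp.uq (h : Hyp T) (q : NE32 T Q) {Q' : Subgroup G} (le : Q' ≤ T) (el : El Q') (c : Nat.card Q' = 32) : Q' = Q := by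
  have cZ := card_mul (inf_le_right : Q ⊓ Q' ≤ Q')
  rw [c, inf_relIndex_right] at cZ
  have i4 : Q.relIndex Q' ≤ 4 := by
    rw [← idx h q]
    exact relIndex_le_of_le_right le index_ne_zero_of_finite
  have z4 := h.z4 q
  have FQ : Fr (T : Subgroup G) ≤ Q := Fr_le_iff.2 z4
  have hcase : Q.relIndex Q' = 1 ∨ Q.relIndex Q' = 2 ∨ Q.relIndex Q' = 4 := by
    generalize Q.relIndex Q' = n at cZ i4
    interval_cases n <;> omega
  have ZK : ∀ t ∈ Q', Q ⊓ Q' ≤ Q ⊓ centralizer {t} := fun t ht y hy =>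
    ⟨hy.1, mem_centralizer_singleton_iff.2 (el.comm hy.2 ht)⟩
  rcases hcase with i | i | i
  · exact eq_of_le_of_card_ge (relIndex_eq_one.1 i) (by rw [c, q.card])
  · exfalso
    rw [i] at cZ
    obtain ⟨t, tQ', tQ⟩ : ∃ t ∈ Q', t ∉ Q := by
      by_contra hc
      push Not at hc
      have := relIndex_eq_one.2 (show Q' ≤ Q from hc)
      omega
    have ht := le tQ'
    have ti : t⁻¹ = t := Bas.El.inv el tQ'
    have cK := card_mul (inf_le_left : Q ⊓ centralizer {t} ≤ Q)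
    rw [q.card] at cK
    have cK2 := card_le_of_le (ZK t tQ')
    have iK1 : (Q ⊓ centralizer {t}).relIndex Q ≠ 1 := fun e => tQ (h.cq q ht fun a ha =>
      (mem_centralizer_singleton_iff.1 (relIndex_eq_one.1 e ha).2).symm)
    have iK0 : (Q ⊓ centralizer {t}).relIndex Q ≠ 0 := index_ne_zero_of_finite
    have iK : (Q ⊓ centralizer {t}).relIndex Q ≤ 2 := by
      by_contra hc
      have : 3 ≤ (Q ⊓ centralizer {t}).relIndex Q := by omega
      nlinarith
    have KZ : Q ⊓ Q' = Q ⊓ centralizer {t} := by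
      refine eq_of_le_of_card_ge (ZK t tQ') ?_
      have : (Q ⊓ centralizer {t}).relIndex Q = 2 := by omega
      rw [this] at cK
      omega
    obtain ⟨P, hP, cP⟩ := exists_ad (q.nm ht) (z4 t ht) tQ
    rw [q.card] at cP
    have QP : Q ≤ P := fun u hu => (hP u).2 (Or.inl hu)
    have PT : P ≤ T := by
      intro u hu
      rcases (hP u).1 hu with a | a
      · exact q.le a
      · simpa using mul_mem (q.le a) ht
    have nzP : (T : Subgroup G) ≤ Nz P := le_Nz_of_Fr (FQ.trans QP) PT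
    obtain ⟨s, sT, hs⟩ := dec64 h PT cP
    obtain ⟨t', -, hQ'⟩ := Bas.two_dec (inf_le_right : Q ⊓ Q' ≤ Q') (by rw [inf_relIndex_right, i])
    have Q'2 : ∀ y ∈ Q', y ∉ Q → y * t⁻¹ ∈ Q ⊓ Q' := by
      intro y hy ny
      have := mul_mem (((hQ' y).1 hy).resolve_left fun m => ny m.1)
        (inv_mem (((hQ' t).1 tQ').resolve_left fun m => tQ m.1))
      have e : y * t'⁻¹ * (t * t'⁻¹)⁻¹ = y * t⁻¹ := by group
      rwa [e] at this
    have Q'P : Q' ≤ P := by
      intro y hy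
      by_cases yQ : y ∈ Q
      · exact QP yQ
      · exact (hP y).2 (Or.inr (Q'2 y hy yQ).1)
    have inv : ∀ y ∈ P, y ∉ Q → y * y = 1 → y ∈ Q' := by
      intro y hy ny yy
      have a := ((hP y).1 hy).resolve_left ny
      have ai := Bas.El.inv q.el a
      have m : y * t⁻¹ ∈ Q ⊓ centralizer {t} := by
        refine ⟨a, mem_centralizer_singleton_iff.2 ?_⟩
        have yi : y⁻¹ = y := inv_eq_of_mul_eq_one_right yy
        calc y * t⁻¹ * t = y⁻¹ := by rw [yi]; group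
          _ = t⁻¹ * (y * t⁻¹)⁻¹ := by group
          _ = t * (y * t⁻¹) := by rw [ai, ti]
      rw [← KZ] at m
      simpa using mul_mem m.2 tQ'
    have cjo : ∀ g ∈ (T : Subgroup G), ∀ y ∈ Q', y ∉ Q → g * y * g⁻¹ ∉ Q := by
      intro g hg y hy ny m
      apply ny
      simpa [mul_assoc] using Bas.nz_cj' (q.nm hg) m
    have cji : ∀ g ∈ (T : Subgroup G), ∀ y ∈ Q', y ∉ Q → g * y * g⁻¹ ∈ Q' := by
      intro g hg y hy ny
      refine inv _ (Bas.nz_cj (nzP hg) (Q'P hy)) (cjo g hg y hy ny) ?_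
      have e : g * y * g⁻¹ * (g * y * g⁻¹) = g * (y * y) * g⁻¹ := by group
      rw [e, el y hy]
      simp
    have q' : NE32 T Q' := by
      refine ⟨le, fun g hg => mem_normalizer_fintype fun y hy => ?_, el, c⟩
      change g * y * g⁻¹ ∈ Q'
      by_cases yQ : y ∈ Q
      · have n : y * t ∉ Q := fun m => tQ (by simpa using mul_mem (inv_mem yQ) m)
        have := mul_mem (cji g hg _ (mul_mem hy tQ') n) (inv_mem (cji g hg t tQ' tQ))
        have e : g * (y * t) * g⁻¹ * (g * t * g⁻¹)⁻¹ = g * y * g⁻¹ := by group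
        rwa [e] at this
      · exact cji g hg y hy yQ
    have FZ : Fr (T : Subgroup G) ≤ Q ⊓ Q' := le_inf FQ (Fr_le_iff.2 (h.z4 q'))
    have c1 : ∀ u ∈ P, ∀ z ∈ Q ⊓ Q', u * z = z * u := by
      intro u hu z hz
      rcases (hP u).1 hu with a | a
      · exact q.el.comm a hz.1
      · calc u * z = u * t⁻¹ * (t * z) := by group
          _ = u * t⁻¹ * z * t := by rw [el.comm tQ' hz.2]; group
          _ = z * u := by rw [q.el.comm a hz.1]; group
    have W : ∀ a ∈ Q, s * ⁅a, t⁆ = ⁅a, t⁆ * s := by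
      intro a ha
      by_cases n : ⁅a, t⁆ = 1
      · simp [n]
      have m := Q'2 _ (cji s sT t tQ' tQ) (cjo s sT t tQ' tQ)
      have ha' := Bas.nz_cj (q.nm sT) ha
      have k1 := q.el.comm ha' m.1
      have k2 := q.el.comm m.1 (comm_mem (q.nm ht) ha')
      have e : s * ⁅a, t⁆ * s⁻¹ = ⁅s * a * s⁻¹, t⁆ := by
        calc s * ⁅a, t⁆ * s⁻¹
            = s * a * s⁻¹ * (s * t * s⁻¹ * t⁻¹) * (t * (s * a * s⁻¹)⁻¹ * t⁻¹) * (s * t * s⁻¹ * t⁻¹)⁻¹ := by
              simp only [commutatorElement_def]; group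
          _ = s * t * s⁻¹ * t⁻¹ * ⁅s * a * s⁻¹, t⁆ * (s * t * s⁻¹ * t⁻¹)⁻¹ := by
              rw [k1]; simp only [commutatorElement_def]; group
          _ = ⁅s * a * s⁻¹, t⁆ := by rw [k2]; group
      have n' : ⁅s * a * s⁻¹, t⁆ ≠ 1 := by
        intro e1
        apply n
        calc ⁅a, t⁆ = s⁻¹ * (s * ⁅a, t⁆ * s⁻¹) * s := by group
          _ = 1 := by rw [e, e1]; group
      rw [same q.el (q.nm ht) iK ha ha' n n'] at e
      calc s * ⁅a, t⁆ = s * ⁅a, t⁆ * s⁻¹ * s := by group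
        _ = ⁅a, t⁆ * s := by rw [e]
    have W' : ∀ a ∈ Q, s * ⁅t, a⁆ = ⁅t, a⁆ * s := by
      intro a ha
      rw [← commutatorElement_inv]
      exact (Commute.inv_right (W a ha)).eq
    have W2 : ∀ a ∈ Q, ∀ v ∈ P, s * ⁅a, v⁆ = ⁅a, v⁆ * s := by
      intro a ha v hv
      rcases (hP v).1 hv with b | b
      · simp [commutatorElement_eq_one_iff_mul_comm.2 (q.el.comm ha b)]
      · have k1 := q.el.comm ha b
        have k2 := q.el.comm b (comm_mem (q.nm ht) ha)
        have e : ⁅a, v⁆ = ⁅a, t⁆ := by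
          calc ⁅a, v⁆ = a * (v * t⁻¹) * (t * a⁻¹ * t⁻¹) * (v * t⁻¹)⁻¹ := by
                simp only [commutatorElement_def]; group
            _ = v * t⁻¹ * ⁅a, t⁆ * (v * t⁻¹)⁻¹ := by rw [k1]; simp only [commutatorElement_def]; group
            _ = ⁅a, t⁆ := by rw [k2]; group
        rw [e]
        exact W a ha
    refine h.nc2 (c2_of_two (Z := Q ⊓ Q') hs (fun a ha => q.el a ha.1) (fun u hu => FZ (comm_mem_Fr sT (PT hu))) c1
      (fun u hu => (c1 u hu _ (FZ (sq_mem_Fr sT))).symm) fun u hu v hv => ⟨FZ (comm_mem_Fr (PT hu) (PT hv)), ?_⟩)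
    rcases (hP u).1 hu with a | a
    · exact W2 u a v hv
    rcases (hP v).1 hv with b | b
    · rw [← commutatorElement_inv]
      exact (Commute.inv_right (W2 v b u hu)).eq
    have r := mul_mem b (inv_mem a)
    have k1 := q.el.comm a (Bas.nz_cj (q.nm ht) r)
    have k2 := q.el.comm a b
    have e : ⁅u, v⁆ = ⁅t, v * t⁻¹ * (u * t⁻¹)⁻¹⁆ := by
      calc ⁅u, v⁆ = u * t⁻¹ * (t * (v * t⁻¹ * (u * t⁻¹)⁻¹) * t⁻¹) * (v * t⁻¹)⁻¹ := by
            simp only [commutatorElement_def]; group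
        _ = ⁅t, v * t⁻¹ * (u * t⁻¹)⁻¹⁆ := by rw [k1]; simp only [commutatorElement_def]; group
    rw [e]
    exact W' _ r
  · exfalso
    rw [i] at cZ
    have gen : Subgroup.closure ((Q : Set G) ∪ (Q' : Set G)) = (T : Subgroup G) := by
      rw [Subgroup.closure_union, Subgroup.closure_eq, Subgroup.closure_eq]
      refine eq_of_le_of_card_ge (sup_le q.le le) ?_
      have h1 := card_mul (le_sup_left : Q ≤ Q ⊔ Q')
      have h2 : Q.relIndex Q' ≤ Q.relIndex (Q ⊔ Q') := relIndex_le_of_le_right le_sup_right index_ne_zero_of_finite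
      have h3 : Nat.card (T : Subgroup G) = 128 := h.card
      rw [q.card] at h1
      omega
    have key : ∀ a ∈ Q, ∀ y ∈ Q', ∀ r ∈ Q', r * ⁅a, y⁆ = ⁅a, y⁆ * r := by
      intro a ha y hy r hr
      have yn := q.nm (le hy)
      by_cases hc : Nat.card ↥(Q ⊓ centralizer {y}) ≤ 8
      · have KZ : Q ⊓ Q' = Q ⊓ centralizer {y} := eq_of_le_of_card_ge (ZK y hy) (by omega)
        have m : ⁅a, y⁆ ∈ Q ⊓ centralizer {y} := by
          refine ⟨comm_mem yn ha, mem_centralizer_singleton_iff.2 ?_⟩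
          have k := Bas.El.inv q.el (comm_mem yn ha)
          have yi := Bas.El.inv el hy
          calc ⁅a, y⁆ * y = ⁅a, y⁆⁻¹ * y := by rw [k]
            _ = y * (a * y⁻¹ * a⁻¹ * y) := by simp only [commutatorElement_def]; group
            _ = y * ⁅a, y⁆ := by rw [commutatorElement_def, yi]
        rw [← KZ] at m
        exact el.comm hr m.2
      have cK := card_mul (inf_le_left : Q ⊓ centralizer {y} ≤ Q)
      rw [q.card] at cK
      have iK : (Q ⊓ centralizer {y}).relIndex Q ≤ 2 := by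
        by_contra h3
        have h4 : (Q ⊓ centralizer {y}).relIndex Q < 4 := by nlinarith
        have h5 : (Q ⊓ centralizer {y}).relIndex Q = 3 := by omega
        rw [h5] at cK
        omega
      by_cases n : ⁅a, y⁆ = 1
      · simp [n]
      have ha' := Bas.nz_cj (q.nm (le hr)) ha
      have k := el.comm hr hy
      have e : r * ⁅a, y⁆ * r⁻¹ = ⁅r * a * r⁻¹, y⁆ := by
        calc r * ⁅a, y⁆ * r⁻¹ = r * a * r⁻¹ * (r * y) * a⁻¹ * (r * y)⁻¹ := by
              simp only [commutatorElement_def]; group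
          _ = ⁅r * a * r⁻¹, y⁆ := by rw [k]; simp only [commutatorElement_def]; group
      have n' : ⁅r * a * r⁻¹, y⁆ ≠ 1 := by
        intro e1
        apply n
        calc ⁅a, y⁆ = r⁻¹ * (r * ⁅a, y⁆ * r⁻¹) * r := by group
          _ = 1 := by rw [e, e1]; group
      rw [same q.el yn iK ha ha' n n'] at e
      calc r * ⁅a, y⁆ = r * ⁅a, y⁆ * r⁻¹ * r := by group
        _ = ⁅a, y⁆ * r := by rw [e]
    have key2 : ∀ a ∈ Q, ∀ y ∈ Q', ∀ r ∈ (Q : Set G) ∪ (Q' : Set G), r * ⁅a, y⁆ = ⁅a, y⁆ * r := by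
      rintro a ha y hy r (hr | hr)
      · exact q.el.comm hr (comm_mem (q.nm (le hy)) ha)
      · exact key a ha y hy r hr
    refine h.nc2 (c2_of_gen gen ?_)
    rintro a (ha | ha) y (hy | hy) r hr
    · simp [commutatorElement_eq_one_iff_mul_comm.2 (q.el.comm ha hy)]
    · exact key2 a ha y hy r hr
    · rw [← commutatorElement_inv]
      exact (Commute.inv_right (key2 y hy a ha r hr)).eq
    · simp [commutatorElement_eq_one_iff_mul_comm.2 (el.comm ha hy)]

/-- `card_le_sq`; order 32 is `cq`, order 16 gives the second subgroup `C_Q(t) ⟨t⟩` -/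
theorem Hyp.c8 (h : Hyp T) (q : NE32 T Q) {t : G} (ht : t ∈ (T : Subgroup G)) (tQ : t ∉ Q) (tt : t * t = 1) :
    Nat.card ↥(Q ⊓ centralizer {t}) = 8 := by
  have h1 := card_le_sq q.el (q.nm ht) (fun a _ => by simp [tt])
  have d : Nat.card ↥(Q ⊓ centralizer {t}) ∣ 32 := q.card ▸ card_dvd_of_le inf_le_left
  rw [q.card] at h1
  have n32 : Nat.card ↥(Q ⊓ centralizer {t}) ≠ 32 := by
    intro e
    have : Q ⊓ centralizer {t} = Q := eq_of_le_of_card_ge inf_le_left (by rw [e, q.card])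
    refine tQ (h.cq q ht fun a ha => ?_)
    rw [← this] at ha
    exact (mem_centralizer_singleton_iff.1 ha.2).symm
  have n16 : Nat.card ↥(Q ⊓ centralizer {t}) ≠ 16 := by
    intro e
    have tn : t ∈ Nz (Q ⊓ centralizer {t}) := by
      refine mem_normalizer_fintype fun a ha => ?_
      have k : a * t = t * a := mem_centralizer_singleton_iff.1 ha.2
      rw [← k, mul_inv_cancel_right]
      exact ha
    obtain ⟨P, hP, cP⟩ := exists_ad tn (by rw [tt]; exact one_mem _) (fun m => tQ m.1)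
    rw [e] at cP
    have e2 := h.uq q (Q' := P) (by
      intro u hu
      rcases (hP u).1 hu with a | a
      · exact q.le a.1
      · simpa using mul_mem (q.le a.1) ht) (by
      intro u hu
      rcases (hP u).1 hu with a | a
      · exact q.el u a.1
      · have k : u * t⁻¹ * t = t * (u * t⁻¹) := mem_centralizer_singleton_iff.1 a.2
        calc u * u = u * t⁻¹ * (t * (u * t⁻¹)) * t := by group
          _ = u * t⁻¹ * (u * t⁻¹) * (t * t) := by rw [← k]; group
          _ = 1 := by rw [q.el _ a.1, tt, one_mul]) cP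
    exact tQ (e2 ▸ (hP t).2 (Or.inr (by simp)))
  have l := Nat.le_of_dvd (by norm_num) d
  generalize Nat.card ↥(Q ⊓ centralizer {t}) = n at h1 d n32 n16 l ⊢
  interval_cases n <;> simp_all

/-- `card_le_sq` twice: `|ker N₁| ≥ 8`, `|ker N₁ ⊓ ker N₂|² ≥ 8` -/
theorem Hyp.c4 (h : Hyp T) (q : NE32 T Q) : 4 ≤ Nat.card ↥(Q ⊓ centralizer ((T : Subgroup G) : Set G)) := by
  have z4 := h.z4 q
  have FQ : Fr (T : Subgroup G) ≤ Q := Fr_le_iff.2 z4
  obtain ⟨t, ht, tQ⟩ : ∃ t ∈ (T : Subgroup G), t ∉ Q := by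
    by_contra hc
    push Not at hc
    have h1 := relIndex_eq_one.2 (show (T : Subgroup G) ≤ Q from hc)
    have h2 := idx h q
    omega
  obtain ⟨P, hP, cP⟩ := exists_ad (q.nm ht) (z4 t ht) tQ
  rw [q.card] at cP
  have PT : P ≤ T := by
    intro u hu
    rcases (hP u).1 hu with a | a
    · exact q.le a
    · simpa using mul_mem (q.le a) ht
  obtain ⟨s, sT, hs⟩ := dec64 h PT cP
  have h1 := card_le_sq q.el (q.nm ht) (fun a ha => q.el.comm (z4 t ht) ha)
  have d1 : Nat.card ↥(Q ⊓ centralizer {t}) ∣ 32 := q.card ▸ card_dvd_of_le inf_le_left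
  rw [q.card] at h1
  have sn : s ∈ Nz (Q ⊓ centralizer {t}) := by
    refine mem_normalizer_fintype fun a ha => ?_
    have k : a * t = t * a := mem_centralizer_singleton_iff.1 ha.2
    have k2 := q.el.comm ha.1 (FQ (comm_mem_Fr (inv_mem sT) ht))
    refine ⟨Bas.nz_cj (q.nm sT) ha.1, mem_centralizer_singleton_iff.2 ?_⟩
    calc s * a * s⁻¹ * t = s * (a * ⁅s⁻¹, t⁆) * t * s⁻¹ := by simp only [commutatorElement_def]; group
      _ = s * ⁅s⁻¹, t⁆ * (a * t) * s⁻¹ := by rw [k2]; group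
      _ = t * (s * a * s⁻¹) := by rw [k]; simp only [commutatorElement_def]; group
  have h2 := card_le_sq (A := Q ⊓ centralizer {t}) (fun a ha => q.el a ha.1) sn
    (fun a ha => q.el.comm (z4 s sT) ha.1)
  have d2 : Nat.card ↥((Q ⊓ centralizer {t}) ⊓ centralizer {s}) ∣ 32 :=
    q.card ▸ card_dvd_of_le (inf_le_left.trans inf_le_left)
  have hle : (Q ⊓ centralizer {t}) ⊓ centralizer {s} ≤ Q ⊓ centralizer ((T : Subgroup G) : Set G) := by
    intro a ha
    have k1 : a * t = t * a := mem_centralizer_singleton_iff.1 ha.1.2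
    have k2 : a * s = s * a := mem_centralizer_singleton_iff.1 ha.2
    have c1 : ∀ u ∈ P, u * a = a * u := by
      intro u hu
      rcases (hP u).1 hu with b | b
      · exact q.el.comm b ha.1.1
      · calc u * a = u * t⁻¹ * (t * a) := by group
          _ = u * t⁻¹ * a * t := by rw [← k1]; group
          _ = a * u := by rw [q.el.comm b ha.1.1]; group
    refine ⟨ha.1.1, fun u hu => ?_⟩
    rcases (hs u).1 hu with b | b
    · exact c1 u b
    · calc u * a = u * s⁻¹ * (s * a) := by group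
        _ = u * s⁻¹ * a * s := by rw [← k2]; group
        _ = a * u := by rw [c1 _ b]; group
  refine le_trans ?_ (card_le_of_le hle)
  have l8 : 8 ≤ Nat.card ↥(Q ⊓ centralizer {t}) := by
    by_contra hc
    have l : Nat.card ↥(Q ⊓ centralizer {t}) < 8 := not_le.1 hc
    generalize Nat.card ↥(Q ⊓ centralizer {t}) = n at h1 d1 l
    interval_cases n <;> simp_all
  by_contra hc
  have l : Nat.card ↥((Q ⊓ centralizer {t}) ⊓ centralizer {s}) < 4 := not_le.1 hc
  have h3 := l8.trans h2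
  generalize Nat.card ↥((Q ⊓ centralizer {t}) ⊓ centralizer {s}) = n at h3 d2 l
  interval_cases n <;> simp_all

end CL.J3O
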